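import Mathlib
import Cfsg.Prelude.Def_Local
import Cfsg.Prelude.Def_Involutions
import Cfsg.Agent.OddHalf.D4.CommConj
import Cfsg.Agent.OddHalf.D4.CaseOneA

/-!
# ODD, D4, small Lie odd: the local part of Theorem 1

`K ≤ G`, `z` an involution of `K`, `P = C_K(z)`, `R = O_2(P)` with `C_P(R) ≤ R`; `a`, `b` two commuting
involutions of `C(K')` normalizing `K` and centralizing `z`, where `K'` is another subgroup such that the
centralizers of the involutions of `C(K')` are in `N(K')`. If `z` is not in `C(K')` then `a`, `b` centralize `P`.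
-/

set_option autoImplicit false

namespace Cfsg.Agent.OddHalf.D4.Small

open Subgroup Cfsg

variable {G : Type*} [Group G]

/-- The local facts on `(K, z)`, inside `G`. -/
structure LocG (K R : Subgroup G) (z : G) : Prop where
  zK : z ∈ K
  z2 : z * z = 1
  z1 : z ≠ 1
  zR : z ∈ R
  RK : R ≤ K
  /-- `R` is central by elements of order 2: `R ≤ C(z)` -/
  Rz : ∀ r ∈ R, r * z = z * r
  Rn : ∀ p ∈ normalizer (K : Set G), p * z = z * p → ∀ r ∈ R, p * r * p⁻¹ ∈ R
  self : ∀ p ∈ K, p * z = z * p → (∀ r ∈ R, p * r = r * p) → p ∈ R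
  cyc : ∀ x ∈ R, (∀ r ∈ R, x * r = r * x) → x * x = 1 → x = 1 ∨ x = z
  sq : ∀ x ∈ R, x * x = 1 ∨ x * x = z
  comm : ∀ x ∈ R, ∀ y ∈ R, x * y = y * x ∨ x * y = y * x * z
  dc : ∀ x ∈ R, ∀ y ∈ R, x * x = 1 → y * y = 1 → (∀ r ∈ R, r * x = x * r → r * y = y * r) →
    y = 1 ∨ y = z ∨ y = x ∨ y = x * z
  lr : ∀ a ∈ normalizer (K : Set G), ∀ b ∈ normalizer (K : Set G), a * a = 1 → b * b = 1 → a * b = b * a →
    a * z = z * a → b * z = z * b → (∀ r ∈ R, a * r = r * a ↔ b * r = r * b) →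
    (∀ r ∈ R, a * r = r * a ↔ a * b * r = r * (a * b)) → ∀ r ∈ R, a * r = r * a
  lw : ∀ w ∈ R, w * w = 1 → w ≠ 1 → w ≠ z → ∀ b ∈ normalizer (K : Set G), b * b = 1 → b * z = z * b →
    b * w = w * b → (∀ r ∈ R, r * w = w * r → b * r * b⁻¹ = r ∨ b * r * b⁻¹ = r * w) →
    (∀ p ∈ K, p * z = z * p → b * p = p * b → p * w = w * p) →
    (∀ p ∈ K, p * z = z * p → w * b * p = p * (w * b) → p * w = w * p) → False

/-- `C(y) ≤ N(K')` for the involutions `y` of `C(K')`. -/
def TE (K' : Subgroup G) : Prop :=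
  ∀ y ∈ centralizer (K' : Set G), y * y = 1 → y ≠ 1 → ∀ x : G, x * y = y * x → x ∈ normalizer (K' : Set G)

theorem mem_centralizer_conj {K' : Subgroup G} {x y : G} (hx : x ∈ normalizer (K' : Set G))
    (hy : y ∈ centralizer (K' : Set G)) : x * y * x⁻¹ ∈ centralizer (K' : Set G) :=
  normalizer_le_centralizer_normalizer hx hy

theorem mem_centralizer_conj' {K' : Subgroup G} {x y : G} (hx : x ∈ normalizer (K' : Set G))
    (hy : y ∈ centralizer (K' : Set G)) : x⁻¹ * y * x ∈ centralizer (K' : Set G) := by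
  have h := mem_centralizer_conj (inv_mem hx) hy
  rwa [inv_inv] at h

/-- `(a, b)`: two commuting distinct involutions of `C(K')` normalizing `K` and centralizing `z`. -/
structure Two (K K' : Subgroup G) (z a b : G) : Prop where
  aN : a ∈ normalizer (K : Set G)
  bN : b ∈ normalizer (K : Set G)
  aC : a ∈ centralizer (K' : Set G)
  bC : b ∈ centralizer (K' : Set G)
  a2 : a * a = 1
  b2 : b * b = 1
  a1 : a ≠ 1
  b1 : b ≠ 1
  ab : a ≠ b
  com : a * b = b * a
  az : a * z = z * a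
  bz : b * z = z * b

namespace Two

variable {K K' : Subgroup G} {z a b : G}

theorem symm (h : Two K K' z a b) : Two K K' z b a :=
  ⟨h.bN, h.aN, h.bC, h.aC, h.b2, h.a2, h.b1, h.a1, h.ab.symm, h.com.symm, h.bz, h.az⟩

theorem mul1 (h : Two K K' z a b) : a * b ≠ 1 := by
  intro h1
  apply h.ab
  calc a = a * (b * b) := by rw [h.b2, mul_one]
    _ = (a * b) * b := by group
    _ = b := by rw [h1, one_mul]

theorem mul2 (h : Two K K' z a b) : (a * b) * (a * b) = 1 := by
  calc (a * b) * (a * b) = a * (b * a) * b := by group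
    _ = a * (a * b) * b := by rw [← h.com]
    _ = (a * a) * (b * b) := by group
    _ = 1 := by rw [h.a2, h.b2, mul_one]

theorem right (h : Two K K' z a b) : Two K K' z a (a * b) := by
  refine ⟨h.aN, mul_mem h.aN h.bN, h.aC, mul_mem h.aC h.bC, h.a2, h.mul2, h.a1, h.mul1, ?_, ?_, h.az, ?_⟩
  · intro h1
    exact h.b1 (by simpa using h1.symm)
  · calc a * (a * b) = a * (b * a) := by rw [h.com]
      _ = a * b * a := by group
  · calc a * b * z = a * (b * z) := by group
      _ = a * (z * b) := by rw [h.bz]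
      _ = (a * z) * b := by group
      _ = z * (a * b) := by rw [h.az]; group

end Two

theorem inv_eq_self_of {x : G} (h : x * x = 1) : x⁻¹ = x := inv_eq_of_mul_eq_one_left h

section CaseOne

variable {K K' R : Subgroup G} {z a b : G}

/-- If `C(K')` meets an `N(K)`-invariant-by-`a,b` set trivially then elements commuting with `a` commute with
`b`. -/
theorem comm_of_comm (te : TE K') {a b r : G} (haC : a ∈ centralizer (K' : Set G)) (ha2 : a * a = 1)
    (ha1 : a ≠ 1) (hbC : b ∈ centralizer (K' : Set G)) (hr : a * r = r * a)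
    (hJ : b * r * b⁻¹ * r⁻¹ ∈ centralizer (K' : Set G) → b * r * b⁻¹ * r⁻¹ = 1) : b * r = r * b := by
  have h1 : r ∈ normalizer (K' : Set G) := te a haC ha2 ha1 r hr.symm
  have h2 : b * r * b⁻¹ * r⁻¹ ∈ centralizer (K' : Set G) := by
    have h3 := mul_mem hbC (mem_centralizer_conj h1 (inv_mem hbC))
    have h4 : b * (r * b⁻¹ * r⁻¹) = b * r * b⁻¹ * r⁻¹ := by group
    rwa [h4] at h3
  have h3 := hJ h2
  calc b * r = (b * r * b⁻¹ * r⁻¹) * (r * b) := by group
    _ = r * b := by rw [h3, one_mul]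

/-- Case (I): `C(K') ∩ R = 1`. -/
theorem case_one (L : LocG K R z) (te : TE K') (hJ : ∀ x ∈ R, x ∈ centralizer (K' : Set G) → x = 1)
    (h : Two K K' z a b) : ∀ p ∈ K, p * z = z * p → a * p = p * a := by
  -- constant centralizers on `R`
  have key : ∀ a' b' : G, Two K K' z a' b' → ∀ r ∈ R, a' * r = r * a' → b' * r = r * b' := by
    intro a' b' h' r hr har
    refine comm_of_comm te h'.aC h'.a2 h'.a1 h'.bC har (hJ _ ?_)
    exact R.mul_mem (L.Rn b' h'.bN h'.bz r hr) (R.inv_mem hr)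
  have hcen : ∀ a' b' : G, Two K K' z a' b' → ∀ r ∈ R, a' * r = r * a' := by
    intro a' b' h'
    refine L.lr a' h'.aN b' h'.bN h'.a2 h'.b2 h'.com h'.az h'.bz ?_ ?_
    · exact fun r hr => ⟨key _ _ h' r hr, key _ _ h'.symm r hr⟩
    · exact fun r hr => ⟨key _ _ h'.right r hr, key _ _ h'.right.symm r hr⟩
  have ha := hcen a b h
  have hb := hcen b a h.symm
  -- `R ≤ N(K')`
  have hRN : R ≤ normalizer (K' : Set G) := fun r hr => te a h.aC h.a2 h.a1 r (ha r hr).symm
  -- `C(K') ∩ P = 1`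
  have hJP : ∀ x ∈ K, x * z = z * x → x ∈ centralizer (K' : Set G) → x = 1 := by
    intro x hxK hxz hxC
    refine hJ x ?_ hxC
    refine L.self x hxK hxz ?_
    intro r hr
    have h1 : x * r * x⁻¹ * r⁻¹ ∈ R := by
      have h2 : x ∈ normalizer (K : Set G) := le_normalizer hxK
      exact R.mul_mem (L.Rn x h2 hxz r hr) (R.inv_mem hr)
    have h2 : x * r * x⁻¹ * r⁻¹ ∈ centralizer (K' : Set G) := by
      have h3 := mul_mem hxC (mem_centralizer_conj (hRN hr) (inv_mem hxC))
      have h4 : x * (r * x⁻¹ * r⁻¹) = x * r * x⁻¹ * r⁻¹ := by group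
      rwa [h4] at h3
    have h3 := hJ _ h1 h2
    calc x * r = (x * r * x⁻¹ * r⁻¹) * (r * x) := by group
      _ = r * x := by rw [h3, one_mul]
  have comm_z : ∀ c p : G, c * z = z * c → p * z = z * p → (c * p * c⁻¹ * p⁻¹) * z = z * (c * p * c⁻¹ * p⁻¹) := by
    intro c p hc hp
    have hc' : c⁻¹ * z = z * c⁻¹ := by
      calc c⁻¹ * z = c⁻¹ * (z * c) * c⁻¹ := by group
        _ = c⁻¹ * (c * z) * c⁻¹ := by rw [hc]
        _ = z * c⁻¹ := by group
    have hp' : p⁻¹ * z = z * p⁻¹ := by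
      calc p⁻¹ * z = p⁻¹ * (z * p) * p⁻¹ := by group
        _ = p⁻¹ * (p * z) * p⁻¹ := by rw [hp]
        _ = z * p⁻¹ := by group
    calc (c * p * c⁻¹ * p⁻¹) * z = c * p * c⁻¹ * (p⁻¹ * z) := by group
      _ = c * p * (c⁻¹ * z) * p⁻¹ := by rw [hp']; group
      _ = c * (p * z) * c⁻¹ * p⁻¹ := by rw [hc']; group
      _ = (c * z) * p * c⁻¹ * p⁻¹ := by rw [hp]; group
      _ = z * (c * p * c⁻¹ * p⁻¹) := by rw [hc]; group
  have keyP : ∀ a' b' : G, Two K K' z a' b' → ∀ p ∈ K, p * z = z * p → a' * p = p * a' → b' * p = p * b' := by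
    intro a' b' h' p hp hpz hap
    refine comm_of_comm te h'.aC h'.a2 h'.a1 h'.bC hap (hJP _ ?_ (comm_z b' p h'.bz hpz))
    exact K.mul_mem ((mem_normalizer_iff.mp h'.bN p).mp hp) (K.inv_mem hp)
  -- the commutator with an involution centralizing `R`
  have hcom : ∀ c ∈ normalizer (K : Set G), c * c = 1 → c * z = z * c → (∀ r ∈ R, c * r = r * c) →
      ∀ p ∈ K, p * z = z * p → c * p * c⁻¹ = p ∨ c * p * c⁻¹ = z * p := by
    intro c hcN hc2 hcz hcR p hp hpz
    have he : c * p * c⁻¹ * p⁻¹ ∈ K := K.mul_mem ((mem_normalizer_iff.mp hcN p).mp hp) (K.inv_mem hp)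
    have hez := comm_z c p hcz hpz
    have hpN : p ∈ normalizer (K : Set G) := le_normalizer hp
    have hpN' : p⁻¹ ∈ normalizer (K : Set G) := inv_mem hpN
    have hpz' : p⁻¹ * z = z * p⁻¹ := by
      calc p⁻¹ * z = p⁻¹ * (z * p) * p⁻¹ := by group
        _ = p⁻¹ * (p * z) * p⁻¹ := by rw [hpz]
        _ = z * p⁻¹ := by group
    have heR : ∀ r ∈ R, (c * p * c⁻¹ * p⁻¹) * r = r * (c * p * c⁻¹ * p⁻¹) := by
      intro r hr
      have h1 : p⁻¹ * r * p ∈ R := by
        have := L.Rn p⁻¹ hpN' hpz' r hr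
        rwa [inv_inv] at this
      have h2 := hcR _ h1
      have h3 : c⁻¹ * (p⁻¹ * r * p) = (p⁻¹ * r * p) * c⁻¹ := by
        calc c⁻¹ * (p⁻¹ * r * p) = c⁻¹ * ((p⁻¹ * r * p) * c) * c⁻¹ := by group
          _ = c⁻¹ * (c * (p⁻¹ * r * p)) * c⁻¹ := by rw [h2]
          _ = (p⁻¹ * r * p) * c⁻¹ := by group
      calc (c * p * c⁻¹ * p⁻¹) * r = c * p * (c⁻¹ * (p⁻¹ * r * p)) * p⁻¹ := by group
        _ = c * p * ((p⁻¹ * r * p) * c⁻¹) * p⁻¹ := by rw [h3]
        _ = (c * r) * p * c⁻¹ * p⁻¹ := by group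
        _ = r * (c * p * c⁻¹ * p⁻¹) := by rw [hcR r hr]; group
    have heR' : c * p * c⁻¹ * p⁻¹ ∈ R := L.self _ he hez heR
    have hce : c * (c * p * c⁻¹ * p⁻¹) = (c * p * c⁻¹ * p⁻¹) * c := hcR _ heR'
    have he2 : (c * p * c⁻¹ * p⁻¹) * (c * p * c⁻¹ * p⁻¹) = 1 := by
      have hci := inv_eq_self_of hc2
      -- `e = c p c p⁻¹`, and `c e c⁻¹ = e` gives `e = p c p⁻¹ c = e⁻¹`
      have h1 : c * (c * p * c⁻¹ * p⁻¹) * c⁻¹ = c * p * c⁻¹ * p⁻¹ := by rw [hce]; group
      have h2 : c * (c * p * c⁻¹ * p⁻¹) * c⁻¹ = (c * p * c⁻¹ * p⁻¹)⁻¹ := by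
        calc c * (c * p * c⁻¹ * p⁻¹) * c⁻¹ = (c * c) * p * c⁻¹ * p⁻¹ * c⁻¹ := by group
          _ = p * c * p⁻¹ * c⁻¹ := by rw [hc2, hci, one_mul]
          _ = (c * p * c⁻¹ * p⁻¹)⁻¹ := by group
      have h3 : c * p * c⁻¹ * p⁻¹ = (c * p * c⁻¹ * p⁻¹)⁻¹ := h1.symm.trans h2
      nth_rewrite 2 [h3]
      exact mul_inv_cancel _
    rcases L.cyc _ heR' (fun r hr => heR r hr) he2 with h1 | h1
    · left
      calc c * p * c⁻¹ = (c * p * c⁻¹ * p⁻¹) * p := by group
        _ = p := by rw [h1, one_mul]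
    · right
      calc c * p * c⁻¹ = (c * p * c⁻¹ * p⁻¹) * p := by group
        _ = z * p := by rw [h1]
  intro p hp hpz
  by_contra hne
  have h1 : a * p * a⁻¹ = z * p := by
    rcases hcom a h.aN h.a2 h.az ha p hp hpz with h1 | h1
    · exfalso
      apply hne
      calc a * p = (a * p * a⁻¹) * a := by group
        _ = p * a := by rw [h1]
    · exact h1
  have h2 : b * p * b⁻¹ = z * p := by
    rcases hcom b h.bN h.b2 h.bz hb p hp hpz with h2 | h2
    · exfalso
      apply hne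
      refine keyP b a h.symm p hp hpz ?_
      calc b * p = (b * p * b⁻¹) * b := by group
        _ = p * b := by rw [h2]
    · exact h2
  have h3 : a * b * p = p * (a * b) := by
    calc a * b * p = a * (b * p * b⁻¹) * b := by group
      _ = (a * z) * p * b := by rw [h2]; group
      _ = z * (a * p * a⁻¹) * a * b := by rw [h.az]; group
      _ = (z * z) * p * (a * b) := by rw [h1]; group
      _ = p * (a * b) := by rw [L.z2, one_mul]
  exact hne (keyP (a * b) a h.right.symm p hp hpz h3)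

end CaseOne

section CaseTwo

variable {K K' R : Subgroup G} {z a b : G}

/-- Case (II): `z ∉ C(K')` but `C(K') ∩ R ≠ 1`. -/
theorem case_two (L : LocG K R z) (te : TE K') (hz : z ∉ centralizer (K' : Set G)) {w : G} (hw : w ∈ R)
    (hwC : w ∈ centralizer (K' : Set G)) (hw1 : w ≠ 1) (h : Two K K' z a b) : False := by
  have hsq : ∀ x ∈ R, x ∈ centralizer (K' : Set G) → x * x = 1 := by
    intro x hx hxC
    rcases L.sq x hx with h1 | h1
    · exact h1
    · exact absurd (h1 ▸ mul_mem hxC hxC) hz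
  have hw2 := hsq w hw hwC
  have hwz : w ≠ z := by rintro rfl; exact hz hwC
  -- `R ∩ C(K') = ⟨w⟩`
  have huniq : ∀ x ∈ R, x ∈ centralizer (K' : Set G) → x = 1 ∨ x = w := by
    intro x hx hxC
    have hx2 := hsq x hx hxC
    have h1 : ∀ r ∈ R, r * w = w * r → r * x = x * r := by
      intro r hr hrw
      have hrN : r ∈ normalizer (K' : Set G) := te w hwC hw2 hw1 r hrw
      have h2 : r * x * r⁻¹ * x⁻¹ ∈ centralizer (K' : Set G) :=
        mul_mem (mem_centralizer_conj hrN hxC) (inv_mem hxC)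
      rcases L.comm r hr x hx with h3 | h3
      · exact h3
      · exfalso
        apply hz
        have h4 : r * x * r⁻¹ * x⁻¹ = z := by
          have h5 := L.Rz r hr
          have h6 := L.Rz x hx
          calc r * x * r⁻¹ * x⁻¹ = x * r * z * r⁻¹ * x⁻¹ := by rw [h3]
            _ = x * (r * z) * r⁻¹ * x⁻¹ := by group
            _ = (x * z) * x⁻¹ := by rw [h5]; group
            _ = z := by rw [h6]; group
        rwa [h4] at h2
    rcases L.dc w hw x hx hw2 hx2 h1 with h2 | h2 | h2 | h2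
    · exact Or.inl h2
    · rw [h2] at hxC; exact absurd hxC hz
    · exact Or.inr h2
    · exfalso
      apply hz
      have h3 := mul_mem (inv_mem hwC) hxC
      rw [h2] at h3
      have h4 : w⁻¹ * (w * z) = z := by group
      rwa [h4] at h3
  -- elements of `P ∩ N(K')` commute with `w`
  have hN : ∀ p ∈ normalizer (K : Set G), p * z = z * p → p ∈ normalizer (K' : Set G) → p * w = w * p := by
    intro p hpK hpz hpN
    have h1 := L.Rn p hpK hpz w hw
    have h2 := mem_centralizer_conj hpN hwC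
    rcases huniq _ h1 h2 with h3 | h3
    · exfalso
      apply hw1
      have h4 : w = p⁻¹ * (p * w * p⁻¹) * p := by group
      rw [h4, h3]
      group
    · calc p * w = (p * w * p⁻¹) * p := by group
        _ = w * p := by rw [h3]
  have hCN : ∀ x ∈ centralizer (K' : Set G), x ∈ normalizer (K' : Set G) := fun x hx =>
    centralizer_le_normalizer' K' hx
  -- the contradiction for an involution `c ≠ w`
  have main : ∀ c : G, c ∈ normalizer (K : Set G) → c ∈ centralizer (K' : Set G) → c * c = 1 → c ≠ 1 →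
      c ≠ w → c * z = z * c → False := by
    intro c hcN hcC hc2 hc1 hcw hcz
    have hcomw : c * w = w * c := hN c hcN hcz (hCN c hcC)
    refine L.lw w hw hw2 hw1 hwz c hcN hc2 hcz hcomw ?_ ?_ ?_
    · intro r hr hrw
      have hrN : r ∈ normalizer (K' : Set G) := te w hwC hw2 hw1 r hrw
      have h1 : r⁻¹ * (c * r * c⁻¹) ∈ R := R.mul_mem (R.inv_mem hr) (L.Rn c hcN hcz r hr)
      have h2 : r⁻¹ * (c * r * c⁻¹) ∈ centralizer (K' : Set G) := by
        have h3 := mul_mem (mem_centralizer_conj' hrN hcC) (inv_mem hcC)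
        have h4 : r⁻¹ * c * r * c⁻¹ = r⁻¹ * (c * r * c⁻¹) := by group
        rwa [h4] at h3
      rcases huniq _ h1 h2 with h3 | h3
      · left
        exact (inv_mul_eq_one.mp h3).symm
      · right
        calc c * r * c⁻¹ = r * (r⁻¹ * (c * r * c⁻¹)) := by group
          _ = r * w := by rw [h3]
    · intro p hp hpz hcp
      exact hN p (le_normalizer hp) hpz (te c hcC hc2 hc1 p hcp.symm)
    · intro p hp hpz hcp
      have h1 : (w * c) * (w * c) = 1 := by
        calc (w * c) * (w * c) = w * (c * w) * c := by group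
          _ = (w * w) * (c * c) := by rw [hcomw]; group
          _ = 1 := by rw [hw2, hc2, mul_one]
      have h2 : w * c ≠ 1 := by
        intro h2
        apply hcw
        calc c = (w * w) * c := by rw [hw2, one_mul]
          _ = w * (w * c) := by group
          _ = w := by rw [h2, mul_one]
      exact hN p (le_normalizer hp) hpz (te (w * c) (mul_mem hwC hcC) h1 h2 p hcp.symm)
  by_cases haw : a = w
  · exact main b h.bN h.bC h.b2 h.b1 (fun hb => h.ab (haw.trans hb.symm)) h.bz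
  · exact main a h.aN h.aC h.a2 h.a1 haw h.az

/-- **(I) and (II)**: if `z ∉ C(K')` then `a` and `b` centralize `C_K(z)`. -/
theorem centralizes (L : LocG K R z) (te : TE K') (hz : z ∉ centralizer (K' : Set G)) (h : Two K K' z a b) :
    (∀ p ∈ K, p * z = z * p → a * p = p * a) ∧ ∀ p ∈ K, p * z = z * p → b * p = p * b := by
  have hJ : ∀ x ∈ R, x ∈ centralizer (K' : Set G) → x = 1 := by
    intro x hx hxC
    by_contra hx1
    exact case_two L te hz hx hxC hx1 h
  exact ⟨case_one L te hJ h, case_one L te hJ h.symm⟩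

end CaseTwo

end Cfsg.Agent.OddHalf.D4.Small
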