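import Mathlib
import Cfsg.Agent.OddHalf.D4.Small.Local

/-!
# ODD, D4, small Lie odd: Theorem 1

`K`, `K'` two subgroups with the local facts, no common involution in `C(K)`, `C(K')`. Then `C(K') ∩ N(K)` has
2-rank at most 1.
-/

set_option autoImplicit false

namespace Cfsg.Agent.OddHalf.D4.Small

open Subgroup Cfsg Basic

variable {G : Type*} [Group G]

/-- The data attached to a Sylow 2-subgroup `S` of `N(K)`. -/
structure AtS (K S R : Subgroup G) (z : G) : Prop where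
  loc : LocG K R z
  zS : z ∈ S
  zc : ∀ s ∈ S, s * z = z * s
  uniq : ∀ x ∈ S, x ∈ K → x * x = 1 → x ≠ 1 → (∀ s ∈ S, s ∈ K → s * x = x * s) → x = z

/-- The facts on `K` used for every Sylow 2-subgroup of `N(K)`. -/
structure Base (K : Subgroup G) : Prop where
  te : TE K
  cen : ∀ x ∈ K, x ∈ centralizer (K : Set G) → x = 1
  simp : ∀ N : Subgroup G, N ≤ K → (∀ a ∈ K, ∀ n ∈ N, a * n * a⁻¹ ∈ N) → N = ⊥ ∨ N = K
  at_ : ∀ S : Subgroup G, IsSyl S (normalizer (K : Set G)) → ∃ (z : G) (R : Subgroup G), AtS K S R z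
  /-- `m_2(C(K)) ≥ 2` -/
  rk : ∃ a ∈ centralizer (K : Set G), ∃ b ∈ centralizer (K : Set G), a * a = 1 ∧ b * b = 1 ∧ a ≠ 1 ∧ b ≠ 1 ∧
    a ≠ b ∧ a * b = b * a

/-- (F1): 2-elements centralizing a Sylow 2-subgroup of `K` induce inner automorphisms by its center. -/
def FOne (K : Subgroup G) : Prop :=
  ∀ S : Subgroup G, IsSyl S (normalizer (K : Set G)) → ∀ y ∈ S, (∀ s ∈ S, s ∈ K → s * y = y * s) →
    ∃ k ∈ centralizer (K : Set G), ∃ s ∈ S, s ∈ K ∧ (∀ u ∈ S, u ∈ K → u * s = s * u) ∧ y = k * s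

/-- `K` has no strongly embedded subgroup. -/
def NoSE (K : Subgroup G) : Prop :=
  ∀ D : Subgroup G, D ≤ K → D ≠ K → ∀ T : Subgroup G, IsSyl T K → T ≤ D →
    (∀ s ∈ T, s * s = 1 → s ≠ 1 → ∀ x ∈ K, x * s = s * x → x ∈ D) → False

theorem isPGroup_pair [Finite G] {a b : G} (ha : a * a = 1) (hb : b * b = 1) (hab : a * b = b * a) :
    IsPGroup 2 ↥(closure ({a, b} : Set G)) := by
  have hc : ∀ x ∈ closure ({a, b} : Set G), x * x = 1 ∧ x * a = a * x ∧ x * b = b * x := by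
    intro x hx
    induction hx using closure_induction with
    | mem y hy =>
      rcases hy with rfl | hy
      · exact ⟨ha, rfl, hab⟩
      · rw [Set.mem_singleton_iff] at hy
        subst hy
        exact ⟨hb, hab.symm, rfl⟩
    | one => simp
    | mul x y hx hy h1 h2 =>
      have hxy : x * y = y * x := by
        have key : ∀ u ∈ closure ({a, b} : Set G), u * x = x * u := by
          intro u hu
          induction hu using closure_induction with
          | mem v hv =>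
            rcases hv with rfl | hv
            · exact h1.2.1.symm
            · rw [Set.mem_singleton_iff] at hv
              subst hv
              exact h1.2.2.symm
          | one => simp
          | mul u v _ _ hu hv => rw [mul_assoc, hv, ← mul_assoc, hu, mul_assoc]
          | inv u _ hu =>
            calc u⁻¹ * x = u⁻¹ * (x * u) * u⁻¹ := by group
              _ = u⁻¹ * (u * x) * u⁻¹ := by rw [hu]
              _ = x * u⁻¹ := by group
        exact (key y hy).symm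
      refine ⟨?_, ?_, ?_⟩
      · calc x * y * (x * y) = x * (y * x) * y := by group
          _ = x * (x * y) * y := by rw [hxy]
          _ = (x * x) * (y * y) := by group
          _ = 1 := by rw [h1.1, h2.1, mul_one]
      · rw [mul_assoc, h2.2.1, ← mul_assoc, h1.2.1, mul_assoc]
      · rw [mul_assoc, h2.2.2, ← mul_assoc, h1.2.2, mul_assoc]
    | inv x _ h =>
      have : x⁻¹ = x := inv_eq_of_mul_eq_one_left h.1
      rw [this]
      exact h
  intro g
  refine ⟨1, ?_⟩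
  have h1 := (hc g g.2).1
  apply Subtype.ext
  simpa [pow_two] using h1

theorem IsSyl.inf_K [Finite G] {K S : Subgroup G} (h : IsSyl S (normalizer (K : Set G))) : IsSyl (S ⊓ K) K :=
  h.inf le_normalizer h.le

theorem mul_self_split {K : Subgroup G} (cen : ∀ x ∈ K, x ∈ centralizer (K : Set G) → x = 1) {k s : G}
    (hk : k ∈ centralizer (K : Set G)) (hs : s ∈ K) (hy : (k * s) * (k * s) = 1) : k * k = 1 ∧ s * s = 1 := by
  have h1 : s * k = k * s := comm_of_centralizer hk hs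
  have h2 : (k * k) * (s * s) = 1 := by
    calc (k * k) * (s * s) = k * (k * s) * s := by group
      _ = k * (s * k) * s := by rw [h1]
      _ = (k * s) * (k * s) := by group
      _ = 1 := hy
  have h3 : k * k = (s * s)⁻¹ := eq_inv_of_mul_eq_one_left h2
  have h4 : k * k = 1 := cen _ (by rw [h3]; exact K.inv_mem (K.mul_mem hs hs)) (mul_mem hk hk)
  refine ⟨h4, ?_⟩
  rw [h4, one_mul] at h2
  exact h2

/-- Step A: `z ∈ C(K')`. -/
theorem z_mem {K K' S R : Subgroup G} {z a b : G} (hK : Base K) (f1 : FOne K) (te' : TE K')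
    (nc : ∀ x ∈ centralizer (K : Set G), x ∈ centralizer (K' : Set G) → x * x = 1 → x = 1)
    (hS : IsSyl S (normalizer (K : Set G))) (hA : AtS K S R z) (haS : a ∈ S) (hbS : b ∈ S)
    (haC : a ∈ centralizer (K' : Set G)) (hbC : b ∈ centralizer (K' : Set G)) (ha2 : a * a = 1)
    (hb2 : b * b = 1) (ha1 : a ≠ 1) (hb1 : b ≠ 1) (hne : a ≠ b) (hab : a * b = b * a) :
    z ∈ centralizer (K' : Set G) := by
  by_contra hz
  have hT : Two K K' z a b := ⟨hS.le haS, hS.le hbS, haC, hbC, ha2, hb2, ha1, hb1, hne, hab, hA.zc a haS,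
    hA.zc b hbS⟩
  obtain ⟨h1, h2⟩ := centralizes hA.loc te' hz hT
  have key : ∀ c ∈ S, c ∈ centralizer (K' : Set G) → c * c = 1 → c ≠ 1 →
      (∀ p ∈ K, p * z = z * p → c * p = p * c) → ∃ k ∈ centralizer (K : Set G), c = k * z := by
    intro c hcS hcC hc2 hc1 hcP
    obtain ⟨k, hk, s, hsS, hsK, hsc, hcks⟩ := f1 S hS c hcS (fun s hs hsK => (hcP s hsK (hA.zc s hs)).symm)
    obtain ⟨hk2, hs2⟩ := mul_self_split hK.cen hk hsK (by rw [← hcks]; exact hc2)
    have hs1 : s ≠ 1 := by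
      rintro rfl
      rw [mul_one] at hcks
      apply hc1
      exact nc c (hcks ▸ hk) hcC hc2
    have hsz := hA.uniq s hsS hsK hs2 hs1 hsc
    exact ⟨k, hk, by rw [hcks, hsz]⟩
  obtain ⟨k, hk, hak⟩ := key a haS haC ha2 ha1 h1
  obtain ⟨k', hk', hbk⟩ := key b hbS hbC hb2 hb1 h2
  apply hT.mul1
  refine nc (a * b) ?_ (mul_mem haC hbC) hT.mul2
  have h3 : a * b = k * k' := by
    have h4 : z * k' = k' * z := comm_of_centralizer hk' hA.loc.zK
    calc a * b = k * (z * k') * z := by rw [hak, hbk]; group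
      _ = k * k' * (z * z) := by rw [h4]; group
      _ = k * k' := by rw [hA.loc.z2, mul_one]
  rw [h3]
  exact mul_mem hk hk'

/-- Step C: the Sylow 2-subgroup of `N(K) ∩ N(K')`. -/
theorem sylow_inf [Finite G] {K K' S R : Subgroup G} {z : G} (te' : TE K')
    (hS : IsSyl S (normalizer (K : Set G))) (hA : AtS K S R z) (hz : z ∈ centralizer (K' : Set G))
    {T S₁ R₁ : Subgroup G} {z₁ : G} (hT : IsSyl T (normalizer (K : Set G) ⊓ normalizer (K' : Set G)))
    (hS₁ : IsSyl S₁ (normalizer (K : Set G))) (hTS : T ≤ S₁) (hA₁ : AtS K S₁ R₁ z₁) :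
    S₁ ⊓ K = T ⊓ K ∧ z₁ ∈ centralizer (K' : Set G) := by
  -- `S ∩ K ≤ N(K')`
  have hSK : S ⊓ K ≤ K ⊓ normalizer (K' : Set G) := by
    intro s hs
    exact ⟨hs.2, te' z hz hA.loc.z2 hA.loc.z1 s (hA.zc s hs.1)⟩
  have hI : K ⊓ normalizer (K' : Set G) ≤ normalizer (K : Set G) ⊓ normalizer (K' : Set G) :=
    inf_le_inf_right _ le_normalizer
  have hTI : T ≤ normalizer ((K ⊓ normalizer (K' : Set G) : Subgroup G) : Set G) := by
    intro t ht
    have h1 := hT.le ht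
    rw [mem_normalizer_iff]
    intro x
    constructor
    · intro hx
      exact mem_inf.mpr ⟨(mem_normalizer_iff.mp h1.1 x).mp hx.1,
        (normalizer (K' : Set G)).mul_mem ((normalizer (K' : Set G)).mul_mem h1.2 hx.2)
          ((normalizer (K' : Set G)).inv_mem h1.2)⟩
    · intro hx
      refine mem_inf.mpr ⟨(mem_normalizer_iff.mp h1.1 x).mpr hx.1, ?_⟩
      have h2 := (normalizer (K' : Set G)).mul_mem ((normalizer (K' : Set G)).mul_mem
        ((normalizer (K' : Set G)).inv_mem h1.2) hx.2) h1.2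
      have h3 : t⁻¹ * (t * x * t⁻¹) * t = x := by group
      rwa [h3] at h2
  obtain ⟨m, hm, hmS⟩ := hT.conj_into_inf hI hTI (hS.two.to_le inf_le_left) hSK
  -- cardinalities
  have hmap : (S ⊓ K).map (MulAut.conj m).toMonoidHom ≤ T ⊓ K := by
    rintro _ ⟨q, hq, rfl⟩
    exact ⟨(hmS q hq).1, (hmS q hq).2.1⟩
  have hcard : Nat.card ↥((S ⊓ K).map (MulAut.conj m).toMonoidHom) = Nat.card ↥(S ⊓ K) :=
    (Nat.card_congr ((S ⊓ K).equivMapOfInjective _ (MulAut.conj m).injective).toEquiv).symm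
  have hSylK : IsSyl (S ⊓ K) K := IsSyl.inf_K hS
  have hSylK₁ : IsSyl (S₁ ⊓ K) K := IsSyl.inf_K hS₁
  have hc1 : Nat.card ↥(S₁ ⊓ K) ≤ Nat.card ↥(S ⊓ K) := by
    obtain ⟨u, hu, huq⟩ := hSylK.conj_into hSylK₁.two hSylK₁.le
    have h1 : (S₁ ⊓ K).map (MulAut.conj u).toMonoidHom ≤ S ⊓ K := by
      rintro _ ⟨q, hq, rfl⟩
      exact huq q hq
    rw [Nat.card_congr ((S₁ ⊓ K).equivMapOfInjective (MulAut.conj u).toMonoidHom
      (MulAut.conj u).injective).toEquiv]
    exact Subgroup.card_le_of_le h1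
  have hle : T ⊓ K ≤ S₁ ⊓ K := inf_le_inf_right _ hTS
  have hc2 : Nat.card ↥(S ⊓ K) ≤ Nat.card ↥(T ⊓ K) := by
    rw [← hcard]
    exact Subgroup.card_le_of_le hmap
  have heq : T ⊓ K = S₁ ⊓ K := eq_of_le_of_card_ge hle (hc1.trans hc2)
  have heq2 : (S ⊓ K).map (MulAut.conj m).toMonoidHom = T ⊓ K := by
    refine eq_of_le_of_card_ge hmap ?_
    rw [hcard]
    calc Nat.card ↥(T ⊓ K) = Nat.card ↥(S₁ ⊓ K) := by rw [heq]
      _ ≤ _ := hc1
  refine ⟨heq.symm, ?_⟩
  have hz1 : m * z * m⁻¹ = z₁ := by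
    have h1 : m * z * m⁻¹ ∈ T ⊓ K := ⟨(hmS z ⟨hA.zS, hA.loc.zK⟩).1, (hmS z ⟨hA.zS, hA.loc.zK⟩).2.1⟩
    have h2 := heq ▸ h1
    refine hA₁.uniq _ h2.1 h2.2 ?_ ?_ ?_
    · calc m * z * m⁻¹ * (m * z * m⁻¹) = m * (z * z) * m⁻¹ := by group
        _ = 1 := by rw [hA.loc.z2]; group
    · intro h3
      apply hA.loc.z1
      have h4 : z = m⁻¹ * (m * z * m⁻¹) * m := by group
      rw [h4, h3]
      group
    · intro s hs hsK
      have h3 : s ∈ T ⊓ K := by rw [heq]; exact ⟨hs, hsK⟩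
      rw [← heq2] at h3
      obtain ⟨q, hq, rfl⟩ := h3
      have h4 := hA.zc q hq.1
      show m * q * m⁻¹ * (m * z * m⁻¹) = m * z * m⁻¹ * (m * q * m⁻¹)
      calc m * q * m⁻¹ * (m * z * m⁻¹) = m * (q * z) * m⁻¹ := by group
        _ = m * (z * q) * m⁻¹ := by rw [h4]
        _ = m * z * m⁻¹ * (m * q * m⁻¹) := by group
  rw [← hz1]
  exact mem_centralizer_conj hm.2 hz

/-- **Theorem 1.** -/
theorem rank_le_one [Finite G] {K K' : Subgroup G} (hK : Base K) (hK' : Base K') (f1 : FOne K) (f1' : FOne K')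
    (nse : NoSE K) (nc : ∀ x ∈ centralizer (K : Set G), x ∈ centralizer (K' : Set G) → x * x = 1 → x = 1)
    (hcom : ¬ K ≤ centralizer (K' : Set G))
    {a b : G} (haN : a ∈ normalizer (K : Set G)) (hbN : b ∈ normalizer (K : Set G))
    (haC : a ∈ centralizer (K' : Set G)) (hbC : b ∈ centralizer (K' : Set G)) (ha2 : a * a = 1)
    (hb2 : b * b = 1) (ha1 : a ≠ 1) (hb1 : b ≠ 1) (hne : a ≠ b) (hab : a * b = b * a) : False := by
  have nc' : ∀ x ∈ centralizer (K' : Set G), x ∈ centralizer (K : Set G) → x * x = 1 → x = 1 :=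
    fun x h1 h2 h3 => nc x h2 h1 h3
  have mem_cl : ∀ a b : G, a ∈ closure ({a, b} : Set G) ∧ b ∈ closure ({a, b} : Set G) := fun a b =>
    ⟨subset_closure (by simp), subset_closure (by simp)⟩
  have cl_le : ∀ (a b : G) (H : Subgroup G), a ∈ H → b ∈ H → closure ({a, b} : Set G) ≤ H := by
    intro a b H ha hb
    rw [closure_le]
    rintro x (rfl | hx)
    · exact ha
    · rw [Set.mem_singleton_iff] at hx
      subst hx
      exact hb
  -- the first Sylow subgroup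
  obtain ⟨S, hS, hle⟩ := exists_isSyl (isPGroup_pair ha2 hb2 hab) (cl_le a b _ haN hbN)
  obtain ⟨z, R, hA⟩ := hK.at_ S hS
  have hz := z_mem hK f1 hK'.te nc hS hA (hle (mem_cl a b).1) (hle (mem_cl a b).2) haC hbC ha2 hb2 ha1 hb1
    hne hab
  -- the second one
  have hCN : centralizer (K : Set G) ≤ normalizer (K' : Set G) := by
    intro x hx
    exact hK'.te z hz hA.loc.z2 hA.loc.z1 x (comm_of_centralizer hx hA.loc.zK).symm
  obtain ⟨c, hc, d, hd, hc2, hd2, hc1, hd1, hcd, hcdc⟩ := hK.rk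
  obtain ⟨S', hS', hle'⟩ := exists_isSyl (isPGroup_pair hc2 hd2 hcdc) (cl_le c d _ (hCN hc) (hCN hd))
  obtain ⟨z', R', hA'⟩ := hK'.at_ S' hS'
  have hz' := z_mem hK' f1' hK.te nc' hS' hA' (hle' (mem_cl c d).1) (hle' (mem_cl c d).2) hc hd hc2 hd2 hc1
    hd1 hcd hcdc
  -- the common Sylow subgroup
  obtain ⟨T, hT, -⟩ := exists_isSyl (M := normalizer (K : Set G) ⊓ normalizer (K' : Set G))
    (Q := (⊥ : Subgroup G)) IsPGroup.of_bot bot_le
  obtain ⟨S₁, hS₁, hTS₁⟩ := exists_isSyl hT.two (hT.le.trans inf_le_left)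
  obtain ⟨z₁, R₁, hA₁⟩ := hK.at_ S₁ hS₁
  obtain ⟨hTK, hz₁⟩ := sylow_inf hK'.te hS hA hz hT hS₁ hTS₁ hA₁
  have hT' : IsSyl T (normalizer (K' : Set G) ⊓ normalizer (K : Set G)) := by rw [inf_comm]; exact hT
  obtain ⟨S₂, hS₂, hTS₂⟩ := exists_isSyl hT'.two (hT'.le.trans inf_le_left)
  obtain ⟨z₂, R₂, hA₂⟩ := hK'.at_ S₂ hS₂
  obtain ⟨hTK', hz₂⟩ := sylow_inf hK.te hS' hA' hz' hT' hS₂ hTS₂ hA₂
  -- `T ∩ K ∩ K' = 1`
  have hTKK : ∀ x ∈ T, x ∈ K → x ∈ K' → x = 1 := by
    intro x hxT hxK hxK'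
    by_contra hx1
    obtain ⟨y, hyT, hyN, hy2, hyc⟩ := CommConj.exists_central_involution (S := T ⊓ K) (N := K ⊓ K')
      (hT.two.to_le inf_le_left) (by
        intro s hs n hn
        refine ⟨K.mul_mem (K.mul_mem hs.2 hn.1) (K.inv_mem hs.2), ?_⟩
        exact (mem_normalizer_iff.mp (hT.le hs.1).2 n).mp hn.2)
      ⟨x, ⟨hxT, hxK⟩, ⟨hxK, hxK'⟩, hx1⟩
    have hy22 : y * y = 1 := sq_one hy2
    have hy1 : y ≠ 1 := by
      rintro rfl
      rw [orderOf_one] at hy2
      exact absurd hy2 (by norm_num)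
    have h1 : y = z₁ := by
      refine hA₁.uniq y (hTS₁ hyT.1) hyT.2 hy22 hy1 ?_
      intro s hs hsK
      have h2 : s ∈ T ⊓ K := by rw [← hTK]; exact ⟨hs, hsK⟩
      exact hyc s h2
    apply hy1
    refine hK'.cen y hyN.2 ?_
    rw [h1]
    exact hz₁
  -- the centralizers of the involutions of `T ∩ K`
  have hmain : ∀ s ∈ T ⊓ K, s * s = 1 → s ≠ 1 → ∀ x ∈ K, x * s = s * x → x ∈ K ⊓ normalizer (K' : Set G) := by
    intro s hs hs2 hs1 x hx hxs
    refine ⟨hx, ?_⟩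
    have hsc : ∀ u ∈ S₂, u ∈ K' → u * s = s * u := by
      intro u hu huK
      have hu' : u ∈ T ⊓ K' := by rw [← hTK']; exact ⟨hu, huK⟩
      have h1 : u * s * u⁻¹ * s⁻¹ = 1 := by
        refine hTKK _ ?_ ?_ ?_
        · exact T.mul_mem (T.mul_mem (T.mul_mem hu'.1 hs.1) (T.inv_mem hu'.1)) (T.inv_mem hs.1)
        · exact K.mul_mem ((mem_normalizer_iff.mp (hT.le hu'.1).1 s).mp hs.2) (K.inv_mem hs.2)
        · have h2 : u * s * u⁻¹ * s⁻¹ = u * (s * u⁻¹ * s⁻¹) := by group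
          rw [h2]
          exact K'.mul_mem huK ((mem_normalizer_iff.mp (hT.le hs.1).2 u⁻¹).mp (K'.inv_mem huK))
      calc u * s = (u * s * u⁻¹ * s⁻¹) * (s * u) := by group
        _ = s * u := by rw [h1, one_mul]
    obtain ⟨j, hj, k, hkS, hkK, hkc, hsjk⟩ := f1' S₂ hS₂ s (hTS₂ hs.1) hsc
    obtain ⟨hj2, hk2⟩ := mul_self_split hK'.cen hj hkK (by rw [← hsjk]; exact hs2)
    have hkC : k ∈ centralizer (K : Set G) := by
      by_cases hk1 : k = 1
      · rw [hk1]; exact one_mem _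
      · rw [hA₂.uniq k hkS hkK hk2 hk1 hkc]
        exact hz₂
    have hj1 : j ≠ 1 := by
      rintro rfl
      rw [one_mul] at hsjk
      exact hs1 (hTKK s hs.1 hs.2 (hsjk ▸ hkK))
    refine hK'.te j hj hj2 hj1 x ?_
    have hxk : x * k = k * x := comm_of_centralizer hkC hx
    have hjs : j = s * k⁻¹ := by rw [hsjk]; group
    have hxk' : x * k⁻¹ = k⁻¹ * x := by
      calc x * k⁻¹ = k⁻¹ * (k * x) * k⁻¹ := by group
        _ = k⁻¹ * (x * k) * k⁻¹ := by rw [hxk]
        _ = k⁻¹ * x := by group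
    rw [hjs]
    calc x * (s * k⁻¹) = (x * s) * k⁻¹ := by group
      _ = s * (x * k⁻¹) := by rw [hxs]; group
      _ = s * k⁻¹ * x := by rw [hxk']; group
  have hSylT : IsSyl (T ⊓ K) K := by
    rw [← hTK]
    exact IsSyl.inf_K hS₁
  refine nse (K ⊓ normalizer (K' : Set G)) inf_le_left ?_ (T ⊓ K) hSylT ?_ hmain
  · intro hD
    have hKN : K ≤ normalizer (K' : Set G) := by
      intro x hx
      have h1 : x ∈ K ⊓ normalizer (K' : Set G) := by rw [hD]; exact hx
      exact h1.2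
    rcases hK.simp (K ⊓ centralizer (K' : Set G)) inf_le_left (by
      intro x hx n hn
      exact ⟨K.mul_mem (K.mul_mem hx hn.1) (K.inv_mem hx), mem_centralizer_conj (hKN hx) hn.2⟩) with h1 | h1
    · have h2 : z₁ ∈ K ⊓ centralizer (K' : Set G) := ⟨hA₁.loc.zK, hz₁⟩
      rw [h1, mem_bot] at h2
      exact hA₁.loc.z1 h2
    · apply hcom
      intro x hx
      have h2 : x ∈ K ⊓ centralizer (K' : Set G) := by rw [h1]; exact hx
      exact h2.2
  · intro x hx
    exact ⟨hx.2, (hT.le hx.1).2⟩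

end Cfsg.Agent.OddHalf.D4.Small
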