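import Mathlib
import Cfsg.Agent.OddHalf.D4.Small.RankOne
import Cfsg.Agent.OddHalf.D4.EvenPair

/-!
# ODD, D4, small Lie odd: Theorem 2

`K` standard in the simple group `G`, `m_2(C(K)) ≥ 2`, with the local facts: impossible, by Theorem 1 and
helper550's Theorem A.
-/

set_option autoImplicit false

namespace Cfsg.Agent.OddHalf.D4.Small

open Subgroup Cfsg Basic

variable {G : Type*} [Group G]

open CommConj in
theorem mem_centralizer_cj {K : Subgroup G} {g x : G} : x ∈ centralizer ((cj g K : Subgroup G) : Set G) ↔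
    g⁻¹ * x * g ∈ centralizer (K : Set G) := by
  rw [mem_centralizer_iff, mem_centralizer_iff]
  constructor
  · intro h k hk
    have h1 := h (g * k * g⁻¹) (mem_cj_mul hk)
    calc k * (g⁻¹ * x * g) = g⁻¹ * ((g * k * g⁻¹) * x) * g := by group
      _ = g⁻¹ * (x * (g * k * g⁻¹)) * g := by rw [h1]
      _ = g⁻¹ * x * g * k := by group
  · intro h y hy
    have h1 := h (g⁻¹ * y * g) (mem_cj.mp hy)
    calc y * x = g * ((g⁻¹ * y * g) * (g⁻¹ * x * g)) * g⁻¹ := by group
      _ = g * ((g⁻¹ * x * g) * (g⁻¹ * y * g)) * g⁻¹ := by rw [h1]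
      _ = x * y := by group

theorem te_of_tight {K : Subgroup G}
    (T : CommConj.Tight (centralizer (K : Set G)) (normalizer (K : Set G))) : TE K := by
  intro y hy hy2 hy1 x hxy
  exact EvenPair.cent_le T hy (orderOf_two_of hy2 hy1) hxy

open CommConj in
/-- **Theorem 2.** -/
theorem false_of_facts [Finite G] [IsSimpleGroup G] (h1173 : EvenPair.H1173 G) {K : Subgroup G}
    (hK : IsStandardSubgroup K) (hB : ∀ g : G, Base (cj g K)) (hF : ∀ g : G, FOne (cj g K))
    (nse : NoSE K) : False := by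
  have T := EvenPair.tight_of_standard hK
  have h1K : cj 1 K = K := by
    ext x
    rw [mem_cj]
    simp
  have hBK : Base K := h1K ▸ hB 1
  have hFK : FOne K := h1K ▸ hF 1
  obtain ⟨S, hS, a, haN, h⟩ := EvenPair.theoremA_std h1173 hK (fun x hx hxC h2 => by
    have h3 := hBK.cen x hx hxC
    rw [h3, orderOf_one] at h2
    exact absurd h2 (by norm_num))
  have hSyl : IsSyl S (normalizer (K : Set G)) := by
    obtain ⟨P, hP⟩ := hS
    rw [← hP]
    exact isSyl_of_sylow P
  rcases h with h | ⟨r, hrS, hr2, hrC, hrK, hrne⟩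
  · -- a full conjugate: contradiction with Theorem 1
    obtain ⟨c, hc, d, hd, hc2, hd2, hc1, hd1, hcd, hcdc⟩ := hBK.rk
    have hCN : centralizer (K : Set G) ≤ normalizer (K : Set G) := centralizer_le_normalizer' K
    obtain ⟨i, hi, hiq⟩ := hSyl.conj_into_inf (I := centralizer (K : Set G)) hCN
      (by
        intro t ht
        rw [mem_normalizer_iff]
        intro x
        constructor
        · intro hx
          exact mem_centralizer_conj (hSyl.le ht) hx
        · intro hx
          have h1 := mem_centralizer_conj' (hSyl.le ht) hx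
          have h2 : t⁻¹ * (t * x * t⁻¹) * t = x := by group
          rwa [h2] at h1)
      (isPGroup_pair hc2 hd2 hcdc) (by
        rw [closure_le]
        rintro x (rfl | hx)
        · exact hc
        · rw [Set.mem_singleton_iff] at hx
          subst hx
          exact hd)
    have hcm := hiq c (subset_closure (by simp))
    have hdm := hiq d (subset_closure (by simp))
    have mem_conj : ∀ y : G, i * y * i⁻¹ ∈ S ⊓ centralizer (K : Set G) →
        a * (i * y * i⁻¹) * a⁻¹ ∈ normalizer (K : Set G) ∧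
        a * (i * y * i⁻¹) * a⁻¹ ∈ centralizer ((cj a K : Subgroup G) : Set G) := by
      intro y hy
      refine ⟨hSyl.le (h _ hy), ?_⟩
      rw [mem_centralizer_cj]
      have h1 : a⁻¹ * (a * (i * y * i⁻¹) * a⁻¹) * a = i * y * i⁻¹ := by group
      rw [h1]
      exact hy.2
    have inj : ∀ x y : G, a * (i * x * i⁻¹) * a⁻¹ = a * (i * y * i⁻¹) * a⁻¹ → x = y := by
      intro x y hxy
      have h1 : ∀ u : G, u = i⁻¹ * (a⁻¹ * (a * (i * u * i⁻¹) * a⁻¹) * a) * i := fun u => by group
      rw [h1 x, hxy, ← h1 y]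
    have one : a * (i * 1 * i⁻¹) * a⁻¹ = 1 := by group
    refine rank_le_one hBK (hB a) hFK (hF a) nse ?_ ?_ (mem_conj c hcm).1 (mem_conj d hdm).1
      (mem_conj c hcm).2 (mem_conj d hdm).2 ?_ ?_ ?_ ?_ ?_ ?_
    · intro x hx hxC hx2
      by_contra hx1
      rw [mem_centralizer_cj] at hxC
      exact T.inf_odd haN hx hxC (orderOf_two_of hx2 hx1)
    · intro hle
      refine hK.2.2.1 a ?_ ?_
      · intro h2
        exact haN (mem_normalizer_of_cj_eq h2)
      · rw [commutator_eq_bot_iff_le_centralizer]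
        exact hle
    · calc a * (i * c * i⁻¹) * a⁻¹ * (a * (i * c * i⁻¹) * a⁻¹) = a * (i * (c * c) * i⁻¹) * a⁻¹ := by group
        _ = 1 := by rw [hc2]; group
    · calc a * (i * d * i⁻¹) * a⁻¹ * (a * (i * d * i⁻¹) * a⁻¹) = a * (i * (d * d) * i⁻¹) * a⁻¹ := by group
        _ = 1 := by rw [hd2]; group
    · intro h2
      exact hc1 (inj c 1 (h2.trans one.symm))
    · intro h2
      exact hd1 (inj d 1 (h2.trans one.symm))
    · intro h2
      exact hcd (inj c d h2)
    · calc a * (i * c * i⁻¹) * a⁻¹ * (a * (i * d * i⁻¹) * a⁻¹) = a * (i * (c * d) * i⁻¹) * a⁻¹ := by group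
        _ = a * (i * (d * c) * i⁻¹) * a⁻¹ := by rw [hcdc]
        _ = a * (i * d * i⁻¹) * a⁻¹ * (a * (i * c * i⁻¹) * a⁻¹) := by group
  · -- an outer involution centralizing a Sylow subgroup: contradiction with (F1)
    obtain ⟨k, hk, s, hsS, hsK, hsc, hrks⟩ := hFK S hSyl r hrS (fun s hs hsK => (hrK s ⟨hs, hsK⟩).symm)
    refine hrne k ⟨?_, hk⟩ s ⟨hsS, hsK⟩ hrks
    have h1 : k = r * s⁻¹ := by rw [hrks]; group
    rw [h1]
    exact S.mul_mem hrS (S.inv_mem hsS)

end Cfsg.Agent.OddHalf.D4.Small
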