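import Mathlib

/-!
# ODD, D4, small Lie odd: automorphisms of `Q₈`, `Z₄ * Q₈`, `Q₈ * Q₈`

Only what is needed for pairs of commuting involutory automorphisms with constant fixed points.
-/

set_option autoImplicit false
set_option linter.unusedSimpArgs false
set_option linter.style.multiGoal false

namespace Cfsg.Agent.OddHalf.D4.Small

open Subgroup

variable {K : Type*} [Group K]

/-- `Q` is a quaternion group of order 8 with involution `z`. -/
structure IsQ (z : K) (Q : Subgroup K) : Prop where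
  zQ : z ∈ Q
  z2 : z * z = 1
  z1 : z ≠ 1
  zc : ∀ q ∈ Q, q * z = z * q
  sq : ∀ q ∈ Q, q ≠ 1 → q ≠ z → q * q = z
  anti : ∀ q ∈ Q, ∀ r ∈ Q, q ≠ 1 → q ≠ z → r ≠ 1 → r ≠ z → r = q ∨ r = q * z ∨ r * q = q * r * z
  ex : ∀ q ∈ Q, q ≠ 1 → q ≠ z → ∃ r ∈ Q, r * q = q * r * z
  exq : ∃ q ∈ Q, q ≠ 1 ∧ q ≠ z

/-- Construction from two generators. -/
theorem IsQ.mk' {z i j : K} {Q : Subgroup K} (z2 : z * z = 1) (z1 : z ≠ 1) (hi : i ∈ Q) (hj : j ∈ Q)
    (ii : i * i = z) (jj : j * j = z) (ji : j * i = i * j * z)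
    (hQ : ∀ q ∈ Q, q = 1 ∨ q = z ∨ q = i ∨ q = i * z ∨ q = j ∨ q = j * z ∨ q = i * j ∨ q = i * j * z) :
    IsQ z Q := by
  have zi : z * i = i * z := by rw [← ii, mul_assoc]
  have zj : z * j = j * z := by rw [← jj, mul_assoc]
  have r1 : ∀ x, z * (z * x) = x := fun x => by rw [← mul_assoc, z2, one_mul]
  have r2 : ∀ x, z * (i * x) = i * (z * x) := fun x => by rw [← mul_assoc, zi, mul_assoc]
  have r3 : ∀ x, z * (j * x) = j * (z * x) := fun x => by rw [← mul_assoc, zj, mul_assoc]
  have r4 : j * i = i * (j * z) := by rw [ji, mul_assoc]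
  have r5 : ∀ x, j * (i * x) = i * (j * (z * x)) := fun x => by
    rw [← mul_assoc, ji]; simp only [mul_assoc]
  have r6 : ∀ x, i * (i * x) = z * x := fun x => by rw [← mul_assoc, ii]
  have r7 : ∀ x, j * (j * x) = z * x := fun x => by rw [← mul_assoc, jj]
  have hzQ : z ∈ Q := by rw [← ii]; exact Q.mul_mem hi hi
  have i1 : i ≠ 1 := by rintro rfl; apply z1; rw [← ii, one_mul]
  have iz : i ≠ z := by rintro rfl; apply z1; rw [← ii, z2]
  have j1 : j ≠ 1 := by rintro rfl; apply z1; rw [← jj, one_mul]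
  have jz : j ≠ z := by rintro rfl; apply z1; rw [← jj, z2]
  have nc : ∀ q ∈ Q, q ≠ 1 → q ≠ z → q = i ∨ q = i * z ∨ q = j ∨ q = j * z ∨ q = i * j ∨ q = i * j * z := by
    intro q hq h1 hz
    rcases hQ q hq with h | h | h | h | h | h | h | h
    · exact absurd h h1
    · exact absurd h hz
    all_goals simp [h]
  refine ⟨hzQ, z2, z1, ?_, ?_, ?_, ?_, ⟨i, hi, i1, iz⟩⟩
  · intro q hq
    rcases hQ q hq with rfl | rfl | rfl | rfl | rfl | rfl | rfl | rfl <;>
      simp only [mul_assoc, one_mul, mul_one, r1, r2, r3, z2, zi, zj]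
  · intro q hq h1 hz
    rcases nc q hq h1 hz with rfl | rfl | rfl | rfl | rfl | rfl <;>
      simp only [mul_assoc, one_mul, mul_one, r1, r2, r3, r4, r5, r6, r7, z2, zi, zj, ii, jj]
  · intro q hq r hr hq1 hqz hr1 hrz
    rcases nc q hq hq1 hqz with rfl | rfl | rfl | rfl | rfl | rfl <;>
      rcases nc r hr hr1 hrz with rfl | rfl | rfl | rfl | rfl | rfl <;>
      first
      | (left; rfl)
      | (right; left; simp only [mul_assoc, one_mul, mul_one, r1, r2, r3, r4, r5, r6, r7, z2, zi, zj, ii, jj]; done)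
      | (right; right
         simp only [mul_assoc, one_mul, mul_one, r1, r2, r3, r4, r5, r6, r7, z2, zi, zj, ii, jj]; done)
  · intro q hq hq1 hqz
    rcases nc q hq hq1 hqz with rfl | rfl | rfl | rfl | rfl | rfl
    · exact ⟨j, hj, by simp only [mul_assoc, one_mul, mul_one, r1, r2, r3, r4, r5, r6, r7, z2, zi, zj, ii, jj]⟩
    · exact ⟨j, hj, by simp only [mul_assoc, one_mul, mul_one, r1, r2, r3, r4, r5, r6, r7, z2, zi, zj, ii, jj]⟩
    · exact ⟨i, hi, by simp only [mul_assoc, one_mul, mul_one, r1, r2, r3, r4, r5, r6, r7, z2, zi, zj, ii, jj]⟩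
    · exact ⟨i, hi, by simp only [mul_assoc, one_mul, mul_one, r1, r2, r3, r4, r5, r6, r7, z2, zi, zj, ii, jj]⟩
    · exact ⟨i, hi, by simp only [mul_assoc, one_mul, mul_one, r1, r2, r3, r4, r5, r6, r7, z2, zi, zj, ii, jj]⟩
    · exact ⟨i, hi, by simp only [mul_assoc, one_mul, mul_one, r1, r2, r3, r4, r5, r6, r7, z2, zi, zj, ii, jj]⟩

namespace IsQ

variable {z : K} {Q : Subgroup K}

theorem ne_of_anti (h : IsQ z Q) {q r : K} (ha : r * q = q * r * z) : q ≠ 1 ∧ q ≠ z ∧ r ≠ 1 ∧ r ≠ z := by
  have key : ∀ x y : K, x * y = y * x → x * y = y * x * z → False := by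
    intro x y h1 h2
    apply h.z1
    rw [h1] at h2
    have h3 : y * x = y * x * z := h2
    calc z = (y * x)⁻¹ * (y * x * z) := by group
      _ = 1 := by rw [← h3]; group
  refine ⟨?_, ?_, ?_, ?_⟩
  · rintro rfl
    exact key r 1 (by simp) ha
  · rintro rfl
    -- `r z = z r z`
    apply h.z1
    have h1 : r * q = q * r * q := ha
    calc q = r⁻¹ * (r * q) := by group
      _ = r⁻¹ * (q * r * q) := by rw [← h1]
      _ = r⁻¹ * q * r * q := by group
      _ = 1 := by
        have h2 : r = q * r := by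
          have := congrArg (· * q⁻¹) h1
          simpa using this
        have h3 : q = 1 := by
          have := congrArg (· * r⁻¹) h2
          simpa using this.symm
        rw [h3]; group
  · rintro rfl
    exact key 1 q (by simp) ha
  · rintro rfl
    apply h.z1
    have h1 : r * q = q * r * r := ha
    rw [mul_assoc, h.z2, mul_one] at h1
    have := congrArg (· * q⁻¹) h1
    simpa using this

theorem pts (h : IsQ z Q) {q r t : K} (hq : q ∈ Q) (hr : r ∈ Q) (ha : r * q = q * r * z) (ht : t ∈ Q)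
    (ht1 : t ≠ 1) (htz : t ≠ z) : t = q ∨ t = q * z ∨ t = r ∨ t = r * z ∨ t = q * r ∨ t = q * r * z := by
  obtain ⟨hq1, hqz, hr1, hrz⟩ := h.ne_of_anti ha
  rcases h.anti q hq t ht hq1 hqz ht1 htz with h1 | h1 | h1
  · exact Or.inl h1
  · exact Or.inr (Or.inl h1)
  rcases h.anti r hr t ht hr1 hrz ht1 htz with h2 | h2 | h2
  · exact Or.inr (Or.inr (Or.inl h2))
  · exact Or.inr (Or.inr (Or.inr (Or.inl h2)))
  have hqr : q * r ∈ Q := Q.mul_mem hq hr
  have hzt := h.zc t ht
  have hzq := h.zc q hq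
  have hzr := h.zc r hr
  -- `t` commutes with `q r`
  have hc : t * (q * r) = q * r * t := by
    calc t * (q * r) = (t * q) * r := by group
      _ = q * t * (z * r) := by rw [h1]; group
      _ = q * (t * r) * z := by rw [← hzr]; group
      _ = q * r * t * (z * z) := by rw [h2]; group
      _ = q * r * t := by rw [h.z2, mul_one]
  have hqr1 : q * r ≠ 1 := by
    intro h3
    have h4 : r = q⁻¹ := eq_inv_of_mul_eq_one_right h3
    apply h.z1
    rw [h4] at ha
    have h5 : (1 : K) = z := by simpa using ha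
    exact h5.symm
  have hqrz : q * r ≠ z := by
    intro h3
    have h4 : r = q⁻¹ * z := by rw [← h3]; group
    have h5 : r * q = z := by
      rw [h4]
      calc q⁻¹ * z * q = q⁻¹ * (z * q) := by group
        _ = q⁻¹ * (q * z) := by rw [hzq]
        _ = z := by group
    apply h.z1
    rw [h5, h3, h.z2] at ha
    exact ha
  rcases h.anti (q * r) hqr t ht hqr1 hqrz ht1 htz with h3 | h3 | h3
  · simp [h3]
  · simp [h3]
  · exfalso
    apply h.z1
    rw [hc] at h3
    calc z = (q * r * t)⁻¹ * (q * r * t * z) := by group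
      _ = 1 := by rw [← h3]; group


/-- The elements of `Q` fixed together with two anticommuting ones. -/
theorem fix_of (h : IsQ z Q) {α : MulAut K} (hz : α z = z) {q r : K} (hq : q ∈ Q) (hr : r ∈ Q)
    (ha : r * q = q * r * z) (h1 : α q = q) (h2 : α r = r) : ∀ t ∈ Q, α t = t := by
  intro t ht
  by_cases ht1 : t = 1
  · rw [ht1, map_one]
  by_cases htz : t = z
  · rw [htz, hz]
  rcases h.pts hq hr ha ht ht1 htz with rfl | rfl | rfl | rfl | rfl | rfl <;>
    simp only [map_mul, h1, h2, hz]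

theorem ne_mul_z (h : IsQ z Q) (q : K) : q ≠ q * z := by
  intro h1
  apply h.z1
  calc z = q⁻¹ * (q * z) := by group
    _ = 1 := by rw [← h1]; group

theorem mul_z_z (h : IsQ z Q) (q : K) : q * z * z = q := by rw [mul_assoc, h.z2, mul_one]

/-- An involutory automorphism fixing `u` maps an element anticommuting with `u` to itself or to its inverse. -/
theorem anti_cases (h : IsQ z Q) {α : MulAut K} (hQ : ∀ q ∈ Q, α q ∈ Q) (h2 : ∀ q ∈ Q, α (α q) = q)
    (hz : α z = z) {u q : K} (hu : u ∈ Q) (hq : q ∈ Q) (ha : q * u = u * q * z) (hfix : α u = u) :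
    α q = q ∨ α q = q * z := by
  obtain ⟨hu1, huz, hq1, hqz⟩ := h.ne_of_anti ha
  have hαq1 : α q ≠ 1 := fun h3 => hq1 (α.injective (by rw [h3, map_one]))
  have hαqz : α q ≠ z := fun h3 => hqz (α.injective (by rw [h3, hz]))
  have hanti : α q * u = u * α q * z := by
    have h3 := congrArg α ha
    simp only [map_mul, hfix, hz] at h3
    exact h3
  have hcomm : ∀ x : K, x * u = u * x → α q = x → False := by
    intro x hx h3
    rw [h3, hx] at hanti
    exact h.ne_mul_z _ hanti
  have hzq := h.zc q hq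
  have hzu := h.zc u hu
  have hu2 : u * u = z := h.sq u hu hu1 huz
  rcases h.pts hu hq ha (hQ q hq) hαq1 hαqz with h3 | h3 | h3 | h3 | h3 | h3
  · exact absurd h3 (fun h3 => hcomm u rfl h3)
  · exact absurd h3 (fun h3 => hcomm (u * z) (by rw [mul_assoc, ← hzu]) h3)
  · exact Or.inl h3
  · exact Or.inr h3
  · exfalso
    have h4 := h2 q hq
    rw [h3, map_mul, hfix, h3] at h4
    apply h.z1
    have h5 : u * (u * q) = z * q := by rw [← mul_assoc, hu2]
    rw [h5] at h4
    calc z = z * q * q⁻¹ := by group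
      _ = 1 := by rw [h4]; group
  · exfalso
    have h4 := h2 q hq
    rw [h3, map_mul, map_mul, hfix, h3, hz] at h4
    apply h.z1
    have h5 : u * (u * q * z) * z = z * q := by
      calc u * (u * q * z) * z = (u * u) * q * (z * z) := by group
        _ = z * q := by rw [hu2, h.z2, mul_one]
    rw [h5] at h4
    calc z = z * q * q⁻¹ := by group
      _ = 1 := by rw [h4]; group

/-- **constant fixed points on `Q₈`** -/
theorem fix (h : IsQ z Q) {α β : MulAut K} (hα : ∀ q ∈ Q, α q ∈ Q) (hβ : ∀ q ∈ Q, β q ∈ Q)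
    (hα2 : ∀ q ∈ Q, α (α q) = q) (hβ2 : ∀ q ∈ Q, β (β q) = q) (hc : ∀ q ∈ Q, α (β q) = β (α q))
    (hαz : α z = z) (hβz : β z = z) (h1 : ∀ q ∈ Q, α q = q ↔ β q = q)
    (h2 : ∀ q ∈ Q, α q = q ↔ α (β q) = q) : ∀ q ∈ Q, α q = q := by
  -- claim A
  have claimA : ∀ u ∈ Q, u ≠ 1 → u ≠ z → α u = u → ∀ q ∈ Q, α q = q := by
    intro u hu hu1 huz hfix
    have hfixβ := (h1 u hu).mp hfix
    obtain ⟨q, hq, ha⟩ := h.ex u hu hu1 huz
    rcases h.anti_cases hα hα2 hαz hu hq ha hfix with h3 | h3
    · exact h.fix_of hαz hu hq ha hfix h3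
    · exfalso
      rcases h.anti_cases hβ hβ2 hβz hu hq ha hfixβ with h4 | h4
      · have h5 := (h1 q hq).mpr h4
        rw [h5] at h3
        exact h.ne_mul_z _ h3
      · have h5 : α (β q) = q := by rw [h4, map_mul, h3, hαz, h.mul_z_z]
        have h6 := (h2 q hq).mpr h5
        rw [h6] at h3
        exact h.ne_mul_z _ h3
  by_contra hcon
  have nofix : ∀ u ∈ Q, u ≠ 1 → u ≠ z → α u ≠ u := fun u hu hu1 huz h3 => hcon (claimA u hu hu1 huz h3)
  -- an element mapped to its inverse
  have hex : ∃ u ∈ Q, u ≠ 1 ∧ u ≠ z ∧ α u = u * z := by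
    obtain ⟨q, hq, hq1, hqz⟩ := h.exq
    obtain ⟨r, hr, ha⟩ := h.ex q hq hq1 hqz
    obtain ⟨-, -, hr1, hrz⟩ := h.ne_of_anti ha
    have hαq1 : α q ≠ 1 := fun h3 => hq1 (α.injective (by rw [h3, map_one]))
    have hαqz : α q ≠ z := fun h3 => hqz (α.injective (by rw [h3, hαz]))
    have hzq := h.zc q hq
    have hzr := h.zc r hr
    have hqr : q * r ∈ Q := Q.mul_mem hq hr
    have hqr1 : q * r ≠ 1 := by
      intro h3
      have h4 : r = q⁻¹ := eq_inv_of_mul_eq_one_right h3
      apply h.z1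
      rw [h4] at ha
      have h5 : (1 : K) = z := by simpa using ha
      exact h5.symm
    have hqrz : q * r ≠ z := by
      intro h3
      have h4 : r = q⁻¹ * z := by rw [← h3]; group
      have h5 : r * q = z := by
        rw [h4]
        calc q⁻¹ * z * q = q⁻¹ * (z * q) := by group
          _ = q⁻¹ * (q * z) := by rw [hzq]
          _ = z := by group
      apply h.z1
      rw [h5, h3, h.z2] at ha
      exact ha
    rcases h.pts hq hr ha (hα q hq) hαq1 hαqz with h3 | h3 | h3 | h3 | h3 | h3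
    · exact absurd h3 (nofix q hq hq1 hqz)
    · exact ⟨q, hq, hq1, hqz, h3⟩
    · refine ⟨q * r, hqr, hqr1, hqrz, ?_⟩
      have h4 : α r = q := by rw [← h3, hα2 q hq]
      rw [map_mul, h3, h4, ha]
    · refine ⟨q * r, hqr, hqr1, hqrz, ?_⟩
      have h4 : α r = q * z := by
        have h5 := hα2 q hq
        rw [h3, map_mul, hαz] at h5
        rw [← h5, h.mul_z_z]
      rw [map_mul, h3, h4]
      calc r * z * (q * z) = r * (z * q) * z := by group
        _ = r * q * (z * z) := by rw [← hzq]; group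
        _ = q * r * z := by rw [h.z2, mul_one, ha]
    · refine ⟨r, hr, hr1, hrz, ?_⟩
      have h4 : α (q * r) = q := by rw [← h3, hα2 q hq]
      rw [map_mul, h3] at h4
      have h5 : α r = (q * r)⁻¹ * q := eq_inv_mul_of_mul_eq h4
      rw [h5]
      have h6 : r * (r * z) = 1 := by
        rw [← mul_assoc, h.sq r hr hr1 hrz, h.z2]
      calc (q * r)⁻¹ * q = r⁻¹ := by group
        _ = r * z := by
          rw [inv_eq_iff_mul_eq_one]
          exact h6
    · refine ⟨r, hr, hr1, hrz, ?_⟩
      have h4 : α (q * r) = q * z := by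
        have h5 : α (q * r * z) = q := by rw [← h3, hα2 q hq]
        rw [map_mul, hαz] at h5
        calc α (q * r) = α (q * r) * z * z := (h.mul_z_z _).symm
          _ = q * z := by rw [h5]
      rw [map_mul, h3] at h4
      have h5 : α r = (q * r * z)⁻¹ * (q * z) := eq_inv_mul_of_mul_eq h4
      rw [h5]
      have h6 : r * (r * z) = 1 := by
        rw [← mul_assoc, h.sq r hr hr1 hrz, h.z2]
      calc (q * r * z)⁻¹ * (q * z) = z⁻¹ * r⁻¹ * z := by group
        _ = r⁻¹ := by
          have h7 : r⁻¹ * z = z * r⁻¹ := h.zc _ (Q.inv_mem hr)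
          calc z⁻¹ * r⁻¹ * z = z⁻¹ * (r⁻¹ * z) := by group
            _ = r⁻¹ := by rw [h7]; group
        _ = r * z := by
          rw [inv_eq_iff_mul_eq_one]
          exact h6
  obtain ⟨u, hu, hu1, huz, hαu⟩ := hex
  -- `β u ∈ {u, u z}`
  have hβu1 : β u ≠ 1 := fun h3 => hu1 (β.injective (by rw [h3, map_one]))
  have hβuz : β u ≠ z := fun h3 => huz (β.injective (by rw [h3, hβz]))
  have hv : α (β u) = β u * z := by rw [hc u hu, hαu, map_mul, hβz]
  have hβu : β u = u ∨ β u = u * z := by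
    rcases h.anti u hu (β u) (hβ u hu) hu1 huz hβu1 hβuz with h3 | h3 | h3
    · exact Or.inl h3
    · exact Or.inr h3
    · exfalso
      -- `u` and `β u` anticommute and are both inverted: their product is fixed
      have hp : u * β u ∈ Q := Q.mul_mem hu (hβ u hu)
      have hfix : α (u * β u) = u * β u := by
        rw [map_mul, hαu, hv]
        have h4 := h.zc (β u) (hβ u hu)
        calc u * z * (β u * z) = u * (z * β u) * z := by group
          _ = u * β u * (z * z) := by rw [← h4]; group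
          _ = u * β u := by rw [h.z2, mul_one]
      have hp1 : u * β u ≠ 1 := by
        intro h4
        have h5 : β u = u⁻¹ := eq_inv_of_mul_eq_one_right h4
        apply h.z1
        rw [h5] at h3
        have h6 : (1 : K) = z := by simpa using h3
        exact h6.symm
      have hpz : u * β u ≠ z := by
        intro h4
        have h5 : β u = u⁻¹ * z := by rw [← h4]; group
        have h6 : β u * u = z := by
          rw [h5]
          calc u⁻¹ * z * u = u⁻¹ * (z * u) := by group
            _ = u⁻¹ * (u * z) := by rw [h.zc u hu]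
            _ = z := by group
        apply h.z1
        rw [h6, h4, h.z2] at h3
        exact h3
      exact nofix _ hp hp1 hpz hfix
  have hβu' : β u = u * z := by
    rcases hβu with h3 | h3
    · exact absurd ((h1 u hu).mpr h3) (nofix u hu hu1 huz)
    · exact h3
  have h3 : α (β u) = u := by rw [hβu', map_mul, hαu, hαz, h.mul_z_z]
  exact nofix u hu hu1 huz ((h2 u hu).mpr h3)

end IsQ

end Cfsg.Agent.OddHalf.D4.Small
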