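import Mathlib
import Cfsg.Agent.OddHalf.D4.Small.Quat

/-!
# ODD, D4, small Lie odd: the three types of `R = O₂(C_K(z))`

`Q₈`, `Z₄ * Q₈`, `Q₈ * Q₈`: constant fixed points (`fix`), and the configuration with a noncentral involution `w`
(`false_of_w`).
-/

set_option autoImplicit false

namespace Cfsg.Agent.OddHalf.D4.Small

open Subgroup

variable {K : Type*} [Group K]

namespace IsQ

variable {z : K} {Q : Subgroup K}

/-- An element of `Q` commuting with two anticommuting elements of `Q` is central. -/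
theorem central_of (h : IsQ z Q) {q r t : K} (hq : q ∈ Q) (hr : r ∈ Q) (ha : r * q = q * r * z) (ht : t ∈ Q)
    (h1 : t * q = q * t) (h2 : t * r = r * t) : t = 1 ∨ t = z := by
  by_contra hcon
  push Not at hcon
  obtain ⟨hq1, hqz, hr1, hrz⟩ := h.ne_of_anti ha
  have hno : ∀ x y : K, x * y = y * x → x * y = y * x * z → False := by
    intro x y h3 h4
    rw [h3] at h4
    exact h.ne_mul_z _ h4
  have ht2 := h.anti q hq t ht hq1 hqz hcon.1 hcon.2
  have ht3 := h.anti r hr t ht hr1 hrz hcon.1 hcon.2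
  rcases ht2 with h3 | h3 | h3
  · subst h3
    exact hno r t h2.symm ha
  · subst h3
    have h4 : r * q = q * r := by
      have h5 := h.zc r hr
      calc r * q = r * (q * z) * z := by rw [← mul_assoc, h.mul_z_z]
        _ = q * z * r * z := by rw [h2]
        _ = q * (z * r) * z := by group
        _ = q * r * (z * z) := by rw [← h5]; group
        _ = q * r := by rw [h.z2, mul_one]
    exact hno r q h4 ha
  · exact hno t q h1 h3

end IsQ

/-! ### `Q₈ * Q₈` -/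

/-- `R = Q₁ Q₂`, extraspecial of order 32 and type `+`. -/
structure IsQQ (z : K) (Q₁ Q₂ R : Subgroup K) : Prop where
  q1 : IsQ z Q₁
  q2 : IsQ z Q₂
  le1 : Q₁ ≤ R
  le2 : Q₂ ≤ R
  com : ∀ x ∈ Q₁, ∀ y ∈ Q₂, x * y = y * x
  inf : ∀ x ∈ Q₁, x ∈ Q₂ → x = 1 ∨ x = z
  mem : ∀ r ∈ R, ∃ x ∈ Q₁, ∃ y ∈ Q₂, r = x * y

namespace IsQQ

variable {z : K} {Q₁ Q₂ R : Subgroup K}

theorem symm (h : IsQQ z Q₁ Q₂ R) : IsQQ z Q₂ Q₁ R where
  q1 := h.q2
  q2 := h.q1
  le1 := h.le2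
  le2 := h.le1
  com := fun x hx y hy => (h.com y hy x hx).symm
  inf := fun x hx hy => h.inf x hy hx
  mem := by
    intro r hr
    obtain ⟨x, hx, y, hy, rfl⟩ := h.mem r hr
    exact ⟨y, hy, x, hx, h.com x hx y hy⟩

theorem sq_cases (h : IsQQ z Q₁ Q₂ R) {x : K} (hx : x ∈ Q₁) : x * x = 1 ∨ x * x = z := by
  by_cases h1 : x = 1
  · left; rw [h1, mul_one]
  by_cases h2 : x = z
  · left; rw [h2, h.q1.z2]
  · right; exact h.q1.sq x hx h1 h2

/-- Elements of order 4 are in `Q₁` or `Q₂`. -/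
theorem mem_of_sq (h : IsQQ z Q₁ Q₂ R) {r : K} (hr : r ∈ R) (h2 : r * r = z) : r ∈ Q₁ ∨ r ∈ Q₂ := by
  obtain ⟨x, hx, y, hy, rfl⟩ := h.mem r hr
  have hxy := h.com x hx y hy
  have h3 : (x * x) * (y * y) = z := by
    calc (x * x) * (y * y) = x * (x * y) * y := by group
      _ = x * (y * x) * y := by rw [hxy]
      _ = x * y * (x * y) := by group
      _ = z := h2
  by_cases hx1 : x = 1
  · right; rw [hx1, one_mul]; exact hy
  by_cases hxz : x = z
  · right; rw [hxz]; exact Q₂.mul_mem h.q2.zQ hy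
  by_cases hy1 : y = 1
  · left; rw [hy1, mul_one]; exact hx
  by_cases hyz : y = z
  · left; rw [hyz]; exact Q₁.mul_mem hx h.q1.zQ
  · exfalso
    rw [h.q1.sq x hx hx1 hxz, h.q2.sq y hy hy1 hyz, h.q1.z2] at h3
    exact h.q1.z1 h3.symm

/-- An automorphism mapping one noncentral element of `Q₁` into `Q₁` preserves `Q₁` and `Q₂`. -/
theorem pres_of (h : IsQQ z Q₁ Q₂ R) {α : MulAut K} (hR : ∀ r ∈ R, α r ∈ R) (hz : α z = z) {q : K}
    (hq : q ∈ Q₁) (hq1 : q ≠ 1) (hqz : q ≠ z) (hαq : α q ∈ Q₁) :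
    (∀ x ∈ Q₁, α x ∈ Q₁) ∧ ∀ y ∈ Q₂, α y ∈ Q₂ := by
  have hne : ∀ x : K, x ≠ 1 → x ≠ z → α x ≠ 1 ∧ α x ≠ z := fun x h1 h2 =>
    ⟨fun h3 => h1 (α.injective (by rw [h3, map_one])), fun h3 => h2 (α.injective (by rw [h3, hz]))⟩
  have hsq : ∀ x : K, x * x = z → α x * α x = z := fun x hx => by rw [← map_mul, hx, hz]
  have h1 : ∀ x ∈ Q₁, α x ∈ Q₁ := by
    obtain ⟨r, hr, ha⟩ := h.q1.ex q hq hq1 hqz
    obtain ⟨-, -, hr1, hrz⟩ := h.q1.ne_of_anti ha
    have hαr : α r ∈ Q₁ := by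
      rcases h.mem_of_sq (hR r (h.le1 hr)) (hsq r (h.q1.sq r hr hr1 hrz)) with h2 | h2
      · exact h2
      · exfalso
        have h3 := congrArg α ha
        rw [map_mul, map_mul, map_mul, hz, h.com _ hαq _ h2] at h3
        exact h.q1.ne_mul_z _ h3
    intro x hx
    by_cases hx1 : x = 1
    · rw [hx1, map_one]; exact Q₁.one_mem
    by_cases hxz : x = z
    · rw [hxz, hz]; exact h.q1.zQ
    have hzQ := h.q1.zQ
    rcases h.q1.pts hq hr ha hx hx1 hxz with rfl | rfl | rfl | rfl | rfl | rfl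
    · exact hαq
    · rw [map_mul, hz]; exact Q₁.mul_mem hαq hzQ
    · exact hαr
    · rw [map_mul, hz]; exact Q₁.mul_mem hαr hzQ
    · rw [map_mul]; exact Q₁.mul_mem hαq hαr
    · rw [map_mul, map_mul, hz]; exact Q₁.mul_mem (Q₁.mul_mem hαq hαr) hzQ
  refine ⟨h1, ?_⟩
  intro y hy
  by_cases hy1 : y = 1
  · rw [hy1, map_one]; exact Q₂.one_mem
  by_cases hyz : y = z
  · rw [hyz, hz]; exact h.q2.zQ
  rcases h.mem_of_sq (hR y (h.le2 hy)) (hsq y (h.q2.sq y hy hy1 hyz)) with h2 | h2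
  · exfalso
    obtain ⟨r, hr, ha⟩ := h.q1.ex q hq hq1 hqz
    have h3 := congrArg α ha
    rw [map_mul, map_mul, map_mul, hz] at h3
    have h4 : α y * α q = α q * α y := by rw [← map_mul, ← map_mul, h.com q hq y hy]
    have h5 : α y * α r = α r * α y := by rw [← map_mul, ← map_mul, h.com r hr y hy]
    rcases h.q1.central_of hαq (h1 r hr) h3 h2 h4 h5 with h6 | h6
    · exact (hne y hy1 hyz).1 h6
    · exact (hne y hy1 hyz).2 h6
  · exact h2

/-- The same with an element of `Q₁` mapped into `Q₂`. -/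
theorem swap_of (h : IsQQ z Q₁ Q₂ R) {α : MulAut K} (hR : ∀ r ∈ R, α r ∈ R) (hz : α z = z) {q : K}
    (hq : q ∈ Q₁) (hq1 : q ≠ 1) (hqz : q ≠ z) (hαq : α q ∈ Q₂) :
    (∀ x ∈ Q₁, α x ∈ Q₂) ∧ ∀ y ∈ Q₂, α y ∈ Q₁ := by
  have hne : ∀ x : K, x ≠ 1 → x ≠ z → α x ≠ 1 ∧ α x ≠ z := fun x h1 h2 =>
    ⟨fun h3 => h1 (α.injective (by rw [h3, map_one])), fun h3 => h2 (α.injective (by rw [h3, hz]))⟩
  have hsq : ∀ x : K, x * x = z → α x * α x = z := fun x hx => by rw [← map_mul, hx, hz]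
  have h1 : ∀ x ∈ Q₁, α x ∈ Q₂ := by
    obtain ⟨r, hr, ha⟩ := h.q1.ex q hq hq1 hqz
    obtain ⟨-, -, hr1, hrz⟩ := h.q1.ne_of_anti ha
    have hαr : α r ∈ Q₂ := by
      rcases h.mem_of_sq (hR r (h.le1 hr)) (hsq r (h.q1.sq r hr hr1 hrz)) with h2 | h2
      · exfalso
        have h3 := congrArg α ha
        rw [map_mul, map_mul, map_mul, hz, h.com _ h2 _ hαq] at h3
        exact h.q1.ne_mul_z _ h3
      · exact h2
    intro x hx
    by_cases hx1 : x = 1
    · rw [hx1, map_one]; exact Q₂.one_mem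
    by_cases hxz : x = z
    · rw [hxz, hz]; exact h.q2.zQ
    have hzQ := h.q2.zQ
    rcases h.q1.pts hq hr ha hx hx1 hxz with rfl | rfl | rfl | rfl | rfl | rfl
    · exact hαq
    · rw [map_mul, hz]; exact Q₂.mul_mem hαq hzQ
    · exact hαr
    · rw [map_mul, hz]; exact Q₂.mul_mem hαr hzQ
    · rw [map_mul]; exact Q₂.mul_mem hαq hαr
    · rw [map_mul, map_mul, hz]; exact Q₂.mul_mem (Q₂.mul_mem hαq hαr) hzQ
  refine ⟨h1, ?_⟩
  intro y hy
  by_cases hy1 : y = 1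
  · rw [hy1, map_one]; exact Q₁.one_mem
  by_cases hyz : y = z
  · rw [hyz, hz]; exact h.q1.zQ
  rcases h.mem_of_sq (hR y (h.le2 hy)) (hsq y (h.q2.sq y hy hy1 hyz)) with h2 | h2
  · exact h2
  · exfalso
    obtain ⟨r, hr, ha⟩ := h.q1.ex q hq hq1 hqz
    have h3 := congrArg α ha
    rw [map_mul, map_mul, map_mul, hz] at h3
    have h4 : α y * α q = α q * α y := by rw [← map_mul, ← map_mul, h.com q hq y hy]
    have h5 : α y * α r = α r * α y := by rw [← map_mul, ← map_mul, h.com r hr y hy]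
    rcases h.q2.central_of hαq (h1 r hr) h3 h2 h4 h5 with h6 | h6
    · exact (hne y hy1 hyz).1 h6
    · exact (hne y hy1 hyz).2 h6

theorem pres_or_swap (h : IsQQ z Q₁ Q₂ R) {α : MulAut K} (hR : ∀ r ∈ R, α r ∈ R) (hz : α z = z) :
    ((∀ x ∈ Q₁, α x ∈ Q₁) ∧ ∀ y ∈ Q₂, α y ∈ Q₂) ∨ ((∀ x ∈ Q₁, α x ∈ Q₂) ∧ ∀ y ∈ Q₂, α y ∈ Q₁) := by
  obtain ⟨q, hq, hq1, hqz⟩ := h.q1.exq
  have h2 : α q * α q = z := by rw [← map_mul, h.q1.sq q hq hq1 hqz, hz]
  rcases h.mem_of_sq (hR q (h.le1 hq)) h2 with h3 | h3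
  · exact Or.inl (h.pres_of hR hz hq hq1 hqz h3)
  · exact Or.inr (h.swap_of hR hz hq hq1 hqz h3)

/-- `γ` preserves `Q₁`, `Q₂`, and `σ` swaps them: the fixed points on `R` are not the same. -/
theorem false_of_swap (h : IsQQ z Q₁ Q₂ R) {γ σ : MulAut K}
    (hγ : (∀ x ∈ Q₁, γ x ∈ Q₁) ∧ ∀ y ∈ Q₂, γ y ∈ Q₂) (hσ : (∀ x ∈ Q₁, σ x ∈ Q₂) ∧ ∀ y ∈ Q₂, σ y ∈ Q₁)
    (hσ2 : ∀ r, σ (σ r) = r) (hfix : ∀ r ∈ R, γ r = r ↔ σ r = r) : False := by
  -- `γ` is trivial modulo `z` on `Q₁`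
  have h1 : ∀ q ∈ Q₁, γ q = q ∨ γ q = q * z := by
    intro q hq
    have h2 : q * σ q ∈ R := R.mul_mem (h.le1 hq) (h.le2 (hσ.1 q hq))
    have h3 : σ (q * σ q) = q * σ q := by
      rw [map_mul, hσ2]
      exact (h.com q hq _ (hσ.1 q hq)).symm
    have h4 := (hfix _ h2).mpr h3
    rw [map_mul] at h4
    have h5 : q⁻¹ * γ q = σ q * (γ (σ q))⁻¹ := by
      have h6 : γ q = q * σ q * (γ (σ q))⁻¹ := eq_mul_inv_of_mul_eq h4
      rw [h6]; group
    have h6 : q⁻¹ * γ q ∈ Q₁ := Q₁.mul_mem (Q₁.inv_mem hq) (hγ.1 q hq)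
    have h7 : q⁻¹ * γ q ∈ Q₂ := by
      rw [h5]
      exact Q₂.mul_mem (hσ.1 q hq) (Q₂.inv_mem (hγ.2 _ (hσ.1 q hq)))
    rcases h.inf _ h6 h7 with h8 | h8
    · left; exact (inv_mul_eq_one.mp h8).symm
    · right; rw [← h8]; group
  -- a fixed noncentral element
  obtain ⟨q, hq, hq1, hqz⟩ := h.q1.exq
  obtain ⟨r, hr, ha⟩ := h.q1.ex q hq hq1 hqz
  have key : ∀ u ∈ Q₁, u ≠ 1 → u ≠ z → γ u ≠ u := by
    intro u hu hu1 huz hfu
    have h3 := (hfix u (h.le1 hu)).mp hfu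
    have h4 : u ∈ Q₂ := by rw [← h3]; exact hσ.1 u hu
    rcases h.inf u hu h4 with h5 | h5
    · exact hu1 h5
    · exact huz h5
  obtain ⟨-, -, hr1, hrz⟩ := h.q1.ne_of_anti ha
  have hγq : γ q = q * z := (h1 q hq).resolve_left (key q hq hq1 hqz)
  have hγr : γ r = r * z := (h1 r hr).resolve_left (key r hr hr1 hrz)
  have hqr : γ (q * r) = q * r := by
    rw [map_mul, hγq, hγr]
    have h3 := h.q1.zc r hr
    calc q * z * (r * z) = q * (z * r) * z := by group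
      _ = q * r * (z * z) := by rw [← h3]; group
      _ = q * r := by rw [h.q1.z2, mul_one]
  have hqrQ : q * r ∈ Q₁ := Q₁.mul_mem hq hr
  have h3 := (hfix _ (h.le1 hqrQ)).mp hqr
  have h4 : q * r ∈ Q₂ := by rw [← h3]; exact hσ.1 _ hqrQ
  have hno : ∀ x y : K, x * y = y * x → x * y = y * x * z → False := by
    intro x y h5 h6
    rw [h5] at h6
    exact h.q1.ne_mul_z _ h6
  rcases h.inf _ hqrQ h4 with h5 | h5
  · have h6 : r = q⁻¹ := eq_inv_of_mul_eq_one_right h5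
    exact hno r q (by rw [h6]; group) ha
  · have h6 : r = q⁻¹ * z := by rw [← h5]; group
    refine hno r q ?_ ha
    have h7 := h.q1.zc q hq
    rw [h6]
    calc q⁻¹ * z * q = q⁻¹ * (z * q) := by group
      _ = q⁻¹ * (q * z) := by rw [h7]
      _ = z := by group
      _ = q * (q⁻¹ * z) := by group

/-- **constant fixed points on `Q₈ * Q₈`** -/
theorem fix (h : IsQQ z Q₁ Q₂ R) {α β : MulAut K} (hα : ∀ q ∈ R, α q ∈ R) (hβ : ∀ q ∈ R, β q ∈ R)
    (hα2 : ∀ q, α (α q) = q) (hβ2 : ∀ q, β (β q) = q) (hc : ∀ q, α (β q) = β (α q))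
    (hαz : α z = z) (hβz : β z = z) (h1 : ∀ q ∈ R, α q = q ↔ β q = q)
    (h2 : ∀ q ∈ R, α q = q ↔ α (β q) = q) : ∀ q ∈ R, α q = q := by
  have hαβ2 : ∀ q, (α * β) ((α * β) q) = q := by
    intro q
    show α (β (α (β q))) = q
    rw [← hc, hα2, hβ2]
  rcases h.pres_or_swap hα hαz with ha | ha <;> rcases h.pres_or_swap hβ hβz with hb | hb
  · -- both preserve
    have k1 := h.q1.fix ha.1 hb.1 (fun q _ => hα2 q) (fun q _ => hβ2 q) (fun q _ => hc q) hαz hβz
      (fun q hq => h1 q (h.le1 hq)) (fun q hq => h2 q (h.le1 hq))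
    have k2 := h.q2.fix ha.2 hb.2 (fun q _ => hα2 q) (fun q _ => hβ2 q) (fun q _ => hc q) hαz hβz
      (fun q hq => h1 q (h.le2 hq)) (fun q hq => h2 q (h.le2 hq))
    intro r hr
    obtain ⟨x, hx, y, hy, rfl⟩ := h.mem r hr
    rw [map_mul, k1 x hx, k2 y hy]
  · exact (h.false_of_swap ha hb hβ2 h1).elim
  · exact (h.false_of_swap hb ha hα2 (fun r hr => (h1 r hr).symm)).elim
  · -- both swap: the product preserves
    exact (h.false_of_swap (γ := α * β) (σ := α)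
      ⟨fun x hx => ha.2 _ (hb.1 x hx), fun y hy => ha.1 _ (hb.2 y hy)⟩ ha hα2
      (fun r hr => (h2 r hr).symm)).elim

/-- **the noncentral involution, `Q₈ * Q₈`** -/
theorem false_of_w (h : IsQQ z Q₁ Q₂ R)
    (hn : ∀ p, p * z = z * p → ∀ r ∈ R, p * r * p⁻¹ ∈ R)
    (hself : ∀ p, p * z = z * p → (∀ r ∈ R, p * r = r * p) → p = 1 ∨ p = z)
    {d : K} (hdz : d * z = z * d) (hd3 : d * d * d = 1) (hd2 : ∀ y ∈ Q₂, d * y = y * d)
    (hd1 : ∀ x ∈ Q₁, x ≠ 1 → x ≠ z → d * x * d⁻¹ ≠ x ∧ d * x * d⁻¹ ≠ x * z)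
    {w : K} (hw : w ∈ R) (hw2 : w * w = 1) (hw1 : w ≠ 1) (hwz : w ≠ z) {β : MulAut K}
    (hβR : ∀ r ∈ R, β r ∈ R) (hβ2 : ∀ q, β (β q) = q) (hβz : β z = z) (hβw : β w = w)
    (hβc : ∀ r ∈ R, r * w = w * r → β r = r ∨ β r = r * w)
    (hP : ∀ p, p * z = z * p → β p = p → p * w = w * p)
    (hP' : ∀ p, p * z = z * p → w * β p * w⁻¹ = p → p * w = w * p) : False := by
  obtain ⟨x₀, hx₀, y₀, hy₀, hw0⟩ := h.mem w hw
  have hcom0 := h.com x₀ hx₀ y₀ hy₀
  have hx₀ne : x₀ ≠ 1 ∧ x₀ ≠ z := by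
    have key : w ∈ Q₂ → False := by
      intro h3
      have h4 := h.q2.sq w h3 hw1 hwz
      rw [hw2] at h4
      exact h.q1.z1 h4.symm
    constructor
    · rintro rfl
      rw [one_mul] at hw0
      exact key (hw0 ▸ hy₀)
    · rintro rfl
      exact key (hw0 ▸ Q₂.mul_mem h.q2.zQ hy₀)
  have hy₀ne : y₀ ≠ 1 ∧ y₀ ≠ z := by
    have key : w ∈ Q₁ → False := by
      intro h3
      have h4 := h.q1.sq w h3 hw1 hwz
      rw [hw2] at h4
      exact h.q1.z1 h4.symm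
    constructor
    · rintro rfl
      rw [mul_one] at hw0
      exact key (hw0 ▸ hx₀)
    · rintro rfl
      exact key (hw0 ▸ Q₁.mul_mem hx₀ h.q1.zQ)
  have hno : ∀ x y : K, x * y = y * x → x * y = y * x * z → False := by
    intro x y h5 h6
    rw [h5] at h6
    exact h.q1.ne_mul_z _ h6
  have hxw : x₀ * w = w * x₀ := by rw [hw0, mul_assoc, ← hcom0]
  rcases h.pres_or_swap hβR hβz with hb | hb
  · -- `β` preserves `Q₁`
    have hβx₀ : β x₀ = x₀ := by
      rcases hβc x₀ (h.le1 hx₀) hxw with h3 | h3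
      · exact h3
      · exfalso
        have h4 : w ∈ Q₁ := by
          have h5 : w = x₀⁻¹ * β x₀ := by rw [h3]; group
          rw [h5]
          exact Q₁.mul_mem (Q₁.inv_mem hx₀) (hb.1 x₀ hx₀)
        have h5 := h.q1.sq w h4 hw1 hwz
        rw [hw2] at h5
        exact h.q1.z1 h5.symm
    obtain ⟨q, hq, ha⟩ := h.q1.ex x₀ hx₀ hx₀ne.1 hx₀ne.2
    have hqy := h.com q hq y₀ hy₀
    have hzy : z * y₀ = y₀ * z := (h.q2.zc y₀ hy₀).symm
    have hanti : q * w = w * q * z := by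
      rw [hw0]
      calc q * (x₀ * y₀) = (q * x₀) * y₀ := by group
        _ = x₀ * q * (z * y₀) := by rw [ha]; group
        _ = x₀ * (q * y₀) * z := by rw [hzy]; group
        _ = x₀ * y₀ * q * z := by rw [hqy]; group
    have hqz := h.q1.zc q hq
    rcases h.q1.anti_cases hb.1 (fun q _ => hβ2 q) hβz hx₀ hq ha hβx₀ with h3 | h3
    · exact hno _ _ (hP q hqz h3) hanti
    · refine hno _ _ (hP' q hqz ?_) hanti
      rw [h3]
      have hwzc : z * w⁻¹ = w⁻¹ * z := by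
        have h4 : w * z = z * w := by
          have h5 := h.q1.zc x₀ hx₀
          calc w * z = x₀ * (z * y₀) := by rw [hw0, mul_assoc, hzy]
            _ = (x₀ * z) * y₀ := by group
            _ = z * w := by rw [h5, hw0]; group
        calc z * w⁻¹ = w⁻¹ * (w * z) * w⁻¹ := by group
          _ = w⁻¹ * (z * w) * w⁻¹ := by rw [h4]
          _ = w⁻¹ * z := by group
      calc w * (q * z) * w⁻¹ = w * q * (z * w⁻¹) := by group
        _ = w * q * w⁻¹ * z := by rw [hwzc]; group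
        _ = (w * q * z) * z * w⁻¹ * z := by
            rw [h.q1.mul_z_z]
        _ = q * w * (z * w⁻¹) * z := by rw [← hanti]; group
        _ = q * (z * z) := by rw [hwzc]; group
        _ = q := by rw [h.q1.z2, mul_one]
  · -- `β` swaps: use `d`
    have hconj : ∀ p, p * z = z * p → ∀ r ∈ R, MulAut.conj p r ∈ R := fun p hp r hr => hn p hp r hr
    set e := β d with he
    have hez : e * z = z * e := by
      have h3 := congrArg β hdz
      rwa [map_mul, map_mul, hβz] at h3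
    have he1 : ∀ x ∈ Q₁, e * x = x * e := by
      intro x hx
      have h3 := hd2 (β x) (hb.1 x hx)
      have h4 := congrArg β h3
      rwa [map_mul, map_mul, hβ2] at h4
    have he3 : e * e * e = 1 := by
      have h3 := congrArg β hd3
      rwa [map_mul, map_mul, map_one] at h3
    have conj_z : ∀ p, p * z = z * p → MulAut.conj p z = z := by
      intro p hp
      show p * z * p⁻¹ = z
      rw [hp]; group
    -- `d` preserves `Q₁` and `e` preserves `Q₂`
    have hdp : (∀ x ∈ Q₁, MulAut.conj d x ∈ Q₁) := by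
      refine (h.symm.pres_of (hconj d hdz) (conj_z d hdz) hy₀ hy₀ne.1 hy₀ne.2 ?_).2
      show d * y₀ * d⁻¹ ∈ Q₂
      rw [hd2 y₀ hy₀]
      have : y₀ * d * d⁻¹ = y₀ := by group
      rw [this]
      exact hy₀
    have hep : (∀ y ∈ Q₂, MulAut.conj e y ∈ Q₂) := by
      refine (h.pres_of (hconj e hez) (conj_z e hez) hx₀ hx₀ne.1 hx₀ne.2 ?_).2
      show e * x₀ * e⁻¹ ∈ Q₁
      rw [he1 x₀ hx₀]
      have : x₀ * e * e⁻¹ = x₀ := by group
      rw [this]
      exact hx₀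
    -- `[d, e] = 1`
    have inv_z : ∀ p, p * z = z * p → p⁻¹ * z = z * p⁻¹ := by
      intro p hp
      calc p⁻¹ * z = p⁻¹ * (z * p) * p⁻¹ := by group
        _ = p⁻¹ * (p * z) * p⁻¹ := by rw [hp]
        _ = z * p⁻¹ := by group
    have hde : d * e = e * d := by
      have hcz : (d * e * d⁻¹ * e⁻¹) * z = z * (d * e * d⁻¹ * e⁻¹) := by
        calc (d * e * d⁻¹ * e⁻¹) * z = d * e * d⁻¹ * (e⁻¹ * z) := by group
          _ = d * e * (d⁻¹ * z) * e⁻¹ := by rw [inv_z e hez]; group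
          _ = d * (e * z) * d⁻¹ * e⁻¹ := by rw [inv_z d hdz]; group
          _ = (d * z) * e * d⁻¹ * e⁻¹ := by rw [hez]; group
          _ = z * (d * e * d⁻¹ * e⁻¹) := by rw [hdz]; group
      have inv_c : ∀ p x : K, p * x = x * p → p⁻¹ * x = x * p⁻¹ := by
        intro p x hp
        calc p⁻¹ * x = p⁻¹ * (x * p) * p⁻¹ := by group
          _ = p⁻¹ * (p * x) * p⁻¹ := by rw [hp]
          _ = x * p⁻¹ := by group
      have hcx : ∀ x ∈ Q₁, (d * e * d⁻¹ * e⁻¹) * x = x * (d * e * d⁻¹ * e⁻¹) := by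
        intro x hx
        have h3 : e * (d⁻¹ * x * d) = (d⁻¹ * x * d) * e := by
          refine he1 _ ?_
          have h4 : (∀ x ∈ Q₁, MulAut.conj d⁻¹ x ∈ Q₁) := by
            refine (h.symm.pres_of (hconj d⁻¹ (inv_z d hdz)) (conj_z _ (inv_z d hdz)) hy₀ hy₀ne.1 hy₀ne.2 ?_).2
            show d⁻¹ * y₀ * d⁻¹⁻¹ ∈ Q₂
            rw [inv_c d y₀ (hd2 y₀ hy₀)]
            have : y₀ * d⁻¹ * d⁻¹⁻¹ = y₀ := by group
            rw [this]
            exact hy₀
          have h5 := h4 x hx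
          have h6 : MulAut.conj d⁻¹ x = d⁻¹ * x * d := by
            show d⁻¹ * x * d⁻¹⁻¹ = d⁻¹ * x * d
            rw [inv_inv]
          rwa [h6] at h5
        calc (d * e * d⁻¹ * e⁻¹) * x = d * e * d⁻¹ * (e⁻¹ * x) := by group
          _ = d * (e * (d⁻¹ * x * d)) * d⁻¹ * e⁻¹ := by rw [inv_c e x (he1 x hx)]; group
          _ = x * (d * e * d⁻¹ * e⁻¹) := by rw [h3]; group
      have hcy : ∀ y ∈ Q₂, (d * e * d⁻¹ * e⁻¹) * y = y * (d * e * d⁻¹ * e⁻¹) := by
        intro y hy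
        have h4 : e⁻¹ * y * e ∈ Q₂ := by
          have h4 : (∀ x ∈ Q₂, MulAut.conj e⁻¹ x ∈ Q₂) := by
            refine (h.pres_of (hconj e⁻¹ (inv_z e hez)) (conj_z _ (inv_z e hez)) hx₀ hx₀ne.1 hx₀ne.2 ?_).2
            show e⁻¹ * x₀ * e⁻¹⁻¹ ∈ Q₁
            rw [inv_c e x₀ (he1 x₀ hx₀)]
            have : x₀ * e⁻¹ * e⁻¹⁻¹ = x₀ := by group
            rw [this]
            exact hx₀
          have h5 := h4 y hy
          have h6 : MulAut.conj e⁻¹ y = e⁻¹ * y * e := by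
            show e⁻¹ * y * e⁻¹⁻¹ = e⁻¹ * y * e
            rw [inv_inv]
          rwa [h6] at h5
        have h5 := inv_c d _ (hd2 _ h4)
        have h6 := hd2 y hy
        calc (d * e * d⁻¹ * e⁻¹) * y = d * e * (d⁻¹ * (e⁻¹ * y * e)) * e⁻¹ := by group
          _ = d * y * e * d⁻¹ * e⁻¹ := by rw [h5]; group
          _ = y * (d * e * d⁻¹ * e⁻¹) := by rw [h6]; group
      have hc1 : (∀ r ∈ R, (d * e * d⁻¹ * e⁻¹) * r = r * (d * e * d⁻¹ * e⁻¹)) := by
        intro r hr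
        obtain ⟨x, hx, y, hy, rfl⟩ := h.mem r hr
        rw [← mul_assoc, hcx x hx, mul_assoc, hcy y hy, ← mul_assoc]
      rcases hself _ hcz hc1 with h3 | h3
      · calc d * e = (d * e * d⁻¹ * e⁻¹) * (e * d) := by group
          _ = e * d := by rw [h3, one_mul]
      · exfalso
        have h4 : d * e * d⁻¹ = z * e := by
          calc d * e * d⁻¹ = (d * e * d⁻¹ * e⁻¹) * e := by group
            _ = z * e := by rw [h3]
        have h5 : (z * e) * (z * e) * (z * e) = 1 := by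
          rw [← h4]
          calc (d * e * d⁻¹) * (d * e * d⁻¹) * (d * e * d⁻¹) = d * (e * e * e) * d⁻¹ := by group
            _ = 1 := by rw [he3]; group
        have h6 : (z * e) * (z * e) * (z * e) = z := by
          have hc : Commute z e := hez.symm
          have h7 := hc.mul_pow 3
          have h8 : z ^ 3 = z := by rw [pow_succ, pow_two, h.q1.z2, one_mul]
          have h9 : e ^ 3 = 1 := by rw [pow_succ, pow_two, he3]
          rw [h8, h9, mul_one, pow_succ, pow_two] at h7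
          exact h7
        exact h.q1.z1 (h6.symm.trans h5)
    have hβde : β (d * e) = d * e := by
      rw [map_mul, he, hβ2, ← he, hde]
    have hdez : (d * e) * z = z * (d * e) := by
      calc (d * e) * z = d * (e * z) := by group
        _ = (d * z) * e := by rw [hez]; group
        _ = z * (d * e) := by rw [hdz]; group
    have h3 := hP _ hdez hβde
    -- `d x₀ d⁻¹ ∈ {x₀, x₀ z}`
    have h4 : (d * x₀ * d⁻¹) * (e * y₀ * e⁻¹) = x₀ * y₀ := by
      have h5 := he1 x₀ hx₀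
      have h6 := hd2 _ (hep y₀ hy₀)
      have h7 : MulAut.conj e y₀ = e * y₀ * e⁻¹ := rfl
      rw [h7] at h6
      have h8 : (d * e) * (x₀ * y₀) * (d * e)⁻¹ = (d * x₀ * d⁻¹) * (e * y₀ * e⁻¹) := by
        calc (d * e) * (x₀ * y₀) * (d * e)⁻¹ = d * (e * x₀) * y₀ * e⁻¹ * d⁻¹ := by group
          _ = d * x₀ * ((e * y₀ * e⁻¹) * d⁻¹) := by rw [h5]; group
          _ = (d * x₀ * d⁻¹) * (d * (e * y₀ * e⁻¹)) * d⁻¹ := by group
          _ = (d * x₀ * d⁻¹) * (e * y₀ * e⁻¹) := by rw [h6]; group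
      rw [← h8, ← hw0, h3]
      group
    have h5 : x₀⁻¹ * (d * x₀ * d⁻¹) = y₀ * (e * y₀ * e⁻¹)⁻¹ := by
      have h6 : d * x₀ * d⁻¹ = x₀ * y₀ * (e * y₀ * e⁻¹)⁻¹ := eq_mul_inv_of_mul_eq h4
      rw [h6]; group
    have h6 : x₀⁻¹ * (d * x₀ * d⁻¹) ∈ Q₁ := Q₁.mul_mem (Q₁.inv_mem hx₀) (hdp x₀ hx₀)
    have h7 : x₀⁻¹ * (d * x₀ * d⁻¹) ∈ Q₂ := by
      rw [h5]
      exact Q₂.mul_mem hy₀ (Q₂.inv_mem (hep y₀ hy₀))
    have h8 := hd1 x₀ hx₀ hx₀ne.1 hx₀ne.2
    rcases h.inf _ h6 h7 with h9 | h9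
    · exact h8.1 (inv_mul_eq_one.mp h9).symm
    · apply h8.2
      rw [← h9]; group

end IsQQ

/-! ### `Z₄ * Q₈` -/

/-- `R = Q ∪ Q c`, `c` central of order 4 with `c² = z`. -/
structure IsCQ (z c : K) (Q R : Subgroup K) : Prop where
  q : IsQ z Q
  le : Q ≤ R
  cR : c ∈ R
  cc : c * c = z
  com : ∀ r ∈ R, r * c = c * r
  mem : ∀ r ∈ R, r ∈ Q ∨ r * c ∈ Q

namespace IsCQ

variable {z c : K} {Q R : Subgroup K}

theorem c_ne (h : IsCQ z c Q R) : c ≠ 1 ∧ c ≠ z ∧ c ∉ Q := by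
  have h1 : c ≠ 1 := by
    rintro rfl
    apply h.q.z1
    rw [← h.cc, mul_one]
  have h2 : c ≠ z := by
    intro h3
    apply h.q.z1
    rw [← h.cc, h3, h.q.z2]
  refine ⟨h1, h2, ?_⟩
  intro h3
  obtain ⟨r, hr, ha⟩ := h.q.ex c h3 h1 h2
  rw [h.com r (h.le hr)] at ha
  exact h.q.ne_mul_z _ ha

/-- `α c ∈ {c, c z}` and `α Q ≤ Q`. -/
theorem aut (h : IsCQ z c Q R) {α : MulAut K} (hR : ∀ r ∈ R, α r ∈ R) (hR' : ∀ r ∈ R, ∃ s ∈ R, α s = r)
    (hz : α z = z) : (α c = c ∨ α c = c * z) ∧ ∀ q ∈ Q, α q ∈ Q := by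
  obtain ⟨c1, cz, cQ⟩ := h.c_ne
  have hcc : ∀ x : K, x * c * c = x * z := fun x => by rw [mul_assoc, h.cc]
  -- central elements of `R`
  have hcen : ∀ x ∈ R, (∀ r ∈ R, x * r = r * x) → x = 1 ∨ x = z ∨ x = c ∨ x = c * z := by
    intro x hx hxc
    have key : ∀ y ∈ Q, (∀ r ∈ R, y * r = r * y) → y = 1 ∨ y = z := by
      intro y hy hyc
      by_contra hcon
      push Not at hcon
      obtain ⟨r, hr, ha⟩ := h.q.ex y hy hcon.1 hcon.2
      rw [← hyc r (h.le hr)] at ha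
      exact h.q.ne_mul_z _ ha
    rcases h.mem x hx with h1 | h1
    · rcases key x h1 hxc with h2 | h2
      · exact Or.inl h2
      · exact Or.inr (Or.inl h2)
    · have h2 : ∀ r ∈ R, x * c * r = r * (x * c) := by
        intro r hr
        calc x * c * r = x * (c * r) := by group
          _ = x * r * c := by rw [← h.com r hr]; group
          _ = r * (x * c) := by rw [hxc r hr]; group
      rcases key _ h1 h2 with h3 | h3
      · right; right; right
        have h4 : x = c⁻¹ := eq_inv_of_mul_eq_one_left h3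
        rw [h4, inv_eq_iff_mul_eq_one, ← mul_assoc, h.cc, h.q.z2]
      · right; right; left
        have h4 : x = z * c⁻¹ := by rw [← h3]; group
        rw [h4, ← h.cc]; group
  have hαc : α c = c ∨ α c = c * z := by
    have h1 : ∀ r ∈ R, α c * r = r * α c := by
      intro r hr
      obtain ⟨s, hs, rfl⟩ := hR' r hr
      rw [← map_mul, ← map_mul, h.com s hs]
    rcases hcen _ (hR c h.cR) h1 with h2 | h2 | h2 | h2
    · exact absurd (α.injective (h2.trans (map_one α).symm)) c1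
    · exact absurd (α.injective (h2.trans hz.symm)) cz
    · exact Or.inl h2
    · exact Or.inr h2
  refine ⟨hαc, ?_⟩
  intro x hx
  by_cases hx1 : x = 1
  · rw [hx1, map_one]; exact Q.one_mem
  by_cases hxz : x = z
  · rw [hxz, hz]; exact h.q.zQ
  have hsq : α x * α x = z := by rw [← map_mul, h.q.sq x hx hx1 hxz, hz]
  rcases h.mem _ (hR x (h.le hx)) with h1 | h1
  · exact h1
  · exfalso
    -- `(α x c)² = 1`, so `α x c ∈ {1, z}`
    have h2 : (α x * c) * (α x * c) = 1 := by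
      have h3 := h.com _ (hR x (h.le hx))
      calc (α x * c) * (α x * c) = α x * (c * α x) * c := by group
        _ = α x * (α x * c) * c := by rw [← h3]
        _ = (α x * α x) * (c * c) := by group
        _ = 1 := by rw [hsq, h.cc, h.q.z2]
    have h3 : α x * c = 1 ∨ α x * c = z := by
      by_contra hcon
      push Not at hcon
      have h4 := h.q.sq _ h1 hcon.1 hcon.2
      rw [h2] at h4
      exact h.q.z1 h4.symm
    -- so `α x` is central, `x` is central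
    have h4 : ∀ r ∈ R, α x * r = r * α x := by
      intro r hr
      have h5 := h.com r hr
      have h6 : r * z = z * r := by
        have hcm : Commute r c := h5
        have h7 := (hcm.mul_right hcm).eq
        rwa [h.cc] at h7
      have h7 : α x = c⁻¹ ∨ α x = z * c⁻¹ := by
        rcases h3 with h3 | h3
        · left; exact eq_inv_of_mul_eq_one_left h3
        · right; rw [← h3]; group
      have h8 : c⁻¹ * r = r * c⁻¹ := by
        calc c⁻¹ * r = c⁻¹ * (r * c) * c⁻¹ := by group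
          _ = c⁻¹ * (c * r) * c⁻¹ := by rw [h5]
          _ = r * c⁻¹ := by group
      rcases h7 with h7 | h7
      · rw [h7, h8]
      · rw [h7]
        calc z * c⁻¹ * r = z * (c⁻¹ * r) := by group
          _ = (z * r) * c⁻¹ := by rw [h8]; group
          _ = r * (z * c⁻¹) := by rw [← h6]; group
    obtain ⟨r, hr, ha⟩ := h.q.ex x hx hx1 hxz
    have h5 := h4 (α r) (hR r (h.le hr))
    rw [← map_mul, ← map_mul] at h5
    rw [α.injective h5] at ha
    exact h.q.ne_mul_z _ ha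

/-- **constant fixed points on `Z₄ * Q₈`** -/
theorem fix (h : IsCQ z c Q R) {α β : MulAut K} (hα : ∀ q ∈ R, α q ∈ R) (hβ : ∀ q ∈ R, β q ∈ R)
    (hα2 : ∀ q, α (α q) = q) (hβ2 : ∀ q, β (β q) = q) (hc : ∀ q, α (β q) = β (α q))
    (hαz : α z = z) (hβz : β z = z) (h1 : ∀ q ∈ R, α q = q ↔ β q = q)
    (h2 : ∀ q ∈ R, α q = q ↔ α (β q) = q) : ∀ q ∈ R, α q = q := by
  have ha := h.aut hα (fun r hr => ⟨α r, hα r hr, hα2 r⟩) hαz
  have hb := h.aut hβ (fun r hr => ⟨β r, hβ r hr, hβ2 r⟩) hβz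
  have hαc : α c = c := by
    rcases ha.1 with h3 | h3
    · exact h3
    · rcases hb.1 with h4 | h4
      · exact (h1 c h.cR).mpr h4
      · refine (h2 c h.cR).mpr ?_
        rw [h4, map_mul, h3, hαz, h.q.mul_z_z]
  have hQ := h.q.fix ha.2 hb.2 (fun q _ => hα2 q) (fun q _ => hβ2 q) (fun q _ => hc q) hαz hβz
    (fun q hq => h1 q (h.le hq)) (fun q hq => h2 q (h.le hq))
  intro r hr
  rcases h.mem r hr with h3 | h3
  · exact hQ r h3
  · have h4 := hQ _ h3
    rw [map_mul, hαc] at h4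
    exact mul_right_cancel h4

/-- **the noncentral involution, `Z₄ * Q₈`** -/
theorem false_of_w (h : IsCQ z c Q R)
    {w : K} (hw : w ∈ R) (hw2 : w * w = 1) (hw1 : w ≠ 1) (hwz : w ≠ z) {β : MulAut K}
    (hβR : ∀ r ∈ R, β r ∈ R) (hβ2 : ∀ q, β (β q) = q) (hβz : β z = z) (hβw : β w = w)
    (hβc : ∀ r ∈ R, r * w = w * r → β r = r ∨ β r = r * w)
    (hP : ∀ p, p * z = z * p → β p = p → p * w = w * p)
    (hP' : ∀ p, p * z = z * p → w * β p * w⁻¹ = p → p * w = w * p) : False := by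
  have hb := h.aut hβR (fun r hr => ⟨β r, hβR r hr, hβ2 r⟩) hβz
  have hwQ : w ∉ Q := by
    intro h3
    have h4 := h.q.sq w h3 hw1 hwz
    rw [hw2] at h4
    exact h.q.z1 h4.symm
  have hx₀ : w * c ∈ Q := (h.mem w hw).resolve_left hwQ
  have hwc := h.com w hw
  have hcz : c * z = z * c := by rw [← h.cc]; group
  have hβc' : β c = c := by
    rcases hβc c h.cR hwc.symm with h3 | h3
    · exact h3
    · exfalso
      rcases hb.1 with h4 | h4
      · rw [h4] at h3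
        apply hw1
        calc w = c⁻¹ * (c * w) := by group
          _ = 1 := by rw [← h3]; group
      · rw [h4] at h3
        exact hwz (mul_left_cancel h3).symm
  obtain ⟨x₀, hx₀'⟩ : ∃ x, x = w * c := ⟨_, rfl⟩
  rw [← hx₀'] at hx₀
  have hβx₀ : β x₀ = x₀ := by rw [hx₀', map_mul, hβw, hβc']
  have hwcm : Commute w c := hwc
  have hxsq : x₀ * x₀ = z := by
    have h5 := hwcm.mul_pow 2
    rw [pow_two, pow_two, pow_two, hw2, h.cc, one_mul] at h5
    rw [hx₀']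
    exact h5
  have hx₀ne : x₀ ≠ 1 ∧ x₀ ≠ z := by
    constructor
    · intro h3
      have h4 : x₀ * x₀ = 1 := by rw [h3, mul_one]
      exact h.q.z1 (hxsq.symm.trans h4)
    · intro h3
      have h4 : x₀ * x₀ = 1 := by rw [h3, h.q.z2]
      exact h.q.z1 (hxsq.symm.trans h4)
  have hno : ∀ x y : K, x * y = y * x → x * y = y * x * z → False := by
    intro x y h5 h6
    rw [h5] at h6
    exact h.q.ne_mul_z _ h6
  obtain ⟨q, hq, ha⟩ := h.q.ex x₀ hx₀ hx₀ne.1 hx₀ne.2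
  have hqc := h.com q (h.le hq)
  have hqz := h.q.zc q hq
  have hanti : q * w = w * q * z := by
    have h3 : w = x₀ * c⁻¹ := by rw [hx₀']; group
    have hc' : c⁻¹ * q = q * c⁻¹ := by
      calc c⁻¹ * q = c⁻¹ * (q * c) * c⁻¹ := by group
        _ = c⁻¹ * (c * q) * c⁻¹ := by rw [hqc]
        _ = q * c⁻¹ := by group
    have hcz' : c⁻¹ * z = z * c⁻¹ := by
      calc c⁻¹ * z = c⁻¹ * (z * c) * c⁻¹ := by group
        _ = c⁻¹ * (c * z) * c⁻¹ := by rw [hcz]
        _ = z * c⁻¹ := by group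
    calc q * w = (q * x₀) * c⁻¹ := by rw [h3]; group
      _ = x₀ * q * (z * c⁻¹) := by rw [ha]; group
      _ = x₀ * (q * c⁻¹) * z := by rw [← hcz']; group
      _ = x₀ * c⁻¹ * q * z := by rw [← hc']; group
      _ = w * q * z := by rw [← h3]
  rcases h.q.anti_cases hb.2 (fun q _ => hβ2 q) hβz hx₀ hq ha hβx₀ with h3 | h3
  · exact hno _ _ (hP q hqz h3) hanti
  · refine hno _ _ (hP' q hqz ?_) hanti
    rw [h3]
    have hwzc : z * w⁻¹ = w⁻¹ * z := by
      have h4 : w * z = z * w := by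
        have h7 := (hwcm.mul_right hwcm).eq
        rwa [h.cc] at h7
      calc z * w⁻¹ = w⁻¹ * (w * z) * w⁻¹ := by group
        _ = w⁻¹ * (z * w) * w⁻¹ := by rw [h4]
        _ = w⁻¹ * z := by group
    calc w * (q * z) * w⁻¹ = w * q * (z * w⁻¹) := by group
      _ = w * q * w⁻¹ * z := by rw [hwzc]; group
      _ = (w * q * z) * z * w⁻¹ * z := by
          rw [h.q.mul_z_z]
      _ = q * w * (z * w⁻¹) * z := by rw [← hanti]; group
      _ = q * (z * z) := by rw [hwzc]; group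
      _ = q := by rw [h.q.z2, mul_one]

end IsCQ

end Cfsg.Agent.OddHalf.D4.Small
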