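import Mathlib
import Cfsg.Agent.OddHalf.D4.Small.End
import Cfsg.Agent.OddHalf.D4.Small.Types

/-!
# ODD, D4, small Lie odd: the K-facts (group level) and the row theorem

* `Sheet K S R z`: `S` a Sylow 2-subgroup of `K`, `z` the involution of `Z(S)`, `R = O₂(C_K(z))`, with
  constructors `Sheet.of_Q` (`Q₈`), `Sheet.of_CQ` (`Z₄ * Q₈`), `Sheet.of_QQ` (`Q₈ * Q₈`);
* `FOneK K`: 2-elements of `Aut K` centralizing a Sylow 2-subgroup are inner by its center;
* `NoSEK K`: no strongly embedded subgroup;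
* `Row K`: everything; `row_false`: the row of D4.
-/

set_option autoImplicit false

namespace Cfsg.Agent.OddHalf.D4.Small

open Subgroup Cfsg Basic

universe u v

/-- The common part of a sheet. -/
structure Sheet0 (K : Type u) [Group K] (S R : Subgroup K) (z : K) : Prop where
  z2 : z * z = 1
  z1 : z ≠ 1
  zR : z ∈ R
  RS : R ≤ S
  zc : ∀ s ∈ S, s * z = z * s
  uniq : ∀ x ∈ S, x * x = 1 → x ≠ 1 → (∀ s ∈ S, s * x = x * s) → x = z
  Rn : ∀ p, p * z = z * p → ∀ r ∈ R, p * r * p⁻¹ ∈ R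
  char : ∀ α : MulAut K, α z = z → ∀ r ∈ R, α r ∈ R

/-- The sheet of `K` at the Sylow 2-subgroup `S`. -/
structure Sheet (K : Type u) [Group K] (S R : Subgroup K) (z : K) : Prop extends Sheet0 K S R z where
  self : ∀ p, p * z = z * p → (∀ r ∈ R, p * r = r * p) → p ∈ R
  cyc : ∀ x ∈ R, (∀ r ∈ R, x * r = r * x) → x * x = 1 → x = 1 ∨ x = z
  sq : ∀ x ∈ R, x * x = 1 ∨ x * x = z
  comm : ∀ x ∈ R, ∀ y ∈ R, x * y = y * x ∨ x * y = y * x * z
  dc : ∀ x ∈ R, ∀ y ∈ R, x * x = 1 → y * y = 1 → (∀ r ∈ R, r * x = x * r → r * y = y * r) →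
    y = 1 ∨ y = z ∨ y = x ∨ y = x * z
  lr : ∀ α β : MulAut K, (∀ x, α (α x) = x) → (∀ x, β (β x) = x) → (∀ x, α (β x) = β (α x)) → α z = z →
    β z = z → (∀ r ∈ R, α r = r ↔ β r = r) → (∀ r ∈ R, α r = r ↔ α (β r) = r) → ∀ r ∈ R, α r = r
  lw : ∀ w ∈ R, w * w = 1 → w ≠ 1 → w ≠ z → ∀ β : MulAut K, (∀ x, β (β x) = x) → β z = z → β w = w →
    (∀ r ∈ R, r * w = w * r → β r = r ∨ β r = r * w) → (∀ p, p * z = z * p → β p = p → p * w = w * p) →
    (∀ p, p * z = z * p → w * β p * w⁻¹ = p → p * w = w * p) → False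

def HasSheet (K : Type u) [Group K] : Prop := ∀ S : Sylow 2 K, ∃ (z : K) (R : Subgroup K), Sheet K S R z

def FOneK (K : Type u) [Group K] : Prop :=
  ∀ (S : Sylow 2 K) (α : MulAut K), (∃ n : ℕ, α ^ 2 ^ n = 1) → (∀ s ∈ (S : Subgroup K), α s = s) →
    ∃ k ∈ (S : Subgroup K), (∀ s ∈ (S : Subgroup K), s * k = k * s) ∧ ∀ x, α x = k * x * k⁻¹

def NoSEK (K : Type u) [Group K] : Prop :=
  ∀ D : Subgroup K, D ≠ ⊤ → ∀ T : Sylow 2 K, (T : Subgroup K) ≤ D →
    (∀ s ∈ (T : Subgroup K), s * s = 1 → s ≠ 1 → ∀ x, x * s = s * x → x ∈ D) → False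

/-! ### Conjugation automorphisms -/

section Conj

variable {G : Type u} [Group G] {K : Subgroup G}

/-- conjugation by an element of `N(K)` -/
def cAut {a : G} (ha : a ∈ normalizer (K : Set G)) : MulAut ↥K where
  toFun x := ⟨a * x * a⁻¹, (mem_normalizer_iff.mp ha x).mp x.2⟩
  invFun x := ⟨a⁻¹ * x * a, (mem_normalizer_iff''.mp ha x).mp x.2⟩
  left_inv x := Subtype.ext (by show a⁻¹ * (a * (x : G) * a⁻¹) * a = x; group)
  right_inv x := Subtype.ext (by show a * (a⁻¹ * (x : G) * a) * a⁻¹ = x; group)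
  map_mul' x y := Subtype.ext (by
    show a * ((x : G) * y) * a⁻¹ = a * x * a⁻¹ * (a * y * a⁻¹)
    group)

theorem cAut_coe {a : G} (ha : a ∈ normalizer (K : Set G)) (x : ↥K) : ((cAut ha x : ↥K) : G) = a * x * a⁻¹ :=
  rfl

theorem cAut_eq_iff {a : G} (ha : a ∈ normalizer (K : Set G)) (x : ↥K) : cAut ha x = x ↔ a * x = x * a := by
  rw [Subtype.ext_iff, cAut_coe]
  exact mul_inv_eq_iff_eq_mul

theorem cAut_mul {a b : G} (ha : a ∈ normalizer (K : Set G)) (hb : b ∈ normalizer (K : Set G)) (x : ↥K) :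
    cAut ha (cAut hb x) = cAut (mul_mem ha hb) x := by
  apply Subtype.ext
  rw [cAut_coe, cAut_coe, cAut_coe]
  group

theorem cAut_congr {a b : G} (h : a = b) (ha : a ∈ normalizer (K : Set G)) (hb : b ∈ normalizer (K : Set G))
    (x : ↥K) : cAut ha x = cAut hb x := by subst h; rfl

theorem cAut_one' {a : G} (h : a = 1) (ha : a ∈ normalizer (K : Set G)) (x : ↥K) : cAut ha x = x := by
  subst h
  apply Subtype.ext
  rw [cAut_coe]
  group

theorem cAut_sq {a : G} (ha : a ∈ normalizer (K : Set G)) (h2 : a * a = 1) (x : ↥K) :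
    cAut ha (cAut ha x) = x := by
  rw [cAut_mul]
  exact cAut_one' h2 _ x

theorem cAut_pow {a : G} (ha : a ∈ normalizer (K : Set G)) (n : ℕ) (x : ↥K) :
    ((((cAut ha) ^ n : MulAut ↥K) x : ↥K) : G) = a ^ n * x * (a ^ n)⁻¹ := by
  induction n with
  | zero => simp
  | succ n ih =>
    have h1 : ((cAut ha) ^ (n + 1) : MulAut ↥K) x = cAut ha (((cAut ha) ^ n : MulAut ↥K) x) := by
      rw [pow_succ']
      rfl
    rw [h1, cAut_coe, ih, pow_succ']
    group

end Conj

/-! ### From the group level to subgroups -/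

section ToG

variable {G : Type u} [Group G] {K : Subgroup G}

theorem Sheet.toLocG {S R : Subgroup ↥K} {z : ↥K} (h : Sheet ↥K S R z) : LocG K (R.map K.subtype) (z : G) := by
  have val : ∀ {x y : ↥K}, (x : G) = y → x = y := fun h => Subtype.ext h
  have hmem : ∀ x : ↥K, (x : G) ∈ R.map K.subtype → x ∈ R := by
    rintro x ⟨y, hy, hyx⟩
    have : y = x := val hyx
    rwa [← this]
  have comv : ∀ {x y : ↥K}, (x : G) * y = y * x → x * y = y * x := fun h => val h
  have vcom : ∀ {x y : ↥K}, x * y = y * x → (x : G) * y = y * x := fun h => congrArg Subtype.val h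
  refine
    { zK := z.2, z2 := congrArg Subtype.val h.z2, z1 := fun h1 => h.z1 (val h1), zR := ⟨z, h.zR, rfl⟩
      RK := map_subtype_le R, Rz := ?_, Rn := ?_, self := ?_, cyc := ?_, sq := ?_, comm := ?_, dc := ?_
      lr := ?_, lw := ?_ }
  · rintro _ ⟨r, hr, rfl⟩
    exact vcom (h.zc r (h.RS hr))
  · rintro p hp hpz _ ⟨r, hr, rfl⟩
    have h1 : cAut hp z = z := (cAut_eq_iff hp z).mpr hpz
    exact ⟨cAut hp r, h.char _ h1 r hr, rfl⟩
  · intro p hp hpz hpr
    refine ⟨⟨p, hp⟩, h.self ⟨p, hp⟩ (val hpz) (fun r hr => val (hpr r ⟨r, hr, rfl⟩)), rfl⟩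
  · rintro _ ⟨x, hx, rfl⟩ hxr hx2
    rcases h.cyc x hx (fun r hr => val (hxr r ⟨r, hr, rfl⟩)) (val hx2) with h1 | h1
    · left; rw [h1]; rfl
    · right; rw [h1]; rfl
  · rintro _ ⟨x, hx, rfl⟩
    rcases h.sq x hx with h1 | h1
    · left; exact congrArg Subtype.val h1
    · right; exact congrArg Subtype.val h1
  · rintro _ ⟨x, hx, rfl⟩ _ ⟨y, hy, rfl⟩
    rcases h.comm x hx y hy with h1 | h1
    · left; exact congrArg Subtype.val h1
    · right; exact congrArg Subtype.val h1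
  · rintro _ ⟨x, hx, rfl⟩ _ ⟨y, hy, rfl⟩ hx2 hy2 hr
    rcases h.dc x hx y hy (val hx2) (val hy2) (fun r hr' hrx => val (hr r ⟨r, hr', rfl⟩ (congrArg Subtype.val hrx)))
      with h1 | h1 | h1 | h1
    · left; rw [h1]; rfl
    · right; left; rw [h1]; rfl
    · right; right; left; rw [h1]
    · right; right; right; rw [h1]; rfl
  · intro a ha b hb ha2 hb2 hab haz hbz h1 h2
    have key := h.lr (cAut ha) (cAut hb) (cAut_sq ha ha2) (cAut_sq hb hb2)
      (fun x => by rw [cAut_mul, cAut_mul]; exact cAut_congr hab _ _ x)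
      ((cAut_eq_iff ha z).mpr haz) ((cAut_eq_iff hb z).mpr hbz)
      (fun r hr => by
        rw [cAut_eq_iff, cAut_eq_iff]
        exact h1 r ⟨r, hr, rfl⟩)
      (fun r hr => by
        rw [cAut_mul, cAut_eq_iff, cAut_eq_iff]
        exact h2 r ⟨r, hr, rfl⟩)
    rintro _ ⟨r, hr, rfl⟩
    exact (cAut_eq_iff ha r).mp (key r hr)
  · rintro _ ⟨w, hw, rfl⟩ hw2 hw1 hwz b hb hb2 hbz hbw h1 h2 h3
    have hwK : (w : G) ∈ normalizer (K : Set G) := le_normalizer w.2
    refine h.lw w hw (val hw2) (fun h4 => hw1 (by rw [h4]; rfl)) (fun h4 => hwz (by rw [h4]; rfl)) (cAut hb)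
      (cAut_sq hb hb2) ((cAut_eq_iff hb z).mpr hbz) ((cAut_eq_iff hb w).mpr hbw) ?_ ?_ ?_
    · intro r hr hrw
      rcases h1 r ⟨r, hr, rfl⟩ (congrArg Subtype.val hrw) with h4 | h4
      · left; exact val h4
      · right; exact val h4
    · intro p hpz hbp
      exact val (h2 p p.2 (congrArg Subtype.val hpz) ((cAut_eq_iff hb p).mp hbp))
    · intro p hpz hbp
      refine val (h3 p p.2 (congrArg Subtype.val hpz) ?_)
      have h4 : (w : G) * (b * p * b⁻¹) * (w : G)⁻¹ = p := congrArg Subtype.val hbp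
      show (w : G) * b * p = p * (w * b)
      calc (w : G) * b * p = ((w : G) * (b * p * b⁻¹) * (w : G)⁻¹) * (w * b) := by group
        _ = p * (w * b) := by rw [h4]

/-- For `S` Sylow in `N(K)`, `S ∩ K` is a Sylow 2-subgroup of `↥K`. -/
theorem exists_sylow_inf [Finite G] {S : Subgroup G} (hS : IsSyl S (normalizer (K : Set G))) :
    ∃ P : Sylow 2 ↥K, ∀ x : ↥K, x ∈ (P : Subgroup ↥K) ↔ (x : G) ∈ S := by
  obtain ⟨P, hP⟩ := (IsSyl.inf_K hS).toSylow
  refine ⟨P, ?_⟩
  intro x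
  rw [hP, mem_subgroupOf]
  exact ⟨fun h => h.1, fun h => ⟨h, x.2⟩⟩

theorem HasSheet.atS [Finite G] (h : HasSheet ↥K) {S : Subgroup G} (hS : IsSyl S (normalizer (K : Set G))) :
    ∃ (z : G) (R : Subgroup G), AtS K S R z := by
  obtain ⟨P, hP⟩ := exists_sylow_inf hS
  obtain ⟨z, R, hs⟩ := h P
  have hzP : z ∈ (P : Subgroup ↥K) := hs.RS hs.zR
  have hzS : (z : G) ∈ S := (hP z).mp hzP
  have huniq : ∀ x ∈ S, x ∈ K → x * x = 1 → x ≠ 1 → (∀ s ∈ S, s ∈ K → s * x = x * s) → x = (z : G) := by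
    intro x hxS hxK hx2 hx1 hxc
    have h1 := hs.uniq ⟨x, hxK⟩ ((hP _).mpr hxS) (Subtype.ext hx2) (fun h1 => hx1 (congrArg Subtype.val h1))
      (fun s hs' => Subtype.ext (hxc s ((hP s).mp hs') s.2))
    exact congrArg Subtype.val h1
  refine ⟨z, R.map K.subtype, hs.toLocG, hzS, ?_, huniq⟩
  intro s hs'
  have hsN := hS.le hs'
  have h1 : s * (z : G) * s⁻¹ = z := by
    refine huniq _ (S.mul_mem (S.mul_mem hs' hzS) (S.inv_mem hs')) ((mem_normalizer_iff.mp hsN _).mp z.2) ?_ ?_ ?_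
    · have h2 : (z : G) * z = 1 := congrArg Subtype.val hs.z2
      calc s * (z : G) * s⁻¹ * (s * z * s⁻¹) = s * ((z : G) * z) * s⁻¹ := by group
        _ = 1 := by rw [h2]; group
    · intro h2
      apply hs.z1
      apply Subtype.ext
      have h3 : (z : G) = s⁻¹ * (s * z * s⁻¹) * s := by group
      rw [h3, h2]
      group
      rfl
    · intro t ht htK
      have h2 : s⁻¹ * t * s ∈ S := S.mul_mem (S.mul_mem (S.inv_mem hs') ht) hs'
      have h3 : s⁻¹ * t * s ∈ K := (mem_normalizer_iff''.mp hsN t).mp htK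
      have h4 : (⟨s⁻¹ * t * s, h3⟩ : ↥K) * z = z * ⟨s⁻¹ * t * s, h3⟩ := hs.zc _ ((hP _).mpr h2)
      have h5 : s⁻¹ * t * s * (z : G) = z * (s⁻¹ * t * s) := congrArg Subtype.val h4
      calc t * (s * (z : G) * s⁻¹) = s * (s⁻¹ * t * s * z) * s⁻¹ := by group
        _ = s * (z * (s⁻¹ * t * s)) * s⁻¹ := by rw [h5]
        _ = s * z * s⁻¹ * t := by group
  calc s * (z : G) = (s * z * s⁻¹) * s := by group
    _ = z * s := by rw [h1]

theorem FOneK.toG [Finite G] (h : FOneK ↥K) : FOne K := by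
  intro S hS y hy hyc
  obtain ⟨P, hP⟩ := exists_sylow_inf hS
  have hyN := hS.le hy
  obtain ⟨n, hn⟩ := hS.two ⟨y, hy⟩
  have hn' : y ^ 2 ^ n = 1 := congrArg Subtype.val hn
  obtain ⟨k, hk, hkc, hkα⟩ := h P (cAut hyN) ⟨n, by
    ext x
    rw [cAut_pow, hn']
    simp⟩ (fun s hs => (cAut_eq_iff hyN s).mpr (hyc s ((hP s).mp hs) s.2).symm)
  refine ⟨y * (k : G)⁻¹, ?_, k, (hP k).mp hk, k.2, ?_, by group⟩
  · rw [mem_centralizer_iff]
    intro x hx
    have h1 : y * x * y⁻¹ = k * x * (k : G)⁻¹ := congrArg Subtype.val (hkα ⟨x, hx⟩)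
    have h2 := hkα (⟨k⁻¹ * x * k, K.mul_mem (K.mul_mem (K.inv_mem k.2) hx) k.2⟩ : ↥K)
    have h3 : y * ((k : G)⁻¹ * x * k) * y⁻¹ = k * ((k : G)⁻¹ * x * k) * (k : G)⁻¹ := congrArg Subtype.val h2
    calc x * (y * (k : G)⁻¹) = (k * ((k : G)⁻¹ * x * k) * (k : G)⁻¹) * (y * (k : G)⁻¹) := by group
      _ = (y * ((k : G)⁻¹ * x * k) * y⁻¹) * (y * (k : G)⁻¹) := by rw [h3]
      _ = y * (k : G)⁻¹ * x := by group
  · intro u hu huK
    exact congrArg Subtype.val (hkc ⟨u, huK⟩ ((hP _).mpr hu))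

theorem NoSEK.toG [Finite G] (h : NoSEK ↥K) : NoSE K := by
  intro D hDK hne T hT hTD hc
  obtain ⟨P, hP⟩ := hT.toSylow
  refine h (D.subgroupOf K) ?_ P ?_ ?_
  · intro h1
    apply hne
    apply le_antisymm hDK
    intro x hx
    have h2 : (⟨x, hx⟩ : ↥K) ∈ D.subgroupOf K := by rw [h1]; exact mem_top _
    exact mem_subgroupOf.mp h2
  · rw [hP]
    intro x hx
    rw [mem_subgroupOf] at hx ⊢
    exact hTD hx
  · intro s hs hs2 hs1 x hxs
    rw [hP, mem_subgroupOf] at hs
    rw [mem_subgroupOf]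
    exact hc s hs (congrArg Subtype.val hs2) (fun h1 => hs1 (Subtype.ext h1)) x x.2 (congrArg Subtype.val hxs)

end ToG

/-! ### Transport -/

section Transport

variable {K : Type u} [Group K] {L : Type v} [Group L]

theorem Sheet.map {S R : Subgroup K} {z : K} (h : Sheet K S R z) (e : K ≃* L) :
    Sheet L (S.comap e.symm.toMonoidHom) (R.comap e.symm.toMonoidHom) (e z) := by
  have hz : ∀ x : L, x * e z = e z * x ↔ e.symm x * z = z * e.symm x := by
    intro x
    constructor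
    · intro hx
      have := congrArg e.symm hx
      simpa using this
    · intro hx
      have := congrArg e hx
      simpa using this
  have toK : ∀ {x y : L}, e.symm x = e.symm y → x = y := fun hxy => e.symm.injective hxy
  have ofK : ∀ {x : L}, ∀ {y : K}, e.symm x = y → x = e y := fun hxy => by rw [← hxy]; simp
  have ofK1 : ∀ {x : L}, e.symm x = 1 → x = 1 := fun hxy => by rw [ofK hxy, map_one]
  have mR : ∀ {r : K}, r ∈ R → e r ∈ R.comap e.symm.toMonoidHom := fun hr => by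
    show e.symm (e _) ∈ R
    simpa using hr
  have mS : ∀ {r : K}, r ∈ S → e r ∈ S.comap e.symm.toMonoidHom := fun hr => by
    show e.symm (e _) ∈ S
    simpa using hr
  have hsymm : ∀ x y : L, x * y = y * x ↔ e.symm x * e.symm y = e.symm y * e.symm x := by
    intro x y
    rw [← map_mul, ← map_mul, e.symm.injective.eq_iff]
  have eqe : ∀ x : L, ∀ y : K, e.symm x = y ↔ x = e y := fun x y => by
    constructor
    · exact ofK
    · rintro rfl; simp
  -- the pulled back automorphism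
  let pb : MulAut L → MulAut K := fun α => (e.trans α).trans e.symm
  have pb_apply : ∀ (α : MulAut L) (x : K), pb α x = e.symm (α (e x)) := fun _ _ => rfl
  have pb_eq : ∀ (α : MulAut L) (x : L), pb α (e.symm x) = e.symm (α x) := fun α x => by
    rw [pb_apply]; simp
  have pbz : ∀ α : MulAut L, α (e z) = e z → pb α z = z := fun α hα => by
    rw [pb_apply, hα]; simp
  refine
    { z2 := ?_, z1 := ?_, zR := mR h.zR, RS := ?_, zc := ?_, uniq := ?_, Rn := ?_, char := ?_
      self := ?_, cyc := ?_, sq := ?_, comm := ?_, dc := ?_, lr := ?_, lw := ?_ }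
  · rw [← map_mul, h.z2, map_one]
  · intro h1
    exact h.z1 (e.injective (by rw [h1, map_one]))
  · intro x hx
    exact h.RS hx
  · intro s hs
    exact (hz s).mpr (h.zc _ hs)
  · intro x hx hx2 hx1 hxc
    apply ofK
    refine h.uniq _ hx ?_ ?_ ?_
    · rw [← map_mul, hx2, map_one]
    · intro h1; exact hx1 (ofK1 h1)
    · intro s hs
      have h1 := (hsymm _ _).mp (hxc (e s) (mS hs))
      simpa using h1
  · intro p hp r hr
    have h1 := h.Rn _ ((hz p).mp hp) _ hr
    show e.symm (p * r * p⁻¹) ∈ R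
    simpa using h1
  · intro α hα r hr
    have h1 := h.char (pb α) (pbz α hα) _ hr
    show e.symm (α r) ∈ R
    rwa [← pb_eq]
  · intro p hp hpr
    refine h.self _ ((hz p).mp hp) ?_
    intro r hr
    have h1 := (hsymm _ _).mp (hpr (e r) (mR hr))
    simpa using h1
  · intro x hx hxr hx2
    rcases h.cyc _ hx (fun r hr => by
      have h1 := (hsymm _ _).mp (hxr (e r) (mR hr))
      simpa using h1) (by rw [← map_mul, hx2, map_one]) with h1 | h1
    · left; exact ofK1 h1
    · right; exact ofK h1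
  · intro x hx
    rcases h.sq _ hx with h1 | h1
    · left; rw [← map_mul] at h1; exact ofK1 h1
    · right; rw [← map_mul] at h1; exact ofK h1
  · intro x hx y hy
    rcases h.comm _ hx _ hy with h1 | h1
    · left; exact (hsymm _ _).mpr h1
    · right
      rw [← map_mul, ← map_mul] at h1
      have h2 := ofK h1
      rw [h2]
      simp
  · intro x hx y hy hx2 hy2 hr
    rcases h.dc _ hx _ hy (by rw [← map_mul, hx2, map_one]) (by rw [← map_mul, hy2, map_one])
      (fun r hr' hrx => by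
        have h1 := hr (e r) (mR hr') ((hsymm _ _).mpr (by simpa using hrx))
        have h2 := (hsymm _ _).mp h1
        simpa using h2) with h1 | h1 | h1 | h1
    · left; exact ofK1 h1
    · right; left; exact ofK h1
    · right; right; left; exact toK h1
    · right; right; right
      have h2 := ofK h1
      rw [h2]
      simp
  · intro α β hα hβ hαβ hαz hβz h1 h2 r hr
    have key := h.lr (pb α) (pb β) (fun x => by rw [pb_apply α x, pb_eq, hα]; simp)
      (fun x => by rw [pb_apply β x, pb_eq, hβ]; simp)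
      (fun x => by rw [pb_apply β x, pb_eq, hαβ, pb_apply α x, pb_eq]) (pbz α hαz) (pbz β hβz)
      (fun r hr => by
        have h3 := h1 (e r) (mR hr)
        rw [pb_apply, pb_apply, eqe, eqe]
        exact h3)
      (fun r hr => by
        have h3 := h2 (e r) (mR hr)
        rw [pb_apply β r, pb_eq, pb_apply, eqe, eqe]
        exact h3)
      (e.symm r) hr
    rw [pb_eq] at key
    exact toK key
  · intro w hw hw2 hw1 hwz β hβ hβz hβw h1 h2 h3
    refine h.lw (e.symm w) hw (by rw [← map_mul, hw2, map_one]) (fun h4 => hw1 (ofK1 h4))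
      (fun h4 => hwz (ofK h4)) (pb β) (fun x => by rw [pb_apply β x, pb_eq, hβ]; simp) (pbz β hβz)
      (by rw [pb_eq, hβw]) ?_ ?_ ?_
    · intro r hr hrw
      have h4 : e r * w = w * e r := (hsymm _ _).mpr (by simpa using hrw)
      rcases h1 (e r) (mR hr) h4 with h5 | h5
      · left; rw [pb_apply, h5]; simp
      · right; rw [pb_apply, h5]; simp
    · intro p hp hβp
      have h4 : e p * e z = e z * e p := by rw [← map_mul, ← map_mul, hp]
      have h5 : β (e p) = e p := by rw [pb_apply, eqe] at hβp; exact hβp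
      have h6 := (hsymm _ _).mp (h2 (e p) h4 h5)
      simpa using h6
    · intro p hp hβp
      have h4 : e p * e z = e z * e p := by rw [← map_mul, ← map_mul, hp]
      have h5 : w * β (e p) * w⁻¹ = e p := by
        rw [pb_apply] at hβp
        apply toK
        rw [map_mul, map_mul, map_inv, hβp]
        simp
      have h6 := (hsymm _ _).mp (h3 (e p) h4 h5)
      simpa using h6

end Transport

end Cfsg.Agent.OddHalf.D4.Small
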