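import Mathlib
import Cfsg.Agent.OddHalf.D4.Small.Sheet

/-!
# ODD, D4, small Lie odd: constructors for `Sheet`

`Sheet.of_Q` (`R = Q₈`), `Sheet.of_CQ` (`R = Z₄ * Q₈`), `Sheet.of_QQ` (`R = Q₈ * Q₈`).
-/

set_option autoImplicit false
set_option linter.unusedVariables false

namespace Cfsg.Agent.OddHalf.D4.Small

open Subgroup

universe u

variable {K : Type u} [Group K] {S R Q Q₁ Q₂ : Subgroup K} {z c : K}

theorem IsQ.central (h : IsQ z Q) {x : K} (hx : x ∈ Q) (hc : ∀ r ∈ Q, x * r = r * x) : x = 1 ∨ x = z := by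
  by_contra hcon
  push Not at hcon
  obtain ⟨r, hr, ha⟩ := h.ex x hx hcon.1 hcon.2
  apply h.z1
  have h1 : r * x = r * x * z := by
    calc r * x = x * r * z := ha
      _ = r * x * z := by rw [hc r hr]
  calc z = (r * x)⁻¹ * (r * x * z) := by group
    _ = 1 := by rw [← h1]; group

theorem IsQ.comm (h : IsQ z Q) {x y : K} (hx : x ∈ Q) (hy : y ∈ Q) : x * y = y * x ∨ x * y = y * x * z := by
  by_cases hx1 : x = 1
  · left; rw [hx1]; simp
  by_cases hxz : x = z
  · left; rw [hxz]; exact (h.zc y hy).symm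
  by_cases hy1 : y = 1
  · left; rw [hy1]; simp
  by_cases hyz : y = z
  · left; rw [hyz]; exact h.zc x hx
  rcases h.anti x hx y hy hx1 hxz hy1 hyz with h1 | h1 | h1
  · left; rw [h1]
  · left
    rw [h1, mul_assoc, ← h.zc x hx]
  · right
    rw [h1, mul_assoc, h.z2, mul_one]

theorem IsQ.comm_iff (h : IsQ z Q) {x y : K} (hx : x ∈ Q) (hy : y ∈ Q) (hx1 : x ≠ 1) (hxz : x ≠ z)
    (hc : x * y = y * x) : y = 1 ∨ y = z ∨ y = x ∨ y = x * z := by
  by_cases hy1 : y = 1
  · exact Or.inl hy1
  by_cases hyz : y = z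
  · exact Or.inr (Or.inl hyz)
  rcases h.anti x hx y hy hx1 hxz hy1 hyz with h1 | h1 | h1
  · exact Or.inr (Or.inr (Or.inl h1))
  · exact Or.inr (Or.inr (Or.inr h1))
  · exfalso
    apply h.z1
    rw [hc] at h1
    calc z = (y * x)⁻¹ * (y * x * z) := by group
      _ = 1 := by rw [← h1]; group

theorem IsQ.sq' (h : IsQ z Q) {x : K} (hx : x ∈ Q) : x * x = 1 ∨ x * x = z := by
  by_cases hx1 : x = 1
  · left; rw [hx1]; simp
  by_cases hxz : x = z
  · left; rw [hxz]; exact h.z2
  · right; exact h.sq x hx hx1 hxz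

theorem IsQ.inv_sq (h : IsQ z Q) {x : K} (hx : x ∈ Q) (h2 : x * x = 1) : x = 1 ∨ x = z := by
  by_contra hcon
  push Not at hcon
  apply h.z1
  rw [← h.sq x hx hcon.1 hcon.2, h2]

/-- `R = Q₈` -/
theorem Sheet.of_Q (h0 : Sheet0 K S R z) (hQ : IsQ z R)
    (hself : ∀ p, p * z = z * p → (∀ r ∈ R, p * r = r * p) → p ∈ R) : Sheet K S R z := by
  refine { h0 with self := hself, cyc := ?_, sq := ?_, comm := ?_, dc := ?_, lr := ?_, lw := ?_ }
  · intro x hx hxr _
    exact hQ.central hx hxr
  · intro x hx
    exact hQ.sq' hx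
  · intro x hx y hy
    exact hQ.comm hx hy
  · intro x hx y hy hx2 hy2 _
    rcases hQ.inv_sq hy hy2 with h1 | h1
    · exact Or.inl h1
    · exact Or.inr (Or.inl h1)
  · intro α β hα hβ hαβ hαz hβz h1 h2
    exact hQ.fix (h0.char α hαz) (h0.char β hβz) (fun q _ => hα q) (fun q _ => hβ q) (fun q _ => hαβ q) hαz hβz
      h1 h2
  · intro w hw hw2 hw1 hwz
    exact ((hQ.inv_sq hw hw2).elim hw1 hwz).elim

/-- `R = Z₄ * Q₈` -/
theorem Sheet.of_CQ (h0 : Sheet0 K S R z) (h : IsCQ z c Q R)
    (hself : ∀ p, p * z = z * p → (∀ r ∈ R, p * r = r * p) → p ∈ R) : Sheet K S R z := by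
  have z2 := h.q.z2
  have hcz : c * z = z * c := by rw [← h.cc]; group
  have zR : z ∈ R := h.le h.q.zQ
  have hzc : ∀ r ∈ R, r * z = z * r := by
    intro r hr
    rw [← h.cc, ← mul_assoc, h.com r hr, mul_assoc, h.com r hr, ← mul_assoc]
  have hcc : ∀ x : K, x * c * c = x * z := fun x => by rw [mul_assoc, h.cc]
  have hzz : ∀ x : K, x * z * z = x := fun x => by rw [mul_assoc, z2, mul_one]
  have hcyc : ∀ x ∈ R, (∀ r ∈ R, x * r = r * x) → x * x = 1 → x = 1 ∨ x = z := by
    intro x hx hxr hx2
    rcases h.mem x hx with h1 | h1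
    · exact h.q.inv_sq h1 hx2
    · exfalso
      have h2 : (x * c) * (x * c) = z := by
        calc (x * c) * (x * c) = x * (c * x) * c := by group
          _ = x * (x * c) * c := by rw [h.com x hx]
          _ = (x * x) * (c * c) := by group
          _ = z := by rw [hx2, h.cc, one_mul]
      rcases h.q.central h1 (fun r hr => by
        have h3 := hxr r (h.le hr)
        have h4 := h.com r (h.le hr)
        calc x * c * r = x * (c * r) := by group
          _ = x * (r * c) := by rw [h4]
          _ = (x * r) * c := by group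
          _ = r * (x * c) := by rw [h3]; group) with h3 | h3
      · apply h.q.z1
        rw [← h2, h3, one_mul]
      · apply h.q.z1
        rw [← h2, h3, z2]
  have hsq : ∀ x ∈ R, x * x = 1 ∨ x * x = z := by
    intro x hx
    rcases h.mem x hx with h1 | h1
    · exact h.q.sq' h1
    · have h2 : (x * c) * (x * c) = x * x * z := by
        calc (x * c) * (x * c) = x * (c * x) * c := by group
          _ = x * (x * c) * c := by rw [h.com x hx]
          _ = (x * x) * (c * c) := by group
          _ = x * x * z := by rw [h.cc]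
      rcases h.q.sq' h1 with h3 | h3
      · right
        rw [h2] at h3
        calc x * x = x * x * z * z := (hzz _).symm
          _ = z := by rw [h3, one_mul]
      · left
        rw [h2] at h3
        calc x * x = x * x * z * z := (hzz _).symm
          _ = 1 := by rw [h3, z2]
  have hcomm : ∀ x ∈ R, ∀ y ∈ R, x * y = y * x ∨ x * y = y * x * z := by
    -- first with the second argument in `Q`
    have k1 : ∀ x ∈ R, ∀ y ∈ Q, x * y = y * x ∨ x * y = y * x * z := by
      intro x hx y hy
      rcases h.mem x hx with h1 | h1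
      · exact h.q.comm h1 hy
      · have e1 : x * c * y = x * y * c := by rw [mul_assoc, ← h.com y (h.le hy), ← mul_assoc]
        rcases h.q.comm h1 hy with h3 | h3
        · left
          have h4 : x * y * c = y * x * c := by rw [← e1, h3]; group
          exact mul_right_cancel h4
        · right
          have h4 : x * y * c = y * x * z * c := by
            rw [← e1, h3]
            calc y * (x * c) * z = y * x * (c * z) := by group
              _ = y * x * (z * c) := by rw [hcz]
              _ = y * x * z * c := by group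
          exact mul_right_cancel h4
    intro x hx y hy
    rcases h.mem y hy with h1 | h1
    · exact k1 x hx y h1
    · have e1 : y * c * x = y * x * c := by rw [mul_assoc, ← h.com x hx, ← mul_assoc]
      rcases k1 x hx _ h1 with h3 | h3
      · left
        have h4 : x * y * c = y * x * c := by
          rw [← e1, ← h3]; group
        exact mul_right_cancel h4
      · right
        have h4 : x * y * c = y * x * z * c := by
          calc x * y * c = x * (y * c) := by group
            _ = y * c * x * z := h3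
            _ = y * x * (c * z) := by rw [e1]; group
            _ = y * x * (z * c) := by rw [hcz]
            _ = y * x * z * c := by group
        exact mul_right_cancel h4
  refine { h0 with self := hself, cyc := hcyc, sq := hsq, comm := hcomm, dc := ?_, lr := ?_, lw := ?_ }
  · intro x hx y hy hx2 hy2 hr
    have hyc : c * y = y * c := hr c h.cR (h.com x hx).symm |>.symm ▸ (h.com y hy).symm
    rcases h.mem x hx with h1 | h1
    · -- `x ∈ {1, z}`
      have hxc : ∀ r ∈ R, r * x = x * r := by
        intro r hr'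
        rcases h.q.inv_sq h1 hx2 with h3 | h3
        · rw [h3]; simp
        · rw [h3]; exact hzc r hr'
      rcases hcyc y hy (fun r hr' => (hr r hr' (hxc r hr')).symm) hy2 with h3 | h3
      · exact Or.inl h3
      · exact Or.inr (Or.inl h3)
    · have hxx : (x * c) * x = x * (x * c) := by
        calc (x * c) * x = x * (c * x) := by group
          _ = x * (x * c) := by rw [h.com x hx]
      have h3 : (x * c) * y = y * (x * c) := hr (x * c) (R.mul_mem hx h.cR) hxx
      have n1 : x * c ≠ 1 := by
        intro h4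
        apply h.q.z1
        have h5 : (x * c) * (x * c) = z := by
          calc (x * c) * (x * c) = x * (c * x) * c := by group
            _ = x * (x * c) * c := by rw [h.com x hx]
            _ = (x * x) * (c * c) := by group
            _ = z := by rw [hx2, h.cc, one_mul]
        rw [← h5, h4, one_mul]
      have n2 : x * c ≠ z := by
        intro h4
        apply h.q.z1
        have h5 : (x * c) * (x * c) = z := by
          calc (x * c) * (x * c) = x * (c * x) * c := by group
            _ = x * (x * c) * c := by rw [h.com x hx]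
            _ = (x * x) * (c * c) := by group
            _ = z := by rw [hx2, h.cc, one_mul]
        rw [← h5, h4, z2]
      rcases h.mem y hy with h4 | h4
      · rcases h.q.inv_sq h4 hy2 with h5 | h5
        · exact Or.inl h5
        · exact Or.inr (Or.inl h5)
      · have h5 : (x * c) * (y * c) = (y * c) * (x * c) := by
          calc (x * c) * (y * c) = ((x * c) * y) * c := by group
            _ = y * (x * c) * c := by rw [h3]
            _ = y * (x * c * c) := by group
            _ = y * (c * x * c) := by rw [h.com x hx]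
            _ = (y * c) * (x * c) := by group
        rcases h.q.comm_iff h1 h4 n1 n2 h5 with h6 | h6 | h6 | h6
        · exfalso
          apply h.q.z1
          have h7 : (y * c) * (y * c) = z := by
            calc (y * c) * (y * c) = y * (c * y) * c := by group
              _ = y * (y * c) * c := by rw [h.com y hy]
              _ = (y * y) * (c * c) := by group
              _ = z := by rw [hy2, h.cc, one_mul]
          rw [← h7, h6, one_mul]
        · exfalso
          apply h.q.z1
          have h7 : (y * c) * (y * c) = z := by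
            calc (y * c) * (y * c) = y * (c * y) * c := by group
              _ = y * (y * c) * c := by rw [h.com y hy]
              _ = (y * y) * (c * c) := by group
              _ = z := by rw [hy2, h.cc, one_mul]
          rw [← h7, h6, z2]
        · right; right; left
          exact mul_right_cancel h6
        · right; right; right
          have h7 : y * c = x * z * c := by
            rw [h6]
            calc x * c * z = x * (c * z) := by group
              _ = x * (z * c) := by rw [hcz]
              _ = x * z * c := by group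
          exact mul_right_cancel h7
  · intro α β hα hβ hαβ hαz hβz h1 h2
    exact h.fix (h0.char α hαz) (h0.char β hβz) hα hβ hαβ hαz hβz h1 h2
  · intro w hw hw2 hw1 hwz β hβ hβz hβw h1 h2 h3
    exact h.false_of_w hw hw2 hw1 hwz (h0.char β hβz) hβ hβz hβw h1 h2 h3

/-- `R = Q₈ * Q₈` -/
theorem Sheet.of_QQ (h0 : Sheet0 K S R z) (h : IsQQ z Q₁ Q₂ R)
    (hself : ∀ p, p * z = z * p → (∀ r ∈ R, p * r = r * p) → p = 1 ∨ p = z)
    {d : K} (hdz : d * z = z * d) (hd3 : d * d * d = 1) (hd2 : ∀ y ∈ Q₂, d * y = y * d)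
    (hd1 : ∀ x ∈ Q₁, x ≠ 1 → x ≠ z → d * x * d⁻¹ ≠ x ∧ d * x * d⁻¹ ≠ x * z) : Sheet K S R z := by
  have z2 := h.q1.z2
  have zR : z ∈ R := h.le1 h.q1.zQ
  have hcyc : ∀ x ∈ R, (∀ r ∈ R, x * r = r * x) → x = 1 ∨ x = z := by
    intro x hx hxr
    refine hself x ?_ hxr
    exact hxr z zR
  have hprod : ∀ x₁ ∈ Q₁, ∀ x₂ ∈ Q₂, (x₁ * x₂) * (x₁ * x₂) = (x₁ * x₁) * (x₂ * x₂) := by
    intro x₁ h1 x₂ h2
    calc (x₁ * x₂) * (x₁ * x₂) = x₁ * (x₂ * x₁) * x₂ := by group
      _ = x₁ * (x₁ * x₂) * x₂ := by rw [h.com x₁ h1 x₂ h2]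
      _ = (x₁ * x₁) * (x₂ * x₂) := by group
  refine { h0 with self := ?_, cyc := fun x hx hxr _ => hcyc x hx hxr, sq := ?_, comm := ?_, dc := ?_,
                   lr := ?_, lw := ?_ }
  · intro p hp hpr
    rcases hself p hp hpr with h1 | h1
    · rw [h1]; exact one_mem _
    · rw [h1]; exact zR
  · intro x hx
    obtain ⟨x₁, h1, x₂, h2, rfl⟩ := h.mem x hx
    rw [hprod x₁ h1 x₂ h2]
    rcases h.q1.sq' h1 with h3 | h3 <;> rcases h.q2.sq' h2 with h4 | h4 <;> rw [h3, h4] <;> simp [z2]
  · intro x hx y hy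
    obtain ⟨x₁, h1, x₂, h2, rfl⟩ := h.mem x hx
    obtain ⟨y₁, h3, y₂, h4, rfl⟩ := h.mem y hy
    have e1 : x₁ * x₂ * (y₁ * y₂) = (x₁ * y₁) * (x₂ * y₂) := by
      calc x₁ * x₂ * (y₁ * y₂) = x₁ * (x₂ * y₁) * y₂ := by group
        _ = x₁ * (y₁ * x₂) * y₂ := by rw [h.com y₁ h3 x₂ h2]
        _ = (x₁ * y₁) * (x₂ * y₂) := by group
    have e2 : y₁ * y₂ * (x₁ * x₂) = (y₁ * x₁) * (y₂ * x₂) := by
      calc y₁ * y₂ * (x₁ * x₂) = y₁ * (y₂ * x₁) * x₂ := by group
        _ = y₁ * (x₁ * y₂) * x₂ := by rw [h.com x₁ h1 y₂ h4]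
        _ = (y₁ * x₁) * (y₂ * x₂) := by group
    have hz2 : ∀ y ∈ Q₂, y * z = z * y := h.q2.zc
    rw [e1, e2]
    rcases h.q1.comm h1 h3 with h5 | h5 <;> rcases h.q2.comm h2 h4 with h6 | h6
    · left; rw [h5, h6]
    · right; rw [h5, h6]; group
    · right; rw [h5, h6]
      calc y₁ * x₁ * z * (y₂ * x₂) = y₁ * x₁ * (z * (y₂ * x₂)) := by group
        _ = y₁ * x₁ * ((y₂ * x₂) * z) := by rw [hz2 _ (Q₂.mul_mem h4 h2)]
        _ = y₁ * x₁ * (y₂ * x₂) * z := by group
    · left; rw [h5, h6]
      calc y₁ * x₁ * z * (y₂ * x₂ * z) = y₁ * x₁ * (z * (y₂ * x₂)) * z := by group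
        _ = y₁ * x₁ * ((y₂ * x₂) * z) * z := by rw [hz2 _ (Q₂.mul_mem h4 h2)]
        _ = y₁ * x₁ * (y₂ * x₂) * (z * z) := by group
        _ = y₁ * x₁ * (y₂ * x₂) := by rw [z2, mul_one]
  · intro x hx y hy hx2 hy2 hr
    obtain ⟨x₁, h1, x₂, h2, rfl⟩ := h.mem x hx
    obtain ⟨y₁, h3, y₂, h4, rfl⟩ := h.mem y hy
    have hx12 := h.com x₁ h1 x₂ h2
    have hy12 := h.com y₁ h3 y₂ h4
    rw [hprod x₁ h1 x₂ h2] at hx2
    rw [hprod y₁ h3 y₂ h4] at hy2
    by_cases hx1 : x₁ = 1 ∨ x₁ = z
    · -- `x ∈ {1, z}`
      have hx11 : x₁ * x₁ = 1 := by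
        rcases hx1 with h5 | h5
        · rw [h5, one_mul]
        · rw [h5, z2]
      rw [hx11, one_mul] at hx2
      have hx2' := h.q2.inv_sq h2 hx2
      have hxc : ∀ r ∈ R, r * (x₁ * x₂) = x₁ * x₂ * r := by
        intro r hr'
        have hrz : r * z = z * r := (h0.zc r (h0.RS hr'))
        rcases hx1 with rfl | rfl <;> rcases hx2' with rfl | rfl
        · simp
        · simpa using hrz
        · simpa using hrz
        · rw [z2]; simp
      rcases hcyc _ hy (fun r hr' => (hr r hr' (hxc r hr')).symm) with h5 | h5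
      · exact Or.inl h5
      · exact Or.inr (Or.inl h5)
    · push Not at hx1
      have hxx := h.q1.sq x₁ h1 hx1.1 hx1.2
      have hx2n : x₂ ≠ 1 ∧ x₂ ≠ z := by
        constructor
        · rintro rfl
          apply h.q1.z1
          rw [← hxx]
          simpa using hx2
        · intro h5
          apply h.q1.z1
          rw [h5, z2, mul_one, hxx] at hx2
          exact hx2
      have c1 : x₁ * (y₁ * y₂) = y₁ * y₂ * x₁ := by
        refine hr x₁ (h.le1 h1) ?_
        calc x₁ * (x₁ * x₂) = x₁ * (x₂ * x₁) := by rw [hx12]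
          _ = x₁ * x₂ * x₁ := by group
      have c2 : x₂ * (y₁ * y₂) = y₁ * y₂ * x₂ := by
        refine hr x₂ (h.le2 h2) ?_
        calc x₂ * (x₁ * x₂) = (x₂ * x₁) * x₂ := by group
          _ = x₁ * x₂ * x₂ := by rw [hx12]
      have c3 : x₁ * y₁ = y₁ * x₁ := by
        have h5 : x₁ * y₁ * y₂ = y₁ * x₁ * y₂ := by
          calc x₁ * y₁ * y₂ = x₁ * (y₁ * y₂) := by group
            _ = y₁ * y₂ * x₁ := c1
            _ = y₁ * (y₂ * x₁) := by group
            _ = y₁ * (x₁ * y₂) := by rw [h.com x₁ h1 y₂ h4]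
            _ = y₁ * x₁ * y₂ := by group
        exact mul_right_cancel h5
      have c4 : x₂ * y₂ = y₂ * x₂ := by
        have h5 : y₁ * (x₂ * y₂) = y₁ * (y₂ * x₂) := by
          calc y₁ * (x₂ * y₂) = (y₁ * x₂) * y₂ := by group
            _ = x₂ * y₁ * y₂ := by rw [h.com y₁ h3 x₂ h2]
            _ = x₂ * (y₁ * y₂) := by group
            _ = y₁ * y₂ * x₂ := c2
            _ = y₁ * (y₂ * x₂) := by group
        exact mul_left_cancel h5
      have hz1 : ∀ y ∈ Q₁, y * z = z * y := h.q1.zc
      have hz2 : ∀ y ∈ Q₂, y * z = z * y := h.q2.zc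
      have d1 := h.q1.comm_iff h1 h3 hx1.1 hx1.2 c3
      have d2 := h.q2.comm_iff h2 h4 hx2n.1 hx2n.2 c4
      have zz1 : ∀ x : K, x * z * z = x := fun x => by rw [mul_assoc, z2, mul_one]
      have hxx2 := h.q2.sq x₂ h2 hx2n.1 hx2n.2
      -- orders
      have o1 : (y₁ = 1 ∨ y₁ = z) → y₂ = 1 ∨ y₂ = z := by
        intro h5
        have h6 : y₁ * y₁ = 1 := by
          rcases h5 with h5 | h5
          · rw [h5, one_mul]
          · rw [h5, z2]
        rw [h6, one_mul] at hy2
        exact h.q2.inv_sq h4 hy2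
      have o2 : (y₂ = 1 ∨ y₂ = z) → y₁ = 1 ∨ y₁ = z := by
        intro h5
        have h6 : y₂ * y₂ = 1 := by
          rcases h5 with h5 | h5
          · rw [h5, one_mul]
          · rw [h5, z2]
        rw [h6, mul_one] at hy2
        exact h.q1.inv_sq h3 hy2
      by_cases hy1 : y₁ = 1 ∨ y₁ = z
      · rcases hy1 with h5 | h5 <;> rcases o1 (by simp [h5]) with h6 | h6 <;> rw [h5, h6] <;> simp [z2]
      · have hy2n : ¬ (y₂ = 1 ∨ y₂ = z) := fun h5 => hy1 (o2 h5)
        have d1' : y₁ = x₁ ∨ y₁ = x₁ * z := by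
          rcases d1 with h5 | h5 | h5 | h5
          · exact absurd (Or.inl h5) hy1
          · exact absurd (Or.inr h5) hy1
          · exact Or.inl h5
          · exact Or.inr h5
        have d2' : y₂ = x₂ ∨ y₂ = x₂ * z := by
          rcases d2 with h5 | h5 | h5 | h5
          · exact absurd (Or.inl h5) hy2n
          · exact absurd (Or.inr h5) hy2n
          · exact Or.inl h5
          · exact Or.inr h5
        rcases d1' with h5 | h5 <;> rcases d2' with h6 | h6
        · right; right; left; rw [h5, h6]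
        · right; right; right; rw [h5, h6]; group
        · right; right; right; rw [h5, h6]
          calc x₁ * z * x₂ = x₁ * (z * x₂) := by group
            _ = x₁ * (x₂ * z) := by rw [hz2 _ h2]
            _ = x₁ * x₂ * z := by group
        · right; right; left; rw [h5, h6]
          calc x₁ * z * (x₂ * z) = x₁ * (z * x₂) * z := by group
            _ = x₁ * (x₂ * z) * z := by rw [hz2 _ h2]
            _ = x₁ * x₂ * z * z := by group
            _ = x₁ * x₂ := zz1 _
  · intro α β hα hβ hαβ hαz hβz h1 h2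
    exact h.fix (h0.char α hαz) (h0.char β hβz) hα hβ hαβ hαz hβz h1 h2
  · intro w hw hw2 hw1 hwz β hβ hβz hβw h1 h2 h3
    exact h.false_of_w h0.Rn hself hdz hd3 hd2 hd1 hw hw2 hw1 hwz (h0.char β hβz) hβ hβz hβw h1 h2 h3

end Cfsg.Agent.OddHalf.D4.Small
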