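import Mathlib
import Cfsg.Agent.OddHalf.D4.Small.SheetMk

/-!
# ODD, D4, small Lie odd: the row theorem

`HasSheet.of_one` (one Sylow subgroup suffices), transport along isomorphisms, `Row K` and `row1`.
-/

set_option autoImplicit false

namespace Cfsg.Agent.OddHalf.D4.Small

open Subgroup Cfsg Basic

universe u v

section Transport

variable {K : Type u} [Group K] {L : Type v} [Group L]

/-- pull back of an automorphism -/
def pullAut (e : K ≃* L) (α : MulAut L) : MulAut K := (e.trans α).trans e.symm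

theorem pullAut_apply (e : K ≃* L) (α : MulAut L) (x : K) : pullAut e α x = e.symm (α (e x)) := rfl

theorem pullAut_mul (e : K ≃* L) (α β : MulAut L) : pullAut e (α * β) = pullAut e α * pullAut e β := by
  ext x
  rw [pullAut_apply, MulAut.mul_apply, MulAut.mul_apply, pullAut_apply, pullAut_apply]
  simp

theorem pullAut_one (e : K ≃* L) : pullAut e 1 = 1 := by
  ext x
  rw [pullAut_apply]
  simp

theorem pullAut_pow (e : K ≃* L) (α : MulAut L) (n : ℕ) : pullAut e (α ^ n) = pullAut e α ^ n := by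
  induction n with
  | zero => rw [pow_zero, pow_zero, pullAut_one]
  | succ n ih => rw [pow_succ, pow_succ, pullAut_mul, ih]

/-- the preimage of a Sylow subgroup -/
def sylowPull (e : K ≃* L) (S : Sylow 2 L) : Sylow 2 K :=
  S.comapOfInjective e.toMonoidHom e.injective (by
    intro x _
    exact ⟨e.symm x, e.apply_symm_apply x⟩)

theorem mem_sylowPull (e : K ≃* L) (S : Sylow 2 L) (x : K) :
    x ∈ (sylowPull e S : Subgroup K) ↔ e x ∈ (S : Subgroup L) := Iff.rfl

theorem HasSheet.of_equiv (h : HasSheet K) (e : K ≃* L) : HasSheet L := by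
  intro S
  obtain ⟨z, R, hs⟩ := h (sylowPull e S)
  have h1 := hs.map e
  have h2 : ((sylowPull e S : Subgroup K)).comap e.symm.toMonoidHom = (S : Subgroup L) := by
    ext x
    rw [mem_comap, mem_sylowPull]
    show e (e.symm x) ∈ _ ↔ _
    rw [e.apply_symm_apply]
  rw [h2] at h1
  exact ⟨_, _, h1⟩

theorem HasSheet.of_one [Finite K] {S : Sylow 2 K} {z : K} {R : Subgroup K} (h : Sheet K S R z) : HasSheet K := by
  intro T
  obtain ⟨g, hg⟩ := MulAction.exists_smul_eq K S T
  have h1 := h.map (MulAut.conj g)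
  have h2 : ((S : Subgroup K)).comap (MulAut.conj g).symm.toMonoidHom = (T : Subgroup K) := by
    rw [← hg]
    ext x
    rw [mem_comap]
    show (MulAut.conj g).symm x ∈ S ↔ x ∈ ((g • S : Sylow 2 K) : Subgroup K)
    rw [Sylow.coe_subgroup_smul, Subgroup.mem_pointwise_smul_iff_inv_smul_mem]
    rfl
  rw [h2] at h1
  exact ⟨_, _, h1⟩

theorem FOneK.of_equiv (h : FOneK K) (e : K ≃* L) : FOneK L := by
  rintro S α ⟨n, hn⟩ hα
  obtain ⟨k, hk, hkc, hka⟩ := h (sylowPull e S) (pullAut e α) ⟨n, by rw [← pullAut_pow, hn, pullAut_one]⟩ (by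
    intro s hs
    rw [pullAut_apply, hα _ ((mem_sylowPull e S s).mp hs), e.symm_apply_apply])
  refine ⟨e k, (mem_sylowPull e S k).mp hk, ?_, ?_⟩
  · intro s hs
    have h1 : e.symm s ∈ (sylowPull e S : Subgroup K) := by
      rw [mem_sylowPull, e.apply_symm_apply]; exact hs
    have h2 := congrArg e (hkc _ h1)
    simpa using h2
  · intro x
    have h1 := congrArg e (hka (e.symm x))
    rw [pullAut_apply] at h1
    simpa using h1

theorem NoSEK.of_equiv (h : NoSEK K) (e : K ≃* L) : NoSEK L := by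
  intro D hD S hS hc
  refine h (D.comap e.toMonoidHom) ?_ (sylowPull e S) ?_ ?_
  · intro h1
    apply hD
    rw [eq_top_iff]
    intro x _
    have h2 : e.symm x ∈ D.comap e.toMonoidHom := by rw [h1]; exact mem_top _
    have h3 : e (e.symm x) ∈ D := h2
    rwa [e.apply_symm_apply] at h3
  · intro x hx
    exact hS ((mem_sylowPull e S x).mp hx)
  · intro s hs hs2 hs1 x hx
    refine hc (e s) ((mem_sylowPull e S s).mp hs) ?_ ?_ (e x) ?_
    · rw [← map_mul, hs2, map_one]
    · intro h1
      exact hs1 (e.injective (by rw [h1, map_one]))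
    · rw [← map_mul, hx, map_mul]

end Transport

/-- **The facts on `K`** -/
structure Row (K : Type u) [Group K] : Prop where
  sheet : HasSheet K
  f1 : FOneK K
  nse : NoSEK K

theorem Row.of_equiv {K : Type u} [Group K] {L : Type v} [Group L] (h : Row K) (e : K ≃* L) : Row L :=
  ⟨h.sheet.of_equiv e, h.f1.of_equiv e, h.nse.of_equiv e⟩

open CommConj in
/-- **The row, inside `G`.** -/
theorem false_of_row {G : Type u} [Group G] [Finite G] [IsSimpleGroup G] (h1173 : EvenPair.H1173 G)
    {K : Subgroup G} (hK : IsStandardSubgroup K) (hs : IsSimpleGroup ↥K) (hcen : center ↥K = ⊥)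
    (hm : ¬ PRankLE 2 1 ↥(centralizer (K : Set G))) (hr : Row ↥K) : False := by
  have T := EvenPair.tight_of_standard hK
  have cen : ∀ x ∈ K, x ∈ centralizer (K : Set G) → x = 1 := by
    intro x hx hxC
    have h1 : (⟨x, hx⟩ : ↥K) ∈ center ↥K := by
      rw [mem_center_iff]
      intro y
      apply Subtype.ext
      exact (mem_centralizer_iff.mp hxC) y y.2
    rw [hcen, mem_bot] at h1
    exact congrArg Subtype.val h1
  have simp' : ∀ N : Subgroup G, N ≤ K → (∀ a ∈ K, ∀ n ∈ N, a * n * a⁻¹ ∈ N) → N = ⊥ ∨ N = K := by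
    intro N hN hn
    have hnorm : (N.subgroupOf K).Normal := ⟨by
      intro n hn' a
      rw [mem_subgroupOf] at hn' ⊢
      exact hn a a.2 n hn'⟩
    rcases hnorm.eq_bot_or_eq_top with h1 | h1
    · left
      rw [eq_bot_iff]
      intro x hx
      have h2 : (⟨x, hN hx⟩ : ↥K) ∈ N.subgroupOf K := mem_subgroupOf.mpr hx
      rw [h1, mem_bot] at h2
      rw [mem_bot]
      exact congrArg Subtype.val h2
    · right
      apply le_antisymm hN
      rw [subgroupOf_eq_top] at h1
      exact h1
  obtain ⟨a, b, ha, hb, ha2, hb2, hab, hne⟩ := EvenPair.exists_two_of_not_pRankLE hm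
  have sq1 : ∀ x : G, orderOf x = 2 → x * x = 1 := fun x hx => by
    rw [← pow_two, ← hx]; exact pow_orderOf_eq_one x
  have n1 : ∀ x : G, orderOf x = 2 → x ≠ 1 := by
    rintro x hx rfl
    rw [orderOf_one] at hx
    exact absurd hx (by norm_num)
  -- the conjugates
  have hcomm : ∀ g x y : G, g⁻¹ * (x * y) * g = (g⁻¹ * x * g) * (g⁻¹ * y * g) := fun g x y => by group
  have conjcomm : ∀ g x y : G, x * y = y * x → (g⁻¹ * x * g) * (g⁻¹ * y * g) = (g⁻¹ * y * g) * (g⁻¹ * x * g) := by
    intro g x y h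
    rw [← hcomm, h, hcomm]
  have equiv : ∀ g : G, Nonempty (↥K ≃* ↥(cj g K)) := fun g =>
    ⟨K.equivMapOfInjective (MulAut.conj g).toMonoidHom (MulAut.conj g).injective⟩
  have hmem : ∀ g x : G, x ∈ normalizer ((cj g K : Subgroup G) : Set G) ↔ g⁻¹ * x * g ∈ normalizer (K : Set G) := by
    intro g x
    rw [mem_normalizer_iff, mem_normalizer_iff]
    constructor
    · intro h y
      have h1 := h (g * y * g⁻¹)
      rw [mem_cj, mem_cj] at h1
      have e1 : g⁻¹ * (g * y * g⁻¹) * g = y := by group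
      have e2 : g⁻¹ * (x * (g * y * g⁻¹) * x⁻¹) * g = g⁻¹ * x * g * y * (g⁻¹ * x * g)⁻¹ := by group
      rw [e1, e2] at h1
      exact h1
    · intro h y
      rw [mem_cj, mem_cj]
      have h1 := h (g⁻¹ * y * g)
      have e2 : g⁻¹ * (x * y * x⁻¹) * g = g⁻¹ * x * g * (g⁻¹ * y * g) * (g⁻¹ * x * g)⁻¹ := by group
      rw [e2]
      exact h1
  have te : TE K := te_of_tight T
  have hB : ∀ g : G, Base (cj g K) := by
    intro g
    obtain ⟨e⟩ := equiv g
    refine ⟨?_, ?_, ?_, ?_, ?_⟩
    · intro y hy hy2 hy1 x hxy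
      rw [mem_centralizer_cj] at hy
      rw [hmem]
      refine te (g⁻¹ * y * g) hy ?_ ?_ (g⁻¹ * x * g) (conjcomm g x y hxy)
      · rw [← hcomm, hy2]; group
      · intro h1
        apply hy1
        calc y = g * (g⁻¹ * y * g) * g⁻¹ := by group
          _ = 1 := by rw [h1]; group
    · intro x hx hxC
      rw [mem_cj] at hx
      rw [mem_centralizer_cj] at hxC
      have h1 := cen _ hx hxC
      calc x = g * (g⁻¹ * x * g) * g⁻¹ := by group
        _ = 1 := by rw [h1]; group
    · intro N hN hn
      rcases simp' (cj g⁻¹ N) (by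
        intro x hx
        rw [mem_cj, inv_inv] at hx
        have h1 := hN hx
        rw [mem_cj] at h1
        have e1 : g⁻¹ * (g * x * g⁻¹) * g = x := by group
        rwa [e1] at h1) (by
        intro a ha n hn'
        rw [mem_cj, inv_inv] at hn' ⊢
        have h1 := hn (g * a * g⁻¹) (mem_cj_mul ha) _ hn'
        have e1 : g * a * g⁻¹ * (g * n * g⁻¹) * (g * a * g⁻¹)⁻¹ = g * (a * n * a⁻¹) * g⁻¹ := by group
        rwa [e1] at h1) with h1 | h1
      · left
        rw [eq_bot_iff]
        intro x hx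
        have h2 : g⁻¹ * x * g ∈ cj g⁻¹ N := by
          rw [mem_cj, inv_inv]
          have e1 : g * (g⁻¹ * x * g) * g⁻¹ = x := by group
          rwa [e1]
        rw [h1, mem_bot] at h2
        rw [mem_bot]
        calc x = g * (g⁻¹ * x * g) * g⁻¹ := by group
          _ = 1 := by rw [h2]; group
      · right
        apply le_antisymm hN
        intro x hx
        rw [mem_cj, ← h1, mem_cj, inv_inv] at hx
        have e1 : g * (g⁻¹ * x * g) * g⁻¹ = x := by group
        rwa [e1] at hx
    · intro S hS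
      exact (hr.sheet.of_equiv e).atS hS
    · refine ⟨g * a * g⁻¹, ?_, g * b * g⁻¹, ?_, ?_, ?_, ?_, ?_, ?_, ?_⟩
      · rw [mem_centralizer_cj]
        have e1 : g⁻¹ * (g * a * g⁻¹) * g = a := by group
        rwa [e1]
      · rw [mem_centralizer_cj]
        have e1 : g⁻¹ * (g * b * g⁻¹) * g = b := by group
        rwa [e1]
      · calc g * a * g⁻¹ * (g * a * g⁻¹) = g * (a * a) * g⁻¹ := by group
          _ = 1 := by rw [sq1 a ha2]; group
      · calc g * b * g⁻¹ * (g * b * g⁻¹) = g * (b * b) * g⁻¹ := by group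
          _ = 1 := by rw [sq1 b hb2]; group
      · intro h1
        apply n1 a ha2
        calc a = g⁻¹ * (g * a * g⁻¹) * g := by group
          _ = 1 := by rw [h1]; group
      · intro h1
        apply n1 b hb2
        calc b = g⁻¹ * (g * b * g⁻¹) * g := by group
          _ = 1 := by rw [h1]; group
      · intro h1
        apply hne
        exact mul_left_cancel (mul_right_cancel h1)
      · calc g * a * g⁻¹ * (g * b * g⁻¹) = g * (a * b) * g⁻¹ := by group
          _ = g * (b * a) * g⁻¹ := by rw [hab]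
          _ = g * b * g⁻¹ * (g * a * g⁻¹) := by group
  have hF : ∀ g : G, FOne (cj g K) := by
    intro g
    obtain ⟨e⟩ := equiv g
    exact (hr.f1.of_equiv e).toG
  exact false_of_facts h1173 hK hB hF hr.nse.toG

end Cfsg.Agent.OddHalf.D4.Small
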