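import Mathlib
import Cfsg.Agent.OddHalf.D4.Small.FOneLoc

/-!
# ODD, D4, small Lie odd: `Sheet0` from element-wise facts

`Core K S R z`: `S` is a 2-subgroup of odd index; `R` is the largest normal 2-subgroup of `C(z)` in the form
"`x ∈ S` and all its `C(z)`-conjugates in `S` ⇒ `x ∈ R`".
-/

set_option autoImplicit false

namespace Cfsg.Agent.OddHalf.D4.Small

open Subgroup

universe u

structure Core (K : Type u) [Group K] (S R : Subgroup K) (z : K) : Prop where
  two : IsPGroup 2 ↥S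
  odd : Odd S.index
  z2 : z * z = 1
  z1 : z ≠ 1
  zR : z ∈ R
  RS : R ≤ S
  zc : ∀ s ∈ S, s * z = z * s
  uniq : ∀ x ∈ S, x * x = 1 → x ≠ 1 → (∀ s ∈ S, s * x = x * s) → x = z
  Rn : ∀ p, p * z = z * p → ∀ r ∈ R, p * r * p⁻¹ ∈ R
  core : ∀ x ∈ S, (∀ g, g * z = z * g → g * x * g⁻¹ ∈ S) → x ∈ R

variable {K : Type u} [Group K] {S R : Subgroup K} {z : K}

/-- `S` as a Sylow subgroup -/
noncomputable def Core.syl [Finite K] (h : Core K S R z) : Sylow 2 K :=
  have : Fact (Nat.Prime 2) := ⟨Nat.prime_two⟩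
  h.two.toSylow (by
    intro h2
    exact (Nat.not_even_iff_odd.mpr h.odd) (even_iff_two_dvd.mpr h2))

theorem Core.coe_syl [Finite K] (h : Core K S R z) : (h.syl : Subgroup K) = S := rfl

theorem Core.le_of_norm [Finite K] (h : Core K S R z) {N : Subgroup K} (hN : IsPGroup 2 ↥N)
    (hn : ∀ g, g * z = z * g → ∀ n ∈ N, g * n * g⁻¹ ∈ N) : N ≤ R := by
  have h1 : S ≤ normalizer (N : Set K) := by
    intro s hs
    rw [mem_normalizer_iff]
    intro x
    constructor
    · exact hn s (h.zc s hs) x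
    · intro hx
      have h2 := hn s⁻¹ (h.zc _ (S.inv_mem hs)) _ hx
      have h3 : s⁻¹ * (s * x * s⁻¹) * s⁻¹⁻¹ = x := by group
      rwa [h3] at h2
  have h2 : IsPGroup 2 ↥(N ⊔ S) := hN.to_sup_of_normal_left' h.two h1
  have h3 : N ⊔ S = S := h.syl.is_maximal' h2 le_sup_right
  have h4 : N ≤ S := by rw [← h3]; exact le_sup_left
  intro x hx
  exact h.core x (h4 hx) (fun g hg => h4 (hn g hg x hx))

theorem Core.sheet0 [Finite K] (h : Core K S R z) : Sheet0 K S R z where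
  z2 := h.z2
  z1 := h.z1
  zR := h.zR
  RS := h.RS
  zc := h.zc
  uniq := h.uniq
  Rn := h.Rn
  char := by
    intro α hα r hr
    have hN : IsPGroup 2 ↥(R.map α.toMonoidHom) := (h.two.to_le h.RS).map _
    refine h.le_of_norm hN ?_ ⟨r, hr, rfl⟩
    rintro g hg _ ⟨x, hx, rfl⟩
    refine ⟨α.symm g * x * (α.symm g)⁻¹, ?_, ?_⟩
    · apply h.Rn _ _ x hx
      apply α.injective
      rw [map_mul, map_mul, α.apply_symm_apply, hα, hg]
    · show α (α.symm g * x * (α.symm g)⁻¹) = g * α x * g⁻¹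
      rw [map_mul, map_mul, map_inv, α.apply_symm_apply]

/-- step 1 of (F1): an automorphism trivial on `S` is trivial on `C(z)` if `C_P(R) ≤ R ∩ Z(P)`. -/
theorem Core.fix [Finite K] (h : Core K S R z)
    (hCR : ∀ x, x * z = z * x → (∀ r ∈ R, x * r = r * x) → x ∈ R ∧ ∀ p, p * z = z * p → x * p = p * x)
    {α : MulAut K} (hα : ∀ s ∈ S, α s = s) : ∀ p, p * z = z * p → α p = p := by
  -- apply `fOne_of_local` inside `C(z)`
  let P : Subgroup K := centralizer ({z} : Set K)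
  have hPm : ∀ p, p ∈ P ↔ p * z = z * p := fun p => mem_centralizer_singleton_iff
  have hαz : α z = z := hα z (h.RS h.zR)
  have h1 : ∀ p, p * z = z * p → p⁻¹ * α p * z = z * (p⁻¹ * α p) ∧ ∀ r ∈ R, p⁻¹ * α p * r = r * (p⁻¹ * α p) := by
    intro p hp
    have hpz : p⁻¹ * z = z * p⁻¹ := by
      calc p⁻¹ * z = p⁻¹ * (z * p) * p⁻¹ := by group
        _ = p⁻¹ * (p * z) * p⁻¹ := by rw [hp]
        _ = z * p⁻¹ := by group
    have hαp : α p * z = z * α p := by
      have h2 := congrArg α hp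
      rwa [map_mul, map_mul, hαz] at h2
    refine ⟨?_, ?_⟩
    · calc p⁻¹ * α p * z = p⁻¹ * (α p * z) := by group
        _ = p⁻¹ * z * α p := by rw [hαp]; group
        _ = z * (p⁻¹ * α p) := by rw [hpz]; group
    · intro r hr
      have h2 := h.Rn p hp r hr
      have h3 := hα _ (h.RS h2)
      rw [map_mul, map_mul, map_inv, hα r (h.RS hr)] at h3
      calc p⁻¹ * α p * r = p⁻¹ * (α p * r * (α p)⁻¹) * α p := by group
        _ = p⁻¹ * (p * r * p⁻¹) * α p := by rw [h3]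
        _ = r * (p⁻¹ * α p) := by group
  let f : ↥P →* K :=
    { toFun := fun p => (p : K)⁻¹ * α p
      map_one' := by simp
      map_mul' := by
        intro p q
        have hp := (hPm p).mp p.2
        have hq := (hPm q).mp q.2
        have h2 := (hCR _ (h1 p hp).1 (h1 p hp).2).2 q hq
        show ((p : K) * q)⁻¹ * α ((p : K) * q) = (p : K)⁻¹ * α p * ((q : K)⁻¹ * α q)
        calc ((p : K) * q)⁻¹ * α ((p : K) * q) = (q : K)⁻¹ * ((p : K)⁻¹ * α p) * α q := by
              rw [map_mul]; group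
          _ = (q : K)⁻¹ * ((p : K)⁻¹ * α p * q) * ((q : K)⁻¹ * α q) := by group
          _ = (q : K)⁻¹ * (q * ((p : K)⁻¹ * α p)) * ((q : K)⁻¹ * α q) := by rw [h2]
          _ = _ := by group }
  have hfR : ∀ p : ↥P, f p ∈ R := fun p => (hCR _ (h1 p ((hPm p).mp p.2)).1 (h1 p ((hPm p).mp p.2)).2).1
  have hSP : S ≤ P := fun s hs => (hPm s).mpr (h.zc s hs)
  have hker : S.subgroupOf P ≤ f.ker := by
    intro s hs
    rw [mem_subgroupOf] at hs
    rw [MonoidHom.mem_ker]
    show ((s : ↥P) : K)⁻¹ * α s = 1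
    rw [hα _ hs, inv_mul_cancel]
  have hko : Odd f.ker.index := by
    have h2 : Odd (S.subgroupOf P).index := by
      have h3 : (S.subgroupOf P).index ∣ S.index := by
        have h4 := relIndex_mul_index hSP
        exact Dvd.intro _ h4
      exact h.odd.of_dvd_nat h3
    exact h2.of_dvd_nat (index_dvd_of_le hker)
  have hrange : IsPGroup 2 ↥f.range := by
    have h2 : f.range ≤ R := by
      rintro _ ⟨p, rfl⟩
      exact hfR p
    exact (h.two.to_le h.RS).to_le h2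
  have hcard : f.ker.index = Nat.card ↥f.range := index_ker f
  obtain ⟨n, hn⟩ := IsPGroup.iff_card.mp hrange
  rw [hcard, hn] at hko
  have hn0 : n = 0 := by
    by_contra h2
    rcases Nat.exists_eq_succ_of_ne_zero h2 with ⟨m, rfl⟩
    rw [pow_succ] at hko
    exact absurd hko (by simp)
  rw [hn0, pow_zero] at hn
  have hbot : f.range = ⊥ := card_eq_one.mp hn
  intro p hp
  have h2 : f ⟨p, (hPm p).mpr hp⟩ ∈ f.range := ⟨_, rfl⟩
  rw [hbot, mem_bot] at h2
  have h3 : p⁻¹ * α p = 1 := h2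
  calc α p = p * (p⁻¹ * α p) := by group
    _ = p := by rw [h3, mul_one]

/-- **`Row` from local facts**, `L = N(A) ≥ S`. `w = g z g⁻¹`, `g ∈ N(A)`, `K = ⟨C(z), C(w)⟩`. -/
theorem Core.row [Finite K] (h : Core K S R z) (hs : Sheet K S R z)
    (hCR : ∀ x, x * z = z * x → (∀ r ∈ R, x * r = r * x) → x ∈ R ∧ ∀ p, p * z = z * p → x * p = p * x)
    {A : Subgroup K} (hAS : A ≤ S) (hCA : ∀ x, (∀ a ∈ A, x * a = a * x) ↔ x ∈ A)
    (hSA : ∀ s ∈ S, ∀ a ∈ A, s * a * s⁻¹ ∈ A)
    (hza : ∀ a ∈ A, (∀ s ∈ S, s * a = a * s) → ∀ p, p * z = z * p → a * p = p * a)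
    {g w : K} (hg : ∀ a ∈ A, g * a * g⁻¹ ∈ A) (hgw : g * z * g⁻¹ = w) (hwS : w ∈ S)
    (hgen : ∀ H : Subgroup K, (∀ p, p * z = z * p → p ∈ H) → (∀ p, p * w = w * p → p ∈ H) → H = ⊤) : Row K := by
  have w2 : w * w = 1 := by
    rw [← hgw]
    calc g * z * g⁻¹ * (g * z * g⁻¹) = g * (z * z) * g⁻¹ := by group
      _ = 1 := by rw [h.z2]; group
  have w1 : w ≠ 1 := by
    intro h1
    apply h.z1
    calc z = g⁻¹ * (g * z * g⁻¹) * g := by group
      _ = 1 := by rw [hgw, h1]; group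
  refine ⟨HasSheet.of_one (S := h.syl) hs, FOneK.of_one h.syl ?_,
    NoSEK.of_gen (S := h.syl) (h.RS h.zR) hwS h.z2 h.z1 w2 w1 hgen⟩
  intro α hα
  have hnorm : ∀ x : K, (∀ a ∈ A, x * a * x⁻¹ ∈ A) → x ∈ normalizer (A : Set K) := by
    intro x hx
    exact mem_normalizer_fintype (fun a ha => hx a ha)
  refine fOne_of_local (S := S) (R := R) (A := A) (L := normalizer (A : Set K)) (z := z) h.two h.odd h.RS h.zc
    h.Rn hCR hAS hCA (fun l hl a ha => (mem_normalizer_iff.mp hl a).mp ha) ?_ ?_ ?_ α hα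
  · have hSL : S ≤ normalizer (A : Set K) := fun s hs => hnorm s (hSA s hs)
    have h3 : (S.subgroupOf (normalizer (A : Set K))).index ∣ S.index := by
      have h4 := relIndex_mul_index hSL
      exact Dvd.intro _ h4
    exact h.odd.of_dvd_nat h3
  · intro a ha has
    exact hza a ha (fun s hs => has s hs (hnorm s (hSA s hs)))
  · intro H hP hL
    apply hgen H hP
    intro p hp
    have hgH : g ∈ H := hL (hnorm g hg)
    have h1 : g⁻¹ * p * g ∈ H := by
      apply hP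
      calc g⁻¹ * p * g * z = g⁻¹ * (p * (g * z * g⁻¹)) * g := by group
        _ = g⁻¹ * ((g * z * g⁻¹) * p) * g := by rw [hgw, hp]
        _ = z * (g⁻¹ * p * g) := by group
    have h2 := H.mul_mem (H.mul_mem hgH h1) (H.inv_mem hgH)
    have h3 : g * (g⁻¹ * p * g) * g⁻¹ = p := by group
    rwa [h3] at h2

end Cfsg.Agent.OddHalf.D4.Small
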