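import Mathlib
import Cfsg.Agent.OddHalf.D4.Small.Core
import Cfsg.Agent.OddHalf.Small.U33
import Cfsg.Agent.S0780
import Cfsg.Agent.ClassicalGeometry.UnitTransv
import Cfsg.Agent.SmallSimple.S1000.PSLFacts

/-!
# ODD, D4, small Lie odd: the facts on `U₃(3)`

`z = diag(1,-1,-1)`, `C(z) = GU₂(3)`, `R = Z₄ * Q₈`, `S = Z₄ ≀ Z₂` the monomial matrices of `C(z)`, `A = 4²` the diagonal
matrices.
-/

set_option autoImplicit false

namespace Cfsg.Agent.OddHalf.D4.Small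

open Subgroup in
theorem odd_index_of {K : Type*} [Group K] [Finite K] {S : Subgroup K} (h2 : IsPGroup 2 ↥S) {n m : ℕ}
    (hc : Nat.card K = 2 ^ n * m) (hm : Odd m) (hS : 2 ^ n ≤ Nat.card ↥S) : Odd S.index := by
  obtain ⟨k, hk⟩ := IsPGroup.iff_card.mp h2
  have h1 := S.card_mul_index
  rw [hk, hc] at h1
  rw [hk] at hS
  have hnk : n ≤ k := (Nat.pow_le_pow_iff_right (by norm_num)).mp hS
  obtain ⟨j, rfl⟩ := Nat.exists_eq_add_of_le hnk
  rw [pow_add, mul_assoc] at h1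
  have h3 : 2 ^ j * S.index = m := Nat.eq_of_mul_eq_mul_left (by positivity) h1
  exact hm.of_dvd_nat (Dvd.intro_left _ h3)

end Cfsg.Agent.OddHalf.D4.Small

namespace Cfsg.Agent.OddHalf.D4.Small.KU33

open Matrix Subgroup Cfsg
open Cfsg.Agent.Classification.RTwo.UThreeThree (K9 card_k9 card_k9' IsGood psuEquiv)
open Cfsg.Agent.OddHalf.Small.U33

/-- conjugation in `F₉` -/
def cj (x : K9) : K9 := x * x * x

theorem cj_cj (x : K9) : cj (cj x) = x := cube_cube x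

theorem cj_mul (x y : K9) : cj (x * y) = cj x * cj y := by unfold cj; ring

theorem cj_zero : cj 0 = 0 := by unfold cj; ring

theorem cj_neg (x : K9) : cj (-x) = -cj x := by unfold cj; ring

theorem param {x : SU33} (hx : x * t0 = t0 * x) :
    mt x 0 0 * cj (mt x 0 0) = 1 ∧ mt x 2 1 = -(cj (mt x 0 0) * cj (mt x 1 2)) ∧
      mt x 2 2 = cj (mt x 0 0) * cj (mt x 1 1) ∧
      mt x 1 1 * cj (mt x 1 1) + mt x 1 2 * cj (mt x 1 2) = 1 := by
  obtain ⟨h01, h02, h10, h20⟩ := pattern hx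
  have hdet := det_eq x
  rw [Matrix.det_fin_three, h01, h02, h10, h20] at hdet
  have u00 := unitary x 0 0
  have u11 := unitary x 1 1
  have u22 := unitary x 2 2
  have u12 := unitary x 1 2
  have u21 := unitary x 2 1
  rw [h10, h20] at u00
  rw [h01] at u11 u12 u21
  rw [h02] at u22 u12 u21
  simp only [mul_zero, zero_mul, zero_add, add_zero, if_true, if_false, Fin.isValue, Fin.reduceEq] at u00 u11 u22 u12 u21
  set a := mt x 1 1
  set b := mt x 1 2
  set c := mt x 2 1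
  set e := mt x 2 2
  set d := mt x 0 0
  have k00 : d * cj d = 1 := u00
  have k11 : a * cj a + c * cj c = 1 := u11
  have k22 : b * cj b + e * cj e = 1 := u22
  have k12 : a * cj b + c * cj e = 0 := u12
  have k21 : b * cj a + e * cj c = 0 := u21
  have hd' : a * e - b * c = cj d := by
    linear_combination (cj d) * hdet - (a * e - b * c) * k00
  have he : e = cj d * cj a := by
    linear_combination (-e) * k11 + (cj a) * hd' + c * k21
  have hc : c = -(cj d * cj b) := by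
    linear_combination (-c) * k22 - (cj b) * hd' + e * k12
  refine ⟨k00, hc, he, ?_⟩
  have h1 : cj e = d * a := by rw [he, cj_mul, cj_cj, cj_cj]
  rw [h1, he] at k22
  linear_combination k22 - (a * cj a) * k00

theorem comm_iff {x : SU33} : x * t0 = t0 * x ↔ mt x 0 1 = 0 ∧ mt x 0 2 = 0 ∧ mt x 1 0 = 0 ∧ mt x 2 0 = 0 := by
  constructor
  · exact pattern
  · rintro ⟨h01, h02, h10, h20⟩
    apply mt_ext
    rw [mt_mul, mt_mul, mt_t0]
    refine Matrix.ext fun i j => ?_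
    fin_cases i <;> fin_cases j <;> simp [dg, Matrix.mul_apply, Fin.sum_univ_three, h01, h02, h10, h20]

theorem mt_mul_apply (x y : SU33) (i j : Fin 3) :
    mt (x * y) i j = mt x i 0 * mt y 0 j + mt x i 1 * mt y 1 j + mt x i 2 * mt y 2 j := by
  rw [mt_mul, Matrix.mul_apply, Fin.sum_univ_three]

theorem comm_mul {x y : SU33} (hx : x * t0 = t0 * x) (hy : y * t0 = t0 * y) : x * y * t0 = t0 * (x * y) := by
  rw [mul_assoc, hy, ← mul_assoc, hx, mul_assoc]

/-! ### the diagonal matrices -/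

/-- membership in `A` -/
def InA (x : SU33) : Prop := x * t0 = t0 * x ∧ mt x 1 2 = 0

theorem InA.mul {x y : SU33} (hx : InA x) (hy : InA y) : InA (x * y) := by
  refine ⟨comm_mul hx.1 hy.1, ?_⟩
  rw [mt_mul_apply, (pattern hx.1).2.2.1, hx.2, hy.2]
  ring

theorem InA.diag {x : SU33} (hx : InA x) : mt x = diagonal ![mt x 0 0, mt x 1 1, mt x 2 2] := by
  obtain ⟨h01, h02, h10, h20⟩ := pattern hx.1
  obtain ⟨-, h21, -, -⟩ := param hx.1
  rw [hx.2, cj_zero, mul_zero, neg_zero] at h21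
  refine Matrix.ext fun i j => ?_
  fin_cases i <;> fin_cases j
  · rfl
  · exact h01
  · exact h02
  · exact h10
  · rfl
  · exact hx.2
  · exact h20
  · exact h21
  · rfl

theorem InA.comm {x y : SU33} (hx : InA x) (hy : InA y) : x * y = y * x := by
  apply mt_ext
  rw [mt_mul, mt_mul, hx.diag, hy.diag, diagonal_mul_diagonal, diagonal_mul_diagonal]
  congr 1
  funext i
  exact mul_comm _ _

theorem pow_four_aux {a : K9} (h : a * cj a = 1) : a * a * (a * a) = 1 := by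
  rw [← h]; unfold cj; ring

theorem InA.four {x : SU33} (hx : InA x) : x * x * (x * x) = 1 := by
  obtain ⟨h00, h21, h22, h11⟩ := param hx.1
  rw [hx.2, cj_zero, mul_zero, add_zero] at h11
  have h22' : mt x 2 2 * cj (mt x 2 2) = 1 := by
    rw [h22, cj_mul, cj_cj, cj_cj]
    linear_combination (mt x 1 1 * cj (mt x 1 1)) * h00 + h11
  apply mt_ext
  rw [mt_mul, mt_mul, hx.diag, diagonal_mul_diagonal, diagonal_mul_diagonal, mt_one, ← diagonal_one]
  congr 1
  funext i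
  fin_cases i
  · exact pow_four_aux h00
  · exact pow_four_aux h11
  · exact pow_four_aux h22'

/-- `A = 4²` -/
def A : Subgroup SU33 where
  carrier := {x | InA x}
  mul_mem' := InA.mul
  one_mem' := by
    refine ⟨by rw [one_mul, mul_one], ?_⟩
    rw [mt_one]; rfl
  inv_mem' := by
    intro x hx
    have h1 : InA x := hx
    have h2 : x⁻¹ = x * x * x := by
      have h3 := h1.four
      rw [inv_eq_iff_mul_eq_one, ← h3]; group
    show InA x⁻¹
    rw [h2]
    exact (h1.mul h1).mul h1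

/-! ### the monomial matrices -/

/-- membership in `S` -/
def InS (x : SU33) : Prop := x * t0 = t0 * x ∧ (mt x 1 1 = 0 ∨ mt x 1 2 = 0)

theorem InS.cases {x : SU33} (hx : InS x) : (mt x 1 1 = 0 ∧ mt x 2 2 = 0) ∨ (mt x 1 2 = 0 ∧ mt x 2 1 = 0) := by
  obtain ⟨-, h21, h22, -⟩ := param hx.1
  rcases hx.2 with h | h
  · left
    refine ⟨h, ?_⟩
    rw [h22, h, cj_zero, mul_zero]
  · right
    refine ⟨h, ?_⟩
    rw [h21, h, cj_zero, mul_zero, neg_zero]

theorem InS.mul {x y : SU33} (hx : InS x) (hy : InS y) : InS (x * y) := by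
  refine ⟨comm_mul hx.1 hy.1, ?_⟩
  rw [mt_mul_apply, mt_mul_apply, (pattern hx.1).2.2.1]
  rcases hx.cases with ⟨h1, h2⟩ | ⟨h1, h2⟩ <;> rcases hy.cases with ⟨h3, h4⟩ | ⟨h3, h4⟩
  · right; rw [h1, h4]; ring
  · left; rw [h1, h4]; ring
  · left; rw [h1, h3]; ring
  · right; rw [h1, h3]; ring

theorem InS.sq {x : SU33} (hx : InS x) : InA (x * x) := by
  refine ⟨comm_mul hx.1 hx.1, ?_⟩
  rw [mt_mul_apply, (pattern hx.1).2.2.1]
  rcases hx.cases with ⟨h1, h2⟩ | ⟨h1, h2⟩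
  · rw [h1, h2]; ring
  · rw [h1]; ring

theorem InS.eight {x : SU33} (hx : InS x) : x ^ 8 = 1 := by
  have h := hx.sq.four
  rw [← h]
  simp only [pow_succ, pow_zero, one_mul, mul_assoc]

/-- `S`, the Sylow 2-subgroup -/
def S : Subgroup SU33 where
  carrier := {x | InS x}
  mul_mem' := InS.mul
  one_mem' := by
    refine ⟨by rw [one_mul, mul_one], Or.inr ?_⟩
    rw [mt_one]; rfl
  inv_mem' := by
    intro x hx
    have h1 : InS x := hx
    have h2 : x⁻¹ = x * x * x * x * x * x * x := by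
      have h3 := h1.eight
      rw [inv_eq_iff_mul_eq_one, ← h3]
      simp only [pow_succ, pow_zero, one_mul, mul_assoc]
    show InS x⁻¹
    rw [h2]
    exact (((((h1.mul h1).mul h1).mul h1).mul h1).mul h1).mul h1

theorem mem_S {x : SU33} : x ∈ S ↔ InS x := Iff.rfl
theorem mem_A {x : SU33} : x ∈ A ↔ InA x := Iff.rfl
theorem mem_Q {x : SU33} : x ∈ Q ↔ InQ x := Iff.rfl

theorem isPGroup_S : IsPGroup 2 ↥S := by
  rintro ⟨x, hx⟩
  exact ⟨3, Subtype.ext (InS.eight hx)⟩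

/-- the powers of `i` -/
def un (k : Fin 4) : K9 := ![1, ⟨0, 1⟩, -1, ⟨0, 2⟩] k

/-- the elements of `S` -/
def sm (k l : Fin 4) (e : Bool) : Matrix (Fin 3) (Fin 3) K9 :=
  if e then !![un l, 0, 0; 0, 0, un k; 0, -(cj (un l) * cj (un k)), 0]
  else !![un l, 0, 0; 0, un k, 0; 0, 0, cj (un l) * cj (un k)]

theorem sm_good : ∀ k l : Fin 4, ∀ e : Bool, IsGood (sm k l e) := by decide +kernel

theorem sm_inj : ∀ k l : Fin 4, ∀ e : Bool, ∀ k' l' : Fin 4, ∀ e' : Bool,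
    sm k l e 0 0 = sm k' l' e' 0 0 → sm k l e 1 1 = sm k' l' e' 1 1 → sm k l e 1 2 = sm k' l' e' 1 2 →
    k = k' ∧ l = l' ∧ e = e' := by decide +kernel

theorem sm_pat : ∀ k l : Fin 4, ∀ e : Bool, sm k l e 0 1 = 0 ∧ sm k l e 0 2 = 0 ∧ sm k l e 1 0 = 0 ∧
    sm k l e 2 0 = 0 ∧ (sm k l e 1 1 = 0 ∨ sm k l e 1 2 = 0) := by decide +kernel

theorem card_S : 32 ≤ Nat.card ↥S := by
  have := finite_SU33
  let f : Fin 4 × Fin 4 × Bool → ↥S := fun p => ⟨(sm_good p.1 p.2.1 p.2.2).su, by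
    have h := sm_pat p.1 p.2.1 p.2.2
    exact ⟨comm_iff.mpr ⟨h.1, h.2.1, h.2.2.1, h.2.2.2.1⟩, h.2.2.2.2⟩⟩
  have hf : Function.Injective f := by
    rintro ⟨k, l, e⟩ ⟨k', l', e'⟩ h
    have h1 : mt (sm_good k l e).su = mt (sm_good k' l' e').su := congrArg (fun x : ↥S => mt (x : SU33)) h
    have h2 : sm k l e = sm k' l' e' := h1
    obtain ⟨h3, h4, h5⟩ := sm_inj k l e k' l' e' (by rw [h2]) (by rw [h2]) (by rw [h2])
    rw [h3, h4, h5]
  have h1 := Nat.card_le_card_of_injective f hf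
  have h2 : Nat.card (Fin 4 × Fin 4 × Bool) = 32 := by simp
  rwa [h2] at h1

theorem card_SU : Nat.card SU33 = 6048 := by
  have h1 := Cfsg.Agent.SmallSimple.PSLFacts.card_psu_three_three (F := K9) card_k9
  rw [← h1]
  exact (Nat.card_congr (psuEquiv card_k9).toEquiv).symm

theorem odd_S : Odd S.index := by
  have := finite_SU33
  exact odd_index_of isPGroup_S (n := 5) (m := 189) (by rw [card_SU]; norm_num) (by decide) card_S

/-! ### scalars, generators of `R` -/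

/-- `i` -/
def gi : SU33 := isGood_i.su
/-- `j` -/
def gj : SU33 := isGood_j.su

theorem mt_gi : mt gi = iMat := rfl
theorem mt_gj : mt gj = jMat := rfl

theorem scalar_of {y : SU33} (hy : y * t0 = t0 * y) (hi : y * gi = gi * y) (hj : y * gj = gj * y) :
    mt y 1 2 = 0 ∧ mt y 2 1 = 0 ∧ mt y 1 1 = mt y 2 2 := by
  obtain ⟨y01, y02, y10, y20⟩ := pattern hy
  have hi : mt y * iMat = iMat * mt y := congrArg (fun w : SU33 => mt w) hi
  have hj : mt y * jMat = jMat * mt y := congrArg (fun w : SU33 => mt w) hj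
  refine ⟨?_, ?_, ?_⟩
  · have h := congrFun (congrFun hj 1) 2
    simp only [Matrix.mul_apply, Fin.sum_univ_three] at h
    simp [jMat] at h
    have h2 : ((⟨0, 1⟩ : K9) - ⟨0, 2⟩) * mt y 1 2 = 0 := by linear_combination -h
    exact (mul_eq_zero.1 h2).resolve_left jj_ne
  · have h := congrFun (congrFun hj 2) 1
    simp only [Matrix.mul_apply, Fin.sum_univ_three] at h
    simp [jMat] at h
    have h2 : ((⟨0, 1⟩ : K9) - ⟨0, 2⟩) * mt y 2 1 = 0 := by linear_combination h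
    exact (mul_eq_zero.1 h2).resolve_left jj_ne
  · have h := congrFun (congrFun hi 1) 2
    simp only [Matrix.mul_apply, Fin.sum_univ_three] at h
    simpa [iMat] using h

theorem comm_scalar {x p : SU33} (hx : x * t0 = t0 * x) (hp : p * t0 = t0 * p) (h12 : mt x 1 2 = 0)
    (h21 : mt x 2 1 = 0) (h11 : mt x 1 1 = mt x 2 2) : x * p = p * x := by
  obtain ⟨x01, x02, x10, x20⟩ := pattern hx
  obtain ⟨p01, p02, p10, p20⟩ := pattern hp
  apply mt_ext
  rw [mt_mul, mt_mul]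
  refine Matrix.ext fun i j => ?_
  simp only [Matrix.mul_apply, Fin.sum_univ_three]
  fin_cases i <;> fin_cases j <;>
    simp [x01, x02, x10, x20, p01, p02, p10, p20, h12, h21, h11, mul_comm]

theorem mem_Q_iff_aux : ∀ a1 a2 b1 b2 : ZMod 3, ∀ e : Bool, Cond ⟨a1, a2⟩ ⟨b1, b2⟩ (sg e) →
    (⟨a1, a2⟩ : K9) = 0 ∨ (⟨b1, b2⟩ : K9) = 0 := by decide +kernel

theorem Q_le_S : Q ≤ S := by
  intro x hx
  have hx' : InQ x := hx
  refine ⟨comm_of_inQ hx', ?_⟩
  obtain ⟨⟨a1, a2⟩, ⟨b1, b2⟩, e, hc, hm⟩ := hx'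
  rcases mem_Q_iff_aux a1 a2 b1 b2 e hc with h | h
  · left; rw [hm]; exact h
  · right; rw [hm]; exact h

theorem inQ_aux : ∀ a1 a2 b1 b2 : ZMod 3, ∀ e : Bool,
    (⟨a1, a2⟩ : K9) * cj ⟨a1, a2⟩ + ⟨b1, b2⟩ * cj ⟨b1, b2⟩ = 1 →
    ((⟨a1, a2⟩ : K9) = 0 ∨ (⟨b1, b2⟩ : K9) = 0) →
    (⟨a1, a2⟩ : K9) + cj (sg e) * cj ⟨a1, a2⟩ = 0 ∨
      ((⟨b1, b2⟩ : K9) = 0 ∧ -(cj (sg e) * cj (⟨b1, b2⟩ : K9)) = 0 ∧
        (⟨a1, a2⟩ : K9) = cj (sg e) * cj ⟨a1, a2⟩) := by decide +kernel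

theorem inQ_of_S {x : SU33} (hx : InS x) (h : mt x 0 0 = 1 ∨ mt x 0 0 = -1) : InQ x := by
  obtain ⟨h01, h02, h10, h20⟩ := pattern hx.1
  obtain ⟨h00, h21, h22, h11⟩ := param hx.1
  obtain ⟨e, he⟩ : ∃ e : Bool, mt x 0 0 = sg e := by
    rcases h with h | h
    · exact ⟨true, h⟩
    · exact ⟨false, h⟩
  refine inQ_of h01 h02 h10 h20 e he ?_
  rw [h21, h22, he]
  exact inQ_aux _ _ _ _ e h11 hx.2

/-- the element used for `core` -/
def g0M : Matrix (Fin 3) (Fin 3) K9 := !![1, 0, 0; 0, ⟨1, 1⟩, ⟨1, 1⟩; 0, -⟨1, 2⟩, ⟨1, 2⟩]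

theorem g0_good : IsGood g0M := by decide +kernel

theorem core_aux1 : ∀ d1 d2 a1 a2 : ZMod 3, (⟨d1, d2⟩ : K9) * cj ⟨d1, d2⟩ = 1 →
    (⟨a1, a2⟩ : K9) * cj ⟨a1, a2⟩ = 1 →
      ((⟨a1, a2⟩ : K9) + cj ⟨d1, d2⟩ * cj ⟨a1, a2⟩ = 0 ∨
        (⟨a1, a2⟩ : K9) = cj ⟨d1, d2⟩ * cj ⟨a1, a2⟩) → (⟨d1, d2⟩ : K9) = 1 ∨ (⟨d1, d2⟩ : K9) = -1 := by
  decide +kernel

theorem core_aux2 : ∀ d1 d2 a1 a2 : ZMod 3, (⟨d1, d2⟩ : K9) * cj ⟨d1, d2⟩ = 1 →
    (⟨a1, a2⟩ : K9) * cj ⟨a1, a2⟩ = 1 →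
      ((⟨a1, a2⟩ : K9) - cj ⟨d1, d2⟩ * cj ⟨a1, a2⟩ = 0 ∨
        -(cj ⟨d1, d2⟩ * cj ⟨a1, a2⟩) = (⟨a1, a2⟩ : K9)) → (⟨d1, d2⟩ : K9) = 1 ∨ (⟨d1, d2⟩ : K9) = -1 := by
  decide +kernel

theorem core_one {d a : K9} (h1 : d * cj d = 1) (h2 : a * cj a = 1)
    (h3 : a + cj d * cj a = 0 ∨ a = cj d * cj a) : d = 1 ∨ d = -1 := by
  obtain ⟨d1, d2⟩ := d
  obtain ⟨a1, a2⟩ := a
  exact core_aux1 d1 d2 a1 a2 h1 h2 h3

theorem core_two {d a : K9} (h1 : d * cj d = 1) (h2 : a * cj a = 1)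
    (h3 : a - cj d * cj a = 0 ∨ -(cj d * cj a) = a) : d = 1 ∨ d = -1 := by
  obtain ⟨d1, d2⟩ := d
  obtain ⟨a1, a2⟩ := a
  exact core_aux2 d1 d2 a1 a2 h1 h2 h3

theorem core {x : SU33} (hx : InS x) (h : InS (g0_good.su * x * g0_good.su⁻¹)) : InQ x := by
  apply inQ_of_S hx
  obtain ⟨h00, h21, h22, h11⟩ := param hx.1
  set y := g0_good.su * x * g0_good.su⁻¹ with hy
  have hyg : y * g0_good.su = g0_good.su * x := by rw [hy]; group
  have e11 : mt y 1 1 * ⟨1, 1⟩ + mt y 1 2 * -⟨1, 2⟩ = ⟨1, 1⟩ * mt x 1 1 + ⟨1, 1⟩ * mt x 2 1 := by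
    have h1 := congrArg (fun w => mt w 1 1) hyg
    simp only [mt_mul_apply] at h1
    rw [(pattern h.1).2.2.1, (pattern hx.1).1] at h1
    have e1 : ∀ a b c d e f : K9, 0 * a + b * ⟨1, 1⟩ + c * -⟨1, 2⟩ = d * 0 + ⟨1, 1⟩ * e + ⟨1, 1⟩ * f →
        b * ⟨1, 1⟩ + c * -⟨1, 2⟩ = ⟨1, 1⟩ * e + ⟨1, 1⟩ * f := by
      intro a b c d e f h; linear_combination h
    exact e1 _ _ _ _ _ _ h1
  have e12 : mt y 1 1 * ⟨1, 1⟩ + mt y 1 2 * ⟨1, 2⟩ = ⟨1, 1⟩ * mt x 1 2 + ⟨1, 1⟩ * mt x 2 2 := by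
    have h1 := congrArg (fun w => mt w 1 2) hyg
    simp only [mt_mul_apply] at h1
    rw [(pattern h.1).2.2.1, (pattern hx.1).2.1] at h1
    have e1 : ∀ a b c d e f : K9, 0 * a + b * ⟨1, 1⟩ + c * ⟨1, 2⟩ = d * 0 + ⟨1, 1⟩ * e + ⟨1, 1⟩ * f →
        b * ⟨1, 1⟩ + c * ⟨1, 2⟩ = ⟨1, 1⟩ * e + ⟨1, 1⟩ * f := by
      intro a b c d e f h; linear_combination h
    exact e1 _ _ _ _ _ _ h1
  have n11 : (⟨1, 1⟩ : K9) ≠ 0 := by decide +kernel
  have key : mt x 1 1 + mt x 2 1 + mt x 1 2 + mt x 2 2 = 0 ∨ mt x 1 1 + mt x 2 1 = mt x 1 2 + mt x 2 2 := by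
    rcases h.2 with h3 | h3
    · left
      rw [h3, zero_mul, zero_add] at e11 e12
      have h4 : (⟨1, 1⟩ : K9) * (mt x 1 1 + mt x 2 1 + mt x 1 2 + mt x 2 2) = 0 := by
        linear_combination -e11 - e12
      exact (mul_eq_zero.1 h4).resolve_left n11
    · right
      rw [h3, zero_mul, add_zero] at e11 e12
      have h4 : (⟨1, 1⟩ : K9) * (mt x 1 1 + mt x 2 1 - (mt x 1 2 + mt x 2 2)) = 0 := by
        linear_combination e12 - e11
      have h5 := (mul_eq_zero.1 h4).resolve_left n11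
      linear_combination h5
  rw [h21, h22] at key
  rcases hx.2 with h3 | h3
  · rw [h3, cj_zero, mul_zero, zero_add] at h11
    refine core_two h00 h11 ?_
    rcases key with h4 | h4
    · left
      rw [h3, cj_zero] at h4
      linear_combination h4
    · right
      rw [h3, cj_zero] at h4
      linear_combination h4
  · rw [h3, cj_zero, mul_zero, add_zero] at h11
    refine core_one h00 h11 ?_
    rcases key with h4 | h4
    · left
      rw [h3, cj_zero] at h4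
      linear_combination h4
    · right
      rw [h3, cj_zero] at h4
      linear_combination h4

theorem gi_Q : gi ∈ Q := i_mem
theorem gj_Q : gj ∈ Q := j_mem

theorem zQ : t0 ∈ Q := ⟨-1, 0, true, by decide +kernel, by
  show dg = _
  decide +kernel⟩

theorem uniq_aux : ∀ d1 d2 a1 a2 : ZMod 3, (⟨d1, d2⟩ : K9) * cj ⟨d1, d2⟩ = 1 →
    (⟨a1, a2⟩ : K9) * cj ⟨a1, a2⟩ = 1 → (⟨a1, a2⟩ : K9) = cj ⟨d1, d2⟩ * cj ⟨a1, a2⟩ →
    (⟨a1, a2⟩ : K9) * ⟨a1, a2⟩ = 1 → (⟨d1, d2⟩ : K9) = 1 ∧ ((⟨a1, a2⟩ : K9) = 1 ∨ (⟨a1, a2⟩ : K9) = -1) := by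
  decide +kernel

theorem uniq {x : SU33} (hx : InS x) (h2 : x * x = 1) (h1 : x ≠ 1) (hi : gi * x = x * gi)
    (hj : gj * x = x * gj) : x = t0 := by
  obtain ⟨x01, x02, x10, x20⟩ := pattern hx.1
  obtain ⟨h00, h21, h22, h11⟩ := param hx.1
  obtain ⟨s12, s21, s11⟩ := scalar_of hx.1 hi.symm hj.symm
  rw [s12, cj_zero, mul_zero, add_zero] at h11
  have hsq : mt x 1 1 * mt x 1 1 = 1 := by
    have h3 := congrArg (fun w => mt w 1 1) h2
    simp only [mt_mul_apply] at h3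
    rw [x01, s12] at h3
    have h4 : mt (1 : SU33) 1 1 = 1 := rfl
    rw [h4] at h3
    linear_combination h3
  obtain ⟨hd, ha⟩ := uniq_aux _ _ _ _ h00 h11 (s11.trans h22) hsq
  have hd' : mt x 0 0 = 1 := hd
  rcases ha with ha | ha
  · exfalso
    apply h1
    have ha' : mt x 1 1 = 1 := ha
    apply mt_ext
    rw [mt_one]
    refine Matrix.ext fun i j => ?_
    fin_cases i <;> fin_cases j
    · exact hd'
    · exact x01
    · exact x02
    · exact x10
    · exact ha'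
    · exact s12
    · exact x20
    · exact s21
    · exact s11.symm.trans ha'
  · have ha' : mt x 1 1 = -1 := ha
    apply mt_ext
    rw [mt_t0]
    refine Matrix.ext fun i j => ?_
    fin_cases i <;> fin_cases j
    · exact hd'
    · exact x01
    · exact x02
    · exact x10
    · exact ha'
    · exact s12
    · exact x20
    · exact s21
    · exact s11.symm.trans ha'

theorem coreS : Core SU33 S Q t0 where
  two := isPGroup_S
  odd := odd_S
  z2 := by
    apply mt_ext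
    rw [mt_mul, mt_t0, mt_one]
    decide +kernel
  z1 := by
    intro h
    have h1 : mt t0 1 1 = mt 1 1 1 := by rw [h]
    have h2 : ((-1 : K9)) = 1 := h1
    exact absurd h2 (by decide +kernel)
  zR := zQ
  RS := Q_le_S
  zc := fun s hs => hs.1
  uniq := fun x hx h2 h1 hc => uniq hx h2 h1 (hc _ (Q_le_S gi_Q)) (hc _ (Q_le_S gj_Q))
  Rn := fun p hp r hr => Cfsg.Agent.OddHalf.Small.U33.conj_mem hp hr
  core := by
    intro x hx h
    refine core hx (h _ ?_)
    rw [comm_iff]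
    exact ⟨rfl, rfl, rfl, rfl⟩

theorem scalar_aux : ∀ d1 d2 a1 a2 : ZMod 3, (⟨d1, d2⟩ : K9) * cj ⟨d1, d2⟩ = 1 →
    (⟨a1, a2⟩ : K9) * cj ⟨a1, a2⟩ = 1 → (⟨a1, a2⟩ : K9) = cj ⟨d1, d2⟩ * cj ⟨a1, a2⟩ →
    (⟨d1, d2⟩ : K9) = 1 ∨ (⟨d1, d2⟩ : K9) = -1 := by decide +kernel

/-- `C_P(R) ≤ R ∩ Z(P)` -/
theorem cent_R {x : SU33} (hx : x * t0 = t0 * x) (hr : ∀ r ∈ Q, x * r = r * x) :
    x ∈ Q ∧ ∀ p, p * t0 = t0 * p → x * p = p * x := by
  obtain ⟨h00, h21, h22, h11⟩ := param hx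
  obtain ⟨s12, s21, s11⟩ := scalar_of hx (hr _ gi_Q) (hr _ gj_Q)
  rw [s12, cj_zero, mul_zero, add_zero] at h11
  refine ⟨inQ_of_S ⟨hx, Or.inr s12⟩ (scalar_aux _ _ _ _ h00 h11 (s11.trans h22)),
    fun p hp => comm_scalar hx hp s12 s21 s11⟩

/-! ### the structure of `R` -/

/-- `Q₈` -/
def Q8 : Subgroup SU33 where
  carrier := {x | InQ x ∧ mt x 0 0 = 1}
  mul_mem' := by
    rintro x y ⟨hx, hx0⟩ ⟨hy, hy0⟩
    refine ⟨hx.mul hy, ?_⟩
    rw [mt_mul_apply, hx0, hy0, (pattern (comm_of_inQ hx)).1, (pattern (comm_of_inQ hx)).2.1]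
    ring
  one_mem' := ⟨Q.one_mem, rfl⟩
  inv_mem' := by
    rintro x ⟨hx, hx0⟩
    have hi : InQ x⁻¹ := Q.inv_mem hx
    refine ⟨hi, ?_⟩
    have h1 := congrArg (fun w => mt w 0 0) (mul_inv_cancel x)
    simp only [mt_mul_apply] at h1
    rw [hx0, (pattern (comm_of_inQ hx)).1, (pattern (comm_of_inQ hx)).2.1] at h1
    have h2 : mt (1 : SU33) 0 0 = 1 := rfl
    rw [h2] at h1
    linear_combination h1

theorem q8_aux : ∀ a1 a2 b1 b2 : ZMod 3, Cond ⟨a1, a2⟩ ⟨b1, b2⟩ 1 →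
    bm ⟨a1, a2⟩ ⟨b1, b2⟩ 1 ∈ [1, dg, iMat, iMat * dg, jMat, jMat * dg, iMat * jMat, iMat * jMat * dg] := by
  decide +kernel

theorem isQ : IsQ t0 Q8 := by
  refine IsQ.mk' (i := gi) (j := gj) coreS.z2 coreS.z1 ⟨gi_Q, rfl⟩ ⟨gj_Q, rfl⟩ ?_ ?_ ?_ ?_
  · apply mt_ext
    rw [mt_mul, mt_gi, mt_t0]
    decide +kernel
  · apply mt_ext
    rw [mt_mul, mt_gj, mt_t0]
    decide +kernel
  · apply mt_ext
    rw [mt_mul, mt_mul, mt_mul, mt_gj, mt_gi, mt_t0]
    decide +kernel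
  · rintro q ⟨⟨⟨a1, a2⟩, ⟨b1, b2⟩, e, hc, hm⟩, h0⟩
    have he : sg e = 1 := by
      rw [hm] at h0
      exact h0
    rw [he] at hc hm
    have h8 := q8_aux a1 a2 b1 b2 hc
    simp only [List.mem_cons, List.not_mem_nil, or_false] at h8
    rcases h8 with h | h | h | h | h | h | h | h
    · left; apply mt_ext; rw [hm, h, mt_one]
    · right; left; apply mt_ext; rw [hm, h, mt_t0]
    · right; right; left; apply mt_ext; rw [hm, h, mt_gi]
    · right; right; right; left; apply mt_ext; rw [hm, h, mt_mul, mt_gi, mt_t0]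
    · right; right; right; right; left; apply mt_ext; rw [hm, h, mt_gj]
    · right; right; right; right; right; left; apply mt_ext; rw [hm, h, mt_mul, mt_gj, mt_t0]
    · right; right; right; right; right; right; left; apply mt_ext; rw [hm, h, mt_mul, mt_gi, mt_gj]
    · right; right; right; right; right; right; right; apply mt_ext
      rw [hm, h, mt_mul, mt_mul, mt_gi, mt_gj, mt_t0]

/-- the central element of order 4 -/
def cMat : Matrix (Fin 3) (Fin 3) K9 := !![-1, 0, 0; 0, ⟨0, 1⟩, 0; 0, 0, ⟨0, 1⟩]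

theorem c_good : IsGood cMat := by decide +kernel

theorem c_Q : c_good.su ∈ Q := ⟨⟨0, 1⟩, 0, false, by decide +kernel, by
  show cMat = _
  decide +kernel⟩

theorem isCQ : IsCQ t0 c_good.su Q8 Q where
  q := isQ
  le := fun _ hx => hx.1
  cR := c_Q
  cc := by
    apply mt_ext
    rw [mt_mul, mt_t0]
    show cMat * cMat = dg
    decide +kernel
  com := by
    intro r hr
    exact (comm_scalar (x := c_good.su) (p := r) (comm_iff.mpr ⟨rfl, rfl, rfl, rfl⟩) (comm_of_inQ hr) rfl rfl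
      rfl).symm
  mem := by
    intro r hr
    have hr' : InQ r := hr
    obtain ⟨a, b, e, hc, hm⟩ := hr'
    cases e with
    | true => exact Or.inl ⟨hr, by rw [hm]; rfl⟩
    | false =>
      right
      refine ⟨Q.mul_mem hr c_Q, ?_⟩
      have h0 : mt r 0 0 = -1 := by rw [hm]; rfl
      rw [mt_mul_apply, h0, (pattern (comm_of_inQ hr)).1, (pattern (comm_of_inQ hr)).2.1]
      show -1 * -1 + 0 * _ + 0 * _ = (1 : K9)
      ring

theorem sheet : Sheet SU33 S Q t0 := by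
  have := finite_SU33
  exact Sheet.of_CQ coreS.sheet0 isCQ (fun p hp hr => (cent_R hp hr).1)

/-! ### the second local subgroup -/

theorem A_le_S : A ≤ S := fun _ hx => ⟨hx.1, Or.inr hx.2⟩

theorem t0_A : t0 ∈ A := ⟨rfl, rfl⟩
theorem gj_A : gj ∈ A := ⟨comm_iff.mpr ⟨rfl, rfl, rfl, rfl⟩, rfl⟩

theorem zero_of_j {y : SU33} (hj : y * gj = gj * y) : mt y 1 2 = 0 := by
  have hj : mt y * jMat = jMat * mt y := congrArg (fun w : SU33 => mt w) hj
  have h := congrFun (congrFun hj 1) 2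
  simp only [Matrix.mul_apply, Fin.sum_univ_three] at h
  simp [jMat] at h
  have h2 : ((⟨0, 1⟩ : K9) - ⟨0, 2⟩) * mt y 1 2 = 0 := by linear_combination -h
  exact (mul_eq_zero.1 h2).resolve_left jj_ne

theorem cent_A (x : SU33) : (∀ a ∈ A, x * a = a * x) ↔ x ∈ A := by
  constructor
  · intro h
    exact ⟨h _ t0_A, zero_of_j (h _ gj_A)⟩
  · intro h a ha
    exact InA.comm h ha

theorem S_A {s a : SU33} (hs : s ∈ S) (ha : a ∈ A) : s * a * s⁻¹ ∈ A := by
  have ha' : InA a := ha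
  have hs' : InS s := hs
  have hy : s * a * s⁻¹ * t0 = t0 * (s * a * s⁻¹) := by
    have h1 : s⁻¹ * t0 = t0 * s⁻¹ := (S.inv_mem hs).1
    exact comm_mul (comm_mul hs'.1 ha'.1) h1
  refine ⟨hy, ?_⟩
  set y := s * a * s⁻¹ with hyd
  have e : y * s = s * a := by rw [hyd]; group
  rcases hs'.cases with ⟨h1, h2⟩ | ⟨h1, h2⟩
  · have e11 := congrArg (fun w : SU33 => mt w 1 1) e
    simp only [mt_mul_apply] at e11
    obtain ⟨-, -, -, hn⟩ := param hs'.1
    obtain ⟨-, h21, -, -⟩ := param hs'.1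
    obtain ⟨hd, -, -, -⟩ := param hs'.1
    obtain ⟨-, a21, -, -⟩ := param ha'.1
    rw [h1, (pattern hy).2.2.1, a21, ha'.2, (pattern hs'.1).2.2.1] at e11
    rw [h1, cj_zero, mul_zero, zero_add] at hn
    have h3 : mt y 1 2 * mt s 2 1 = 0 := by
      rw [cj_zero] at e11
      linear_combination e11
    have h4 : mt s 2 1 ≠ 0 := by
      intro h5
      rw [h5] at h21
      have h6 : cj (mt s 0 0) * cj (mt s 1 2) = 0 := by linear_combination h21
      have h7 : (1 : K9) = 0 := by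
        linear_combination (mt s 0 0 * mt s 1 2) * h6 - (mt s 1 2 * cj (mt s 1 2)) * hd - hn
      exact one_ne_zero h7
    exact (mul_eq_zero.1 h3).resolve_right h4
  · have e12 := congrArg (fun w : SU33 => mt w 1 2) e
    simp only [mt_mul_apply] at e12
    obtain ⟨hd, h21, h22, hn⟩ := param hs'.1
    rw [(pattern hy).2.2.1, ha'.2, (pattern hs'.1).2.1, (pattern hs'.1).2.2.1, h1] at e12
    rw [h1, cj_zero, mul_zero, add_zero] at hn
    have h3 : mt y 1 2 * mt s 2 2 = 0 := by linear_combination e12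
    have h4 : mt s 2 2 ≠ 0 := by
      intro h5
      rw [h5] at h22
      have h6 : cj (mt s 0 0) * cj (mt s 1 1) = 0 := h22.symm
      have h7 : (1 : K9) = 0 := by
        linear_combination (mt s 0 0 * mt s 1 1) * h6 - (mt s 1 1 * cj (mt s 1 1)) * hd - hn
      exact one_ne_zero h7
    exact (mul_eq_zero.1 h3).resolve_right h4

theorem cent_S {a : SU33} (ha : a ∈ A) (hs : ∀ s ∈ S, s * a = a * s) : ∀ p, p * t0 = t0 * p → a * p = p * a := by
  intro p hp
  obtain ⟨s12, s21, s11⟩ := scalar_of ha.1 (hs _ (Q_le_S gi_Q)).symm (hs _ (Q_le_S gj_Q)).symm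
  exact comm_scalar ha.1 hp s12 s21 s11

/-- the 3-cycle -/
def pMat : Matrix (Fin 3) (Fin 3) K9 := !![0, 0, 1; 1, 0, 0; 0, 1, 0]
/-- the second involution -/
def wMat : Matrix (Fin 3) (Fin 3) K9 := !![-1, 0, 0; 0, 1, 0; 0, 0, -1]

theorem p_good : IsGood pMat := by decide +kernel
theorem w_good : IsGood wMat := by decide +kernel

/-- the 3-cycle -/
def gp : SU33 := p_good.su
/-- the second involution -/
def w : SU33 := w_good.su

theorem mt_gp : mt gp = pMat := rfl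
theorem mt_w : mt w = wMat := rfl

theorem gp_w : gp * t0 * gp⁻¹ = w := by
  have h : gp * t0 = w * gp := by
    apply mt_ext
    rw [mt_mul, mt_mul, mt_gp, mt_t0, mt_w]
    decide +kernel
  rw [h]; group

theorem gp_A {a : SU33} (ha : a ∈ A) : gp * a * gp⁻¹ ∈ A := by
  have ha' : InA a := ha
  set y := gp * a * gp⁻¹ with hyd
  have e : y * gp = gp * a := by rw [hyd]; group
  have e' : mt y * pMat = pMat * diagonal ![mt a 0 0, mt a 1 1, mt a 2 2] := by
    have h1 := congrArg (fun w : SU33 => mt w) e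
    simp only [mt_mul] at h1
    rw [ha'.diag, mt_gp] at h1
    exact h1
  have hij : ∀ i j, (mt y * pMat) i j = (pMat * diagonal ![mt a 0 0, mt a 1 1, mt a 2 2]) i j :=
    fun i j => by rw [e']
  have h00 := hij 0 0
  have h02 := hij 0 1
  have h12 := hij 1 1
  have h10 := hij 1 2
  have h20 := hij 2 2
  simp [Matrix.mul_apply, Fin.sum_univ_three, pMat, diagonal] at h00 h02 h12 h10 h20
  exact ⟨comm_iff.mpr ⟨h00, h02, h10, h20⟩, h12⟩

/-! ### generation -/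

theorem comm_of_eigen {x y : SU33} {v : Fin 3 → K9} {c : K9}
    (hy : mt y = unitaryTransvection 3 3 v c) (hx : mt x *ᵥ v = -v) : x * y = y * x := by
  have hiso : hermForm 3 K9 3 (mt x *ᵥ v) (mt x *ᵥ v) = hermForm 3 K9 3 v v := x.2 v v
  have key : ∀ u : Fin 3 → K9, mt (x * y) *ᵥ u = mt (y * x) *ᵥ u := by
    intro u
    rw [mt_mul, mt_mul, ← Matrix.mulVec_mulVec, ← Matrix.mulVec_mulVec, hy,
      ClassicalGeometry.UnitTransv.unitaryTransvection_mulVec, ClassicalGeometry.UnitTransv.unitaryTransvection_mulVec,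
      Matrix.mulVec_add, Matrix.mulVec_smul, hx]
    have h1 : hermForm 3 K9 3 (mt x *ᵥ u) v = -hermForm 3 K9 3 u v := by
      have h2 : hermForm 3 K9 3 (mt x *ᵥ u) (mt x *ᵥ v) = hermForm 3 K9 3 u v := x.2 u v
      rw [hx] at h2
      rw [← h2, LieClassical.GUOrder.herm_def, LieClassical.GUOrder.herm_def, ← Finset.sum_neg_distrib]
      refine Finset.sum_congr rfl fun i _ => ?_
      rw [Pi.neg_apply]
      ring
    rw [h1]
    congr 1
    rw [smul_neg, mul_neg, neg_smul]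
  apply mt_ext
  refine Matrix.ext fun i j => ?_
  have h1 := congrFun (key (Pi.single j 1)) i
  simpa using h1

/-- the elements of `SU₂(3)` -/
def qM (x y : K9) : Matrix (Fin 3) (Fin 3) K9 := !![1, 0, 0; 0, x, y; 0, -(cj y), cj x]

theorem q_aux : ∀ x1 x2 y1 y2 : ZMod 3, (⟨x1, x2⟩ : K9) * cj ⟨x1, x2⟩ + ⟨y1, y2⟩ * cj ⟨y1, y2⟩ = 1 →
    IsGood (qM ⟨x1, x2⟩ ⟨y1, y2⟩) := by decide +kernel

theorem q_good {x y : K9} (h : x * cj x + y * cj y = 1) : IsGood (qM x y) := by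
  obtain ⟨x1, x2⟩ := x
  obtain ⟨y1, y2⟩ := y
  exact q_aux x1 x2 y1 y2 h

theorem closure_eq : closure {x : SU33 | ∃ (v : Fin 3 → K9) (c : K9), hermForm 3 K9 3 v v = 0 ∧
    mt x = unitaryTransvection 3 3 v c} = ⊤ :=
  Cfsg.Agent.S0780.result (F := K9) (q := 3) card_k9' 3 (by norm_num) (by norm_num)

theorem gen (H : Subgroup SU33) (h1 : ∀ p, p * t0 = t0 * p → p ∈ H) (h2 : ∀ p, p * w = w * p → p ∈ H) :
    H = ⊤ := by
  rw [eq_top_iff, ← closure_eq, closure_le]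
  rintro y ⟨v, c, hv, hy⟩
  by_cases hv0 : v 0 = 0
  · apply h1
    refine (comm_of_eigen (x := t0) hy ?_).symm
    funext i
    rw [mt_t0, Matrix.mulVec, dotProduct, Fin.sum_univ_three]
    fin_cases i <;> simp [dg, hv0]
  · -- an element of `SU₂(3)`
    have hN : v 0 * cj (v 0) + v 1 * cj (v 1) + v 2 * cj (v 2) = 0 := by
      rw [LieClassical.GUOrder.herm_def, Fin.sum_univ_three] at hv
      have e : ∀ x : K9, x * x ^ 3 = x * cj x := fun x => by unfold cj; ring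
      rw [e, e, e] at hv
      exact hv
    let ep : K9 := ⟨1, 1⟩
    have hep : ep * cj ep = -1 := by decide +kernel
    have hep0 : ep ≠ 0 := by decide +kernel
    let u : K9 := ep * v 0
    have hu0 : u ≠ 0 := mul_ne_zero hep0 hv0
    have hcv0 : cj (v 0) ≠ 0 := by
      unfold cj
      exact mul_ne_zero (mul_ne_zero hv0 hv0) hv0
    have hcu0 : cj u ≠ 0 := by
      unfold cj
      exact mul_ne_zero (mul_ne_zero hu0 hu0) hu0
    have hcu : u * cj u = -(v 0 * cj (v 0)) := by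
      show ep * v 0 * cj (ep * v 0) = _
      rw [cj_mul]
      linear_combination (v 0 * cj (v 0)) * hep
    let X : K9 := cj (v 2 / u)
    let Y : K9 := v 1 / u
    have cj_div : ∀ a : K9, cj (a / u) = cj a / cj u := by
      intro a; unfold cj; field_simp
    have hXY : X * cj X + Y * cj Y = 1 := by
      show cj (v 2 / u) * cj (cj (v 2 / u)) + v 1 / u * cj (v 1 / u) = 1
      rw [cj_cj, cj_div, cj_div]
      have h3 : cj (v 2) / cj u * (v 2 / u) + v 1 / u * (cj (v 1) / cj u) =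
          (v 1 * cj (v 1) + v 2 * cj (v 2)) / (u * cj u) := by
        field_simp
        ring
      rw [h3, hcu, div_eq_one_iff_eq (neg_ne_zero.mpr (mul_ne_zero hv0 hcv0))]
      linear_combination hN
    let g : SU33 := (q_good hXY).su
    have hg : g * t0 = t0 * g := comm_iff.mpr ⟨rfl, rfl, rfl, rfl⟩
    have hgH : g ∈ H := h1 g hg
    let v' : Fin 3 → K9 := ![v 0, 0, u]
    have hgv : mt g *ᵥ v' = v := by
      have hm : mt g = qM X Y := rfl
      funext i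
      rw [hm, Matrix.mulVec, dotProduct, Fin.sum_univ_three]
      have h22 : cj X = v 2 / u := cj_cj _
      fin_cases i
      · simp [qM, v']
      · simp only [qM, v']
        simp
        show v 1 / u * u = v 1
        field_simp
      · simp only [qM, v']
        simp
        rw [h22]
        field_simp
    have hwv : mt w *ᵥ v' = -v' := by
      funext i
      rw [mt_w, Matrix.mulVec, dotProduct, Fin.sum_univ_three]
      fin_cases i <;> simp [wMat, v']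
    have hy' : (g * w * g⁻¹) * y = y * (g * w * g⁻¹) := by
      refine comm_of_eigen hy ?_
      have h3 : mt (g * w * g⁻¹) *ᵥ v = mt (g * w * g⁻¹) *ᵥ (mt g *ᵥ v') := by rw [hgv]
      rw [h3, Matrix.mulVec_mulVec, ← mt_mul]
      have h4 : g * w * g⁻¹ * g = g * w := by group
      rw [h4, mt_mul, ← Matrix.mulVec_mulVec, hwv, Matrix.mulVec_neg, hgv]
    have h3 : g⁻¹ * y * g ∈ H := by
      apply h2
      calc g⁻¹ * y * g * w = g⁻¹ * (y * (g * w * g⁻¹)) * g := by group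
        _ = g⁻¹ * ((g * w * g⁻¹) * y) * g := by rw [hy']
        _ = w * (g⁻¹ * y * g) := by group
    have h4 := H.mul_mem (H.mul_mem hgH h3) (H.inv_mem hgH)
    have h5 : g * (g⁻¹ * y * g) * g⁻¹ = y := by group
    rwa [h5] at h4

theorem w_S : w ∈ S := ⟨comm_iff.mpr ⟨rfl, rfl, rfl, rfl⟩, Or.inr rfl⟩

/-- **`U₃(3)`** -/
theorem row : Row SU33 := by
  have := finite_SU33
  exact coreS.row sheet (fun x hx hr => cent_R hx hr) A_le_S cent_A (fun s hs a ha => S_A hs ha)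
    (fun a ha hs => cent_S ha hs) (fun a ha => gp_A ha) gp_w w_S gen

end Cfsg.Agent.OddHalf.D4.Small.KU33

namespace Cfsg.Agent.OddHalf.D4.Small

open Cfsg.Agent.Classification.RTwo.UThreeThree in
/-- the facts on `K ≅ U₃(3)` -/
theorem row_u33 {K : Type*} [Group K] {F : Type*} [Field F] [Fintype F] (hF : Fintype.card F = 9)
    (e : K ≃* Cfsg.PSU 3 F 3) : Row K := by
  have hcard : Fintype.card F = Fintype.card K9 := by rw [hF, card_k9]
  let f : F ≃+* K9 := FiniteField.ringEquivOfCardEq hcard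
  exact KU33.row.of_equiv (e.trans ((psuEquiv hF).trans (LieClassical.FieldTransfer.suCongr 3 3 f))).symm

end Cfsg.Agent.OddHalf.D4.Small
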