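import Mathlib
import Cfsg.Agent.OddHalf.D4.Small.KU33
import Cfsg.Agent.GH.L3S.ModelL33
import Cfsg.Agent.LieClassical.SLGen

/-!
# ODD, D4, small Lie odd: the facts on `L₃(3)`

`z = diag(1,-1,-1)`, `C(z) = GL₂(3)`, `R = Q₈`, `S = SD₁₆` the similitudes of `x² + y²`.
-/

set_option autoImplicit false

namespace Cfsg.Agent.OddHalf.D4.Small.KL33

open Matrix Subgroup Cfsg

/-- `SL₃(3)` -/
abbrev SL33 : Type := Matrix.SpecialLinearGroup (Fin 3) (ZMod 3)

/-- the matrix -/
def mx (x : SL33) : Matrix (Fin 3) (Fin 3) (ZMod 3) := x.1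

theorem mx_mul (x y : SL33) : mx (x * y) = mx x * mx y := rfl

theorem mx_one : mx 1 = 1 := rfl

theorem mx_ext {x y : SL33} (h : mx x = mx y) : x = y := Subtype.ext h

theorem det_eq (x : SL33) : (mx x).det = 1 := x.2

theorem mx_mul_apply (x y : SL33) (i j : Fin 3) :
    mx (x * y) i j = mx x i 0 * mx y 0 j + mx x i 1 * mx y 1 j + mx x i 2 * mx y 2 j := by
  rw [mx_mul, Matrix.mul_apply, Fin.sum_univ_three]

/-- decidable form of the determinant condition -/
def Good (M : Matrix (Fin 3) (Fin 3) (ZMod 3)) : Prop :=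
  M 0 0 * M 1 1 * M 2 2 - M 0 0 * M 1 2 * M 2 1 - M 0 1 * M 1 0 * M 2 2 + M 0 1 * M 1 2 * M 2 0
    + M 0 2 * M 1 0 * M 2 1 - M 0 2 * M 1 1 * M 2 0 = 1

instance (M : Matrix (Fin 3) (Fin 3) (ZMod 3)) : Decidable (Good M) := by
  unfold Good; infer_instance

/-- the element -/
def Good.sl {M : Matrix (Fin 3) (Fin 3) (ZMod 3)} (h : Good M) : SL33 :=
  ⟨M, by rw [Matrix.det_fin_three]; exact h⟩

/-- `diag(1,-1,-1)` -/
def zM : Matrix (Fin 3) (Fin 3) (ZMod 3) := !![1, 0, 0; 0, -1, 0; 0, 0, -1]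
theorem z_good : Good zM := by decide +kernel
/-- `z` -/
def z : SL33 := z_good.sl
theorem mx_z : mx z = zM := rfl

theorem neg_self : ∀ x : ZMod 3, -x = x → x = 0 := by decide

theorem pattern {x : SL33} (h : x * z = z * x) :
    mx x 0 1 = 0 ∧ mx x 0 2 = 0 ∧ mx x 1 0 = 0 ∧ mx x 2 0 = 0 := by
  have h1 : mx x * zM = zM * mx x := congrArg mx h
  have e : ∀ i j, (mx x * zM) i j = (zM * mx x) i j := fun i j => by rw [h1]
  refine ⟨?_, ?_, ?_, ?_⟩
  · have h2 := e 0 1
    simp only [Matrix.mul_apply, Fin.sum_univ_three] at h2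
    apply neg_self
    simpa [zM] using h2
  · have h2 := e 0 2
    simp only [Matrix.mul_apply, Fin.sum_univ_three] at h2
    apply neg_self
    simpa [zM] using h2
  · have h2 := e 1 0
    simp only [Matrix.mul_apply, Fin.sum_univ_three] at h2
    apply neg_self
    simpa [zM] using h2.symm
  · have h2 := e 2 0
    simp only [Matrix.mul_apply, Fin.sum_univ_three] at h2
    apply neg_self
    simpa [zM] using h2.symm

theorem comm_iff {x : SL33} : x * z = z * x ↔ mx x 0 1 = 0 ∧ mx x 0 2 = 0 ∧ mx x 1 0 = 0 ∧ mx x 2 0 = 0 := by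
  constructor
  · exact pattern
  · rintro ⟨h01, h02, h10, h20⟩
    apply mx_ext
    rw [mx_mul, mx_mul, mx_z]
    refine Matrix.ext fun i j => ?_
    fin_cases i <;> fin_cases j <;> simp [zM, Matrix.mul_apply, Fin.sum_univ_three, h01, h02, h10, h20]

theorem comm_mul {x y : SL33} (hx : x * z = z * x) (hy : y * z = z * y) : x * y * z = z * (x * y) := by
  rw [mul_assoc, hy, ← mul_assoc, hx, mul_assoc]

/-- the determinant of the block -/
theorem block_det {x : SL33} (hx : x * z = z * x) :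
    mx x 0 0 * (mx x 1 1 * mx x 2 2 - mx x 1 2 * mx x 2 1) = 1 := by
  obtain ⟨h01, h02, h10, h20⟩ := pattern hx
  have hdet := det_eq x
  rw [Matrix.det_fin_three, h01, h02, h10, h20] at hdet
  linear_combination hdet

theorem d_eq_aux : ∀ d m : ZMod 3, d * m = 1 → d = m ∧ (d = 1 ∨ d = -1) := by decide

/-- block entries of a product -/
theorem mul_block {x y : SL33} (hx : x * z = z * x) :
    mx (x * y) 1 1 = mx x 1 1 * mx y 1 1 + mx x 1 2 * mx y 2 1 ∧
    mx (x * y) 1 2 = mx x 1 1 * mx y 1 2 + mx x 1 2 * mx y 2 2 ∧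
    mx (x * y) 2 1 = mx x 2 1 * mx y 1 1 + mx x 2 2 * mx y 2 1 ∧
    mx (x * y) 2 2 = mx x 2 1 * mx y 1 2 + mx x 2 2 * mx y 2 2 := by
  obtain ⟨h01, h02, h10, h20⟩ := pattern hx
  refine ⟨?_, ?_, ?_, ?_⟩ <;> rw [mx_mul_apply] <;> first | rw [h10] | rw [h20]
  all_goals ring

theorem ext_block {x y : SL33} (hx : x * z = z * x) (hy : y * z = z * y) (h11 : mx x 1 1 = mx y 1 1)
    (h12 : mx x 1 2 = mx y 1 2) (h21 : mx x 2 1 = mx y 2 1) (h22 : mx x 2 2 = mx y 2 2) : x = y := by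
  obtain ⟨x01, x02, x10, x20⟩ := pattern hx
  obtain ⟨y01, y02, y10, y20⟩ := pattern hy
  have dx := (d_eq_aux _ _ (block_det hx)).1
  have dy := (d_eq_aux _ _ (block_det hy)).1
  apply mx_ext
  refine Matrix.ext fun i j => ?_
  fin_cases i <;> fin_cases j
  · show mx x 0 0 = mx y 0 0
    rw [dx, dy, h11, h12, h21, h22]
  · exact x01.trans y01.symm
  · exact x02.trans y02.symm
  · exact x10.trans y10.symm
  · exact h11
  · exact h12
  · exact x20.trans y20.symm
  · exact h21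
  · exact h22

/-! ### `R = Q₈` -/

/-- block condition for `R` -/
def PR (a b c e : ZMod 3) : Prop := a * e - b * c = 1 ∧ (a + e = 0 ∨ (b = 0 ∧ c = 0 ∧ a = e))

instance (a b c e : ZMod 3) : Decidable (PR a b c e) := by unfold PR; infer_instance

/-- block condition for `S` -/
def PS (a b c e : ZMod 3) : Prop := a * a + b * b = c * c + e * e ∧ a * c + b * e = 0

instance (a b c e : ZMod 3) : Decidable (PS a b c e) := by unfold PS; infer_instance

theorem PR_mul : ∀ a b c e : ZMod 3, PR a b c e → ∀ a' b' c' e' : ZMod 3, PR a' b' c' e' →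
    PR (a * a' + b * c') (a * b' + b * e') (c * a' + e * c') (c * b' + e * e') := by decide +kernel

theorem PS_mul : ∀ a b c e : ZMod 3, PS a b c e → ∀ a' b' c' e' : ZMod 3, PS a' b' c' e' →
    PS (a * a' + b * c') (a * b' + b * e') (c * a' + e * c') (c * b' + e * e') := by decide +kernel

theorem PR_PS : ∀ a b c e : ZMod 3, PR a b c e → PS a b c e := by decide +kernel

theorem PS_sq : ∀ a b c e : ZMod 3, PS a b c e → a * e - b * c ≠ 0 →
    PR (a * a + b * c) (a * b + b * e) (c * a + e * c) (c * b + e * e) := by decide +kernel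

theorem PR_four : ∀ a b c e : ZMod 3, PR a b c e →
    (a * a + b * c) * (a * a + b * c) + (a * b + b * e) * (c * a + e * c) = 1 ∧
    (a * a + b * c) * (a * b + b * e) + (a * b + b * e) * (c * b + e * e) = 0 ∧
    (c * a + e * c) * (a * a + b * c) + (c * b + e * e) * (c * a + e * c) = 0 ∧
    (c * a + e * c) * (a * b + b * e) + (c * b + e * e) * (c * b + e * e) = 1 := by decide +kernel

/-- membership in `R` -/
def InR (x : SL33) : Prop := x * z = z * x ∧ PR (mx x 1 1) (mx x 1 2) (mx x 2 1) (mx x 2 2)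

/-- membership in `S` -/
def InS (x : SL33) : Prop := x * z = z * x ∧ PS (mx x 1 1) (mx x 1 2) (mx x 2 1) (mx x 2 2)

theorem InR.mul {x y : SL33} (hx : InR x) (hy : InR y) : InR (x * y) := by
  refine ⟨comm_mul hx.1 hy.1, ?_⟩
  obtain ⟨h1, h2, h3, h4⟩ := mul_block (y := y) hx.1
  rw [h1, h2, h3, h4]
  exact PR_mul _ _ _ _ hx.2 _ _ _ _ hy.2

theorem InS.mul {x y : SL33} (hx : InS x) (hy : InS y) : InS (x * y) := by
  refine ⟨comm_mul hx.1 hy.1, ?_⟩
  obtain ⟨h1, h2, h3, h4⟩ := mul_block (y := y) hx.1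
  rw [h1, h2, h3, h4]
  exact PS_mul _ _ _ _ hx.2 _ _ _ _ hy.2

theorem InR.inS {x : SL33} (hx : InR x) : InS x := ⟨hx.1, PR_PS _ _ _ _ hx.2⟩

theorem InS.sq {x : SL33} (hx : InS x) : InR (x * x) := by
  refine ⟨comm_mul hx.1 hx.1, ?_⟩
  obtain ⟨h1, h2, h3, h4⟩ := mul_block (y := x) hx.1
  rw [h1, h2, h3, h4]
  refine PS_sq _ _ _ _ hx.2 ?_
  intro h
  have h5 := block_det hx.1
  rw [h, mul_zero] at h5
  exact absurd h5 (by decide)

theorem one_comm : (1 : SL33) * z = z * 1 := by rw [one_mul, mul_one]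

theorem InR.four {x : SL33} (hx : InR x) : x * x * (x * x) = 1 := by
  have hxx := comm_mul hx.1 hx.1
  obtain ⟨h1, h2, h3, h4⟩ := mul_block (y := x) hx.1
  obtain ⟨k1, k2, k3, k4⟩ := mul_block (y := x * x) hxx
  obtain ⟨f1, f2, f3, f4⟩ := PR_four _ _ _ _ hx.2
  refine ext_block (comm_mul hxx hxx) one_comm ?_ ?_ ?_ ?_
  · rw [k1, h1, h2, h3]; exact f1
  · rw [k2, h1, h2, h4]; exact f2
  · rw [k3, h3, h1, h4]; exact f3
  · rw [k4, h3, h2, h4]; exact f4

theorem InS.eight {x : SL33} (hx : InS x) : x ^ 8 = 1 := by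
  have h := hx.sq.four
  rw [← h]
  simp only [pow_succ, pow_zero, one_mul, mul_assoc]

/-- `R` -/
def R : Subgroup SL33 where
  carrier := {x | InR x}
  mul_mem' := InR.mul
  one_mem' := ⟨one_comm, by decide +kernel⟩
  inv_mem' := by
    intro x hx
    have h1 : InR x := hx
    have h2 : x⁻¹ = x * x * x := by
      have h3 := h1.four
      rw [inv_eq_iff_mul_eq_one, ← h3]; group
    show InR x⁻¹
    rw [h2]
    exact (h1.mul h1).mul h1

/-- `S` -/
def S : Subgroup SL33 where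
  carrier := {x | InS x}
  mul_mem' := InS.mul
  one_mem' := ⟨one_comm, by decide +kernel⟩
  inv_mem' := by
    intro x hx
    have h1 : InS x := hx
    have h2 : x⁻¹ = x * x * x * x * x * x * x := by
      have h3 := h1.eight
      rw [inv_eq_iff_mul_eq_one, ← h3]
      simp only [pow_succ, pow_zero, one_mul, mul_assoc]
    show InS x⁻¹
    rw [h2]
    exact (((((h1.mul h1).mul h1).mul h1).mul h1).mul h1).mul h1

theorem isPGroup_S : IsPGroup 2 ↥S := by
  rintro ⟨x, hx⟩
  exact ⟨3, Subtype.ext (InS.eight hx)⟩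

/-- the nonzero vectors -/
def vc (k : Fin 8) : ZMod 3 × ZMod 3 :=
  ![(1, 0), (-1, 0), (0, 1), (0, -1), (1, 1), (1, -1), (-1, 1), (-1, -1)] k

/-- signs -/
def sg (s : Bool) : ZMod 3 := if s then 1 else -1

/-- the elements of `S` -/
def sm (k : Fin 8) (s : Bool) : Matrix (Fin 3) (Fin 3) (ZMod 3) :=
  !![sg s * ((vc k).1 * (vc k).1 + (vc k).2 * (vc k).2), 0, 0; 0, (vc k).1, (vc k).2;
    0, -(sg s * (vc k).2), sg s * (vc k).1]

theorem sm_good : ∀ k : Fin 8, ∀ s : Bool, Good (sm k s) := by decide +kernel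

theorem sm_PS : ∀ k : Fin 8, ∀ s : Bool, PS (sm k s 1 1) (sm k s 1 2) (sm k s 2 1) (sm k s 2 2) := by
  decide +kernel

theorem sm_inj : ∀ k : Fin 8, ∀ s : Bool, ∀ k' : Fin 8, ∀ s' : Bool,
    sm k s 1 1 = sm k' s' 1 1 → sm k s 1 2 = sm k' s' 1 2 → sm k s 2 1 = sm k' s' 2 1 →
    sm k s 2 2 = sm k' s' 2 2 → k = k' ∧ s = s' := by decide +kernel

theorem card_S : 16 ≤ Nat.card ↥S := by
  let f : Fin 8 × Bool → ↥S := fun p => ⟨(sm_good p.1 p.2).sl, comm_iff.mpr ⟨rfl, rfl, rfl, rfl⟩, sm_PS p.1 p.2⟩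
  have hf : Function.Injective f := by
    rintro ⟨k, s⟩ ⟨k', s'⟩ h
    have h1 : mx (sm_good k s).sl = mx (sm_good k' s').sl := congrArg (fun x : ↥S => mx (x : SL33)) h
    have h2 : sm k s = sm k' s' := h1
    obtain ⟨h3, h4⟩ := sm_inj k s k' s' (by rw [h2]) (by rw [h2]) (by rw [h2]) (by rw [h2])
    rw [h3, h4]
  have h1 := Nat.card_le_card_of_injective f hf
  have h2 : Nat.card (Fin 8 × Bool) = 16 := by simp
  rwa [h2] at h1

theorem center_eq {x : SL33} (hx : ∀ g : SL33, x * g = g * x) : x = 1 :=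
  GH.L3S.ModelL33.eq_one_of_center hx

/-- `K ≃* SL₃(3)` -/
theorem exists_equiv {K : Type*} [Group K] {F : Type*} [Field F] [Fintype F] (hF : Fintype.card F = 3)
    (e : K ≃* Matrix.ProjectiveSpecialLinearGroup (Fin 3) F) : Nonempty (K ≃* SL33) := by
  have e0 : ZMod 3 ≃+* F := ZMod.ringEquivOfPrime F Nat.prime_three hF
  have e1 : Matrix.SpecialLinearGroup (Fin 3) F ≃* SL33 := (GH.L3S.ModelL33.slEquiv e0).symm
  have hc : ∀ g : Matrix.SpecialLinearGroup (Fin 3) F, g ∈ Subgroup.center _ → g = 1 := by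
    intro g hg
    apply e1.injective
    rw [map_one]
    apply center_eq
    intro k
    have h1 := Subgroup.mem_center_iff.mp hg (e1.symm k)
    apply e1.symm.injective
    rw [map_mul, map_mul, e1.symm_apply_apply]
    exact h1.symm
  have h2 : Function.Bijective (ClassicalGeometry.AutPSL.Root.pr : Matrix.SpecialLinearGroup (Fin 3) F → _) := by
    refine ⟨fun a b h => ?_, ClassicalGeometry.AutPSL.Root.pr_surjective⟩
    have h1 : a⁻¹ * b ∈ Subgroup.center (Matrix.SpecialLinearGroup (Fin 3) F) :=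
      QuotientGroup.eq.mp h
    exact inv_mul_eq_one.mp (hc _ h1)
  have e2 : Matrix.SpecialLinearGroup (Fin 3) F ≃* Matrix.ProjectiveSpecialLinearGroup (Fin 3) F :=
    MulEquiv.ofBijective ClassicalGeometry.AutPSL.Root.pr h2
  exact ⟨e.trans (e2.symm.trans e1)⟩

theorem card_SL : Nat.card SL33 = 5616 := by
  obtain ⟨e⟩ := exists_equiv (K := Matrix.ProjectiveSpecialLinearGroup (Fin 3) (ZMod 3)) (F := ZMod 3)
    (ZMod.card 3) (MulEquiv.refl _)
  rw [← Cfsg.Agent.SmallSimple.PSLFacts.card_psl_three_three (F := ZMod 3) (ZMod.card 3)]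
  exact (Nat.card_congr e.toEquiv).symm

theorem odd_S : Odd S.index :=
  odd_index_of isPGroup_S (n := 4) (m := 351) (by rw [card_SL]; norm_num) (by decide) card_S

/-! ### `Core` -/

/-- `i` -/
def iM : Matrix (Fin 3) (Fin 3) (ZMod 3) := !![1, 0, 0; 0, 0, 1; 0, -1, 0]
/-- `j` -/
def jM : Matrix (Fin 3) (Fin 3) (ZMod 3) := !![1, 0, 0; 0, 1, 1; 0, 1, -1]
/-- order 3 -/
def gM : Matrix (Fin 3) (Fin 3) (ZMod 3) := !![1, 0, 0; 0, 1, 1; 0, 0, 1]
/-- the second involution -/
def wM : Matrix (Fin 3) (Fin 3) (ZMod 3) := !![-1, 0, 0; 0, 1, 0; 0, 0, -1]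

theorem i_good : Good iM := by decide +kernel
theorem j_good : Good jM := by decide +kernel
theorem g_good : Good gM := by decide +kernel
theorem w_good : Good wM := by decide +kernel

/-- `i` -/
def gi : SL33 := i_good.sl
/-- `j` -/
def gj : SL33 := j_good.sl
/-- order 3 -/
def gg : SL33 := g_good.sl
/-- the second involution -/
def w : SL33 := w_good.sl

theorem gi_z : gi * z = z * gi := comm_iff.mpr ⟨rfl, rfl, rfl, rfl⟩
theorem gj_z : gj * z = z * gj := comm_iff.mpr ⟨rfl, rfl, rfl, rfl⟩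
theorem gg_z : gg * z = z * gg := comm_iff.mpr ⟨rfl, rfl, rfl, rfl⟩

theorem gi_R : gi ∈ R := by
  refine ⟨gi_z, ?_⟩
  show PR 0 1 (-1) 0
  decide +kernel
theorem gj_R : gj ∈ R := by
  refine ⟨gj_z, ?_⟩
  show PR 1 1 1 (-1)
  decide +kernel
theorem z_R : z ∈ R := by
  refine ⟨rfl, ?_⟩
  show PR (-1) 0 0 (-1)
  decide +kernel
theorem w_S : w ∈ S := by
  refine ⟨comm_iff.mpr ⟨rfl, rfl, rfl, rfl⟩, ?_⟩
  show PS 1 0 0 (-1)
  decide +kernel

theorem sc_aux : ∀ a b c e : ZMod 3, a * 0 + b * -1 = 0 * a + 1 * c → a * 1 + b * 0 = 0 * b + 1 * e →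
    a * 1 + b * 1 = 1 * a + 1 * c → a * 1 + b * -1 = 1 * b + 1 * e → b = 0 ∧ c = 0 ∧ a = e := by decide +kernel

theorem scalar_of {y : SL33} (hy : y * z = z * y) (hi : y * gi = gi * y) (hj : y * gj = gj * y) :
    mx y 1 2 = 0 ∧ mx y 2 1 = 0 ∧ mx y 1 1 = mx y 2 2 := by
  obtain ⟨a1, a2, a3, a4⟩ := mul_block (y := gi) hy
  obtain ⟨b1, b2, b3, b4⟩ := mul_block (y := y) gi_z
  obtain ⟨c1, c2, c3, c4⟩ := mul_block (y := gj) hy
  obtain ⟨d1, d2, d3, d4⟩ := mul_block (y := y) gj_z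
  rw [hi] at a1 a2
  rw [hj] at c1 c2
  exact sc_aux _ _ _ _ (a1.symm.trans b1) (a2.symm.trans b2) (c1.symm.trans d1) (c2.symm.trans d2)

theorem comm_scalar {x p : SL33} (hx : x * z = z * x) (hp : p * z = z * p) (h12 : mx x 1 2 = 0)
    (h21 : mx x 2 1 = 0) (h11 : mx x 1 1 = mx x 2 2) : x * p = p * x := by
  obtain ⟨a1, a2, a3, a4⟩ := mul_block (y := p) hx
  obtain ⟨b1, b2, b3, b4⟩ := mul_block (y := x) hp
  refine ext_block (comm_mul hx hp) (comm_mul hp hx) ?_ ?_ ?_ ?_
  · rw [a1, b1, h12, h21]; ring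
  · rw [a2, b2, h12, h11]; ring
  · rw [a3, b3, h21, h11]; ring
  · rw [a4, b4, h12, h21]; ring

theorem un_aux : ∀ a : ZMod 3, a * a = 1 → a = 1 ∨ a = -1 := by decide

theorem uniq {x : SL33} (hx : x * z = z * x) (h2 : x * x = 1) (h1 : x ≠ 1) (hi : x * gi = gi * x)
    (hj : x * gj = gj * x) : x = z := by
  obtain ⟨s12, s21, s11⟩ := scalar_of hx hi hj
  obtain ⟨a1, -, -, -⟩ := mul_block (y := x) hx
  rw [h2, s12, s21] at a1
  have h3 : mx x 1 1 * mx x 1 1 = 1 := by
    have h4 : mx (1 : SL33) 1 1 = 1 := rfl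
    rw [h4] at a1
    linear_combination -a1
  rcases un_aux _ h3 with h | h
  · exact absurd (ext_block hx one_comm h s12 s21 (s11.symm.trans h)) h1
  · exact ext_block hx rfl h s12 s21 (s11.symm.trans h)

theorem core_aux : ∀ a b c e : ZMod 3, a * e - b * c ≠ 0 → PS a b c e →
    PS (a + c) (b + e - (a + c)) c (e - c) → PR a b c e := by decide +kernel

theorem core {x : SL33} (hx : InS x) (h : InS (gg * x * gg⁻¹)) : InR x := by
  refine ⟨hx.1, core_aux _ _ _ _ ?_ hx.2 ?_⟩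
  · intro h1
    have h5 := block_det hx.1
    rw [h1, mul_zero] at h5
    exact absurd h5 (by decide)
  · set y := gg * x * gg⁻¹ with hy
    have e : y * gg = gg * x := by rw [hy]; group
    obtain ⟨a1, a2, a3, a4⟩ := mul_block (y := gg) h.1
    obtain ⟨b1, b2, b3, b4⟩ := mul_block (y := x) gg_z
    rw [e] at a1 a2 a3 a4
    have g11 : mx gg 1 1 = 1 := rfl
    have g12 : mx gg 1 2 = 1 := rfl
    have g21 : mx gg 2 1 = 0 := rfl
    have g22 : mx gg 2 2 = 1 := rfl
    have e1 := a1.symm.trans b1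
    have e2 := a2.symm.trans b2
    have e3 := a3.symm.trans b3
    have e4 := a4.symm.trans b4
    rw [g11, g12, g21] at e1
    rw [g11, g12, g22] at e2
    rw [g11, g21, g22] at e3
    rw [g12, g21, g22] at e4
    have y11 : mx y 1 1 = mx x 1 1 + mx x 2 1 := by linear_combination e1
    have y12 : mx y 1 2 = mx x 1 2 + mx x 2 2 - (mx x 1 1 + mx x 2 1) := by linear_combination e2 - y11
    have y21 : mx y 2 1 = mx x 2 1 := by linear_combination e3
    have y22 : mx y 2 2 = mx x 2 2 - mx x 2 1 := by linear_combination e4 - y21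
    have h2 := h.2
    rw [y11, y12, y21, y22] at h2
    exact h2

theorem conj_R {g x : SL33} (hg : g * z = z * g) (hx : InR x) : InR (g * x * g⁻¹) := by
  have hgi : g⁻¹ * z = z * g⁻¹ := by
    calc g⁻¹ * z = g⁻¹ * (z * g) * g⁻¹ := by group
      _ = g⁻¹ * (g * z) * g⁻¹ := by rw [hg]
      _ = z * g⁻¹ := by group
  have hyc := comm_mul (comm_mul hg hx.1) hgi
  have hinv : mx g⁻¹ * mx g = 1 := by rw [← mx_mul, inv_mul_cancel, mx_one]
  have hde := hx.2.1
  have htr : (mx (g * x * g⁻¹)).trace = (mx x).trace := by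
    rw [mx_mul, mx_mul, Matrix.trace_mul_comm, ← mul_assoc, hinv, one_mul]
  set y := g * x * g⁻¹ with hy
  have e : y * g = g * x := by rw [hy]; group
  have h00 : mx y 0 0 = mx x 0 0 := by
    have e0 := congrArg (fun w => mx w 0 0) e
    simp only [mx_mul_apply] at e0
    rw [(pattern hyc).1, (pattern hyc).2.1, (pattern hg).1, (pattern hg).2.1] at e0
    have hn : mx g 0 0 ≠ 0 := by
      intro h
      have h5 := block_det hg
      rw [h, zero_mul] at h5
      exact absurd h5 (by decide)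
    have e1 : (mx y 0 0 - mx x 0 0) * mx g 0 0 = 0 := by linear_combination e0
    have := Fact.mk Nat.prime_three
    exact sub_eq_zero.mp ((mul_eq_zero.mp e1).resolve_right hn)
  have dx := (d_eq_aux _ _ (block_det hx.1)).1
  have dy := (d_eq_aux _ _ (block_det hyc)).1
  refine ⟨hyc, ?_, ?_⟩
  · rw [← dy, h00, dx]; exact hde
  · rcases hx.2.2 with h | ⟨h1, h2, h3⟩
    · left
      rw [Matrix.trace_fin_three, Matrix.trace_fin_three, h00] at htr
      linear_combination htr + h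
    · right
      have hc := comm_scalar hx.1 hg h1 h2 h3
      have h5 : y = x := by
        rw [hy, ← hc]; group
      rw [h5]
      exact ⟨h1, h2, h3⟩

theorem coreS : Core SL33 S R z where
  two := isPGroup_S
  odd := odd_S
  z2 := by
    apply mx_ext
    rw [mx_mul, mx_z, mx_one]
    decide +kernel
  z1 := by
    intro h
    have h1 : mx z 1 1 = mx 1 1 1 := by rw [h]
    have h2 : ((-1 : ZMod 3)) = 1 := h1
    exact absurd h2 (by decide +kernel)
  zR := z_R
  RS := fun x hx => InR.inS hx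
  zc := fun s hs => hs.1
  uniq := fun x hx h2 h1 hc => uniq hx.1 h2 h1 (hc _ (InR.inS gi_R)).symm (hc _ (InR.inS gj_R)).symm
  Rn := fun p hp r hr => conj_R hp hr
  core := fun x hx h => core hx (h _ gg_z)

theorem cent_R {x : SL33} (hx : x * z = z * x) (hr : ∀ r ∈ R, x * r = r * x) :
    x ∈ R ∧ ∀ p, p * z = z * p → x * p = p * x := by
  obtain ⟨s12, s21, s11⟩ := scalar_of hx (hr _ gi_R) (hr _ gj_R)
  refine ⟨⟨hx, ?_⟩, fun p hp => comm_scalar hx hp s12 s21 s11⟩
  rw [s12, s21, s11]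
  have h1 := block_det hx
  rw [s12, s21, s11] at h1
  have key : ∀ d a : ZMod 3, d * (a * a - 0 * 0) = 1 → PR a 0 0 a := by decide +kernel
  exact key _ _ h1

theorem q8_aux : ∀ a b c e : ZMod 3, PR a b c e →
    (a, b, c, e) ∈ [(1, 0, 0, 1), (-1, 0, 0, -1), (0, 1, -1, 0), (0, -1, 1, 0), (1, 1, 1, -1), (-1, -1, -1, 1),
      (1, -1, -1, -1), (-1, 1, 1, 1)] := by decide +kernel

theorem isQ : IsQ z R := by
  have ext4 : ∀ {q y : SL33}, InR q → y * z = z * y → (mx q 1 1, mx q 1 2, mx q 2 1, mx q 2 2) =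
      (mx y 1 1, mx y 1 2, mx y 2 1, mx y 2 2) → q = y := by
    intro q y hq hy h
    simp only [Prod.mk.injEq] at h
    exact ext_block hq.1 hy h.1 h.2.1 h.2.2.1 h.2.2.2
  refine IsQ.mk' (i := gi) (j := gj) coreS.z2 coreS.z1 gi_R gj_R ?_ ?_ ?_ ?_
  · apply mx_ext
    rw [mx_mul, mx_z]
    show iM * iM = zM
    decide +kernel
  · apply mx_ext
    rw [mx_mul, mx_z]
    show jM * jM = zM
    decide +kernel
  · apply mx_ext
    rw [mx_mul, mx_mul, mx_mul, mx_z]
    show jM * iM = iM * jM * zM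
    decide +kernel
  · intro q hq
    have hq' : InR q := hq
    have h8 := q8_aux _ _ _ _ hq'.2
    simp only [List.mem_cons, List.not_mem_nil, or_false] at h8
    rcases h8 with h | h | h | h | h | h | h | h
    · left; exact ext4 hq' one_comm h
    · right; left; exact ext4 hq' rfl h
    · right; right; left; exact ext4 hq' gi_z h
    · right; right; right; left
      refine ext4 hq' (comm_mul gi_z rfl) (h.trans ?_)
      show _ = ((iM * zM) 1 1, (iM * zM) 1 2, (iM * zM) 2 1, (iM * zM) 2 2)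
      decide +kernel
    · right; right; right; right; left; exact ext4 hq' gj_z h
    · right; right; right; right; right; left
      refine ext4 hq' (comm_mul gj_z rfl) (h.trans ?_)
      show _ = ((jM * zM) 1 1, (jM * zM) 1 2, (jM * zM) 2 1, (jM * zM) 2 2)
      decide +kernel
    · right; right; right; right; right; right; left
      refine ext4 hq' (comm_mul gi_z gj_z) (h.trans ?_)
      show _ = ((iM * jM) 1 1, (iM * jM) 1 2, (iM * jM) 2 1, (iM * jM) 2 2)
      decide +kernel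
    · right; right; right; right; right; right; right
      refine ext4 hq' (comm_mul (comm_mul gi_z gj_z) rfl) (h.trans ?_)
      show _ = ((iM * jM * zM) 1 1, (iM * jM * zM) 1 2, (iM * jM * zM) 2 1, (iM * jM * zM) 2 2)
      decide +kernel

theorem sheet : Sheet SL33 S R z :=
  Sheet.of_Q coreS.sheet0 isQ (fun p hp hr => (cent_R hp hr).1)

/-! ### generation -/

theorem tv_comm {x : SL33} {i j : Fin 3} (hij : i ≠ j) (c : ZMod 3)
    (h : mx x * Matrix.single i j c = Matrix.single i j c * mx x) :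
    Matrix.SpecialLinearGroup.transvection hij c * x = x * Matrix.SpecialLinearGroup.transvection hij c := by
  apply mx_ext
  rw [mx_mul, mx_mul]
  show (1 + Matrix.single i j c) * mx x = mx x * (1 + Matrix.single i j c)
  rw [add_mul, mul_add, one_mul, mul_one, h]

theorem d1 : ∀ c : ZMod 3, zM * Matrix.single 1 2 c = Matrix.single 1 2 c * zM ∧
    zM * Matrix.single 2 1 c = Matrix.single 2 1 c * zM ∧
    wM * Matrix.single 0 2 c = Matrix.single 0 2 c * wM ∧
    wM * Matrix.single 2 0 c = Matrix.single 2 0 c * wM := by decide +kernel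

theorem cm : ∀ c : ZMod 3, (1 + Matrix.single (0 : Fin 3) (1 : Fin 3) c) * (1 + Matrix.single 2 1 1) *
    (1 + Matrix.single 0 2 c) = (1 + Matrix.single 0 2 c) * (1 + Matrix.single 2 1 (1 : ZMod 3)) := by
  decide +kernel

theorem cm' : ∀ c : ZMod 3, (1 + Matrix.single (1 : Fin 3) (0 : Fin 3) c) * (1 + Matrix.single 2 0 1) *
    (1 + Matrix.single 1 2 c) = (1 + Matrix.single 1 2 c) * (1 + Matrix.single 2 0 (1 : ZMod 3)) := by
  decide +kernel

theorem gen (H : Subgroup SL33) (h1 : ∀ p, p * z = z * p → p ∈ H) (h2 : ∀ p, p * w = w * p → p ∈ H) :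
    H = ⊤ := by
  have := Fact.mk Nat.prime_three
  have n12 : (1 : Fin 3) ≠ 2 := by decide
  have n21 : (2 : Fin 3) ≠ 1 := by decide
  have n02 : (0 : Fin 3) ≠ 2 := by decide
  have n20 : (2 : Fin 3) ≠ 0 := by decide
  have m12 : ∀ c, Matrix.SpecialLinearGroup.transvection n12 c ∈ H := fun c => h1 _ (tv_comm n12 c (d1 c).1)
  have m21 : ∀ c, Matrix.SpecialLinearGroup.transvection n21 c ∈ H := fun c => h1 _ (tv_comm n21 c (d1 c).2.1)
  have m02 : ∀ c, Matrix.SpecialLinearGroup.transvection n02 c ∈ H := fun c => h2 _ (tv_comm n02 c (d1 c).2.2.1)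
  have m20 : ∀ c, Matrix.SpecialLinearGroup.transvection n20 c ∈ H := fun c => h2 _ (tv_comm n20 c (d1 c).2.2.2)
  rw [eq_top_iff, ← LieClassical.SLGen.closure_transvections, closure_le]
  rintro _ ⟨i, j, hij, c, rfl⟩
  have hcases : ∀ i j : Fin 3, i ≠ j → (i = 1 ∧ j = 2) ∨ (i = 2 ∧ j = 1) ∨ (i = 0 ∧ j = 2) ∨ (i = 2 ∧ j = 0) ∨
      (i = 0 ∧ j = 1) ∨ (i = 1 ∧ j = 0) := by decide
  rcases hcases i j hij with ⟨rfl, rfl⟩ | ⟨rfl, rfl⟩ | ⟨rfl, rfl⟩ | ⟨rfl, rfl⟩ | ⟨rfl, rfl⟩ | ⟨rfl, rfl⟩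
  · exact m12 c
  · exact m21 c
  · exact m02 c
  · exact m20 c
  · have h3 : Matrix.SpecialLinearGroup.transvection hij c = Matrix.SpecialLinearGroup.transvection n02 c *
        Matrix.SpecialLinearGroup.transvection n21 1 * (Matrix.SpecialLinearGroup.transvection n02 c)⁻¹ *
        (Matrix.SpecialLinearGroup.transvection n21 1)⁻¹ := by
      rw [eq_mul_inv_iff_mul_eq, eq_mul_inv_iff_mul_eq]
      apply mx_ext
      exact cm c
    show Matrix.SpecialLinearGroup.transvection hij c ∈ H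
    rw [h3]
    exact H.mul_mem (H.mul_mem (H.mul_mem (m02 c) (m21 1)) (H.inv_mem (m02 c))) (H.inv_mem (m21 1))
  · have h3 : Matrix.SpecialLinearGroup.transvection hij c = Matrix.SpecialLinearGroup.transvection n12 c *
        Matrix.SpecialLinearGroup.transvection n20 1 * (Matrix.SpecialLinearGroup.transvection n12 c)⁻¹ *
        (Matrix.SpecialLinearGroup.transvection n20 1)⁻¹ := by
      rw [eq_mul_inv_iff_mul_eq, eq_mul_inv_iff_mul_eq]
      apply mx_ext
      exact cm' c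
    show Matrix.SpecialLinearGroup.transvection hij c ∈ H
    rw [h3]
    exact H.mul_mem (H.mul_mem (H.mul_mem (m12 c) (m20 1)) (H.inv_mem (m12 c))) (H.inv_mem (m20 1))

/-- **`L₃(3)`** -/
theorem row : Row SL33 := by
  have w2 : w * w = 1 := by
    apply mx_ext
    rw [mx_mul, mx_one]
    show wM * wM = 1
    decide +kernel
  have w1 : w ≠ 1 := by
    intro h
    have h1 : mx w 0 0 = mx 1 0 0 := by rw [h]
    have h2 : ((-1 : ZMod 3)) = 1 := h1
    exact absurd h2 (by decide +kernel)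
  refine ⟨HasSheet.of_one (S := coreS.syl) sheet, FOneK.of_one coreS.syl ?_,
    NoSEK.of_gen (S := coreS.syl) (coreS.RS coreS.zR) w_S coreS.z2 coreS.z1 w2 w1 gen⟩
  intro α hα
  have hP := coreS.fix (fun x hx hr => cent_R hx hr) hα
  have hz : orderOf z = 2 := by
    refine orderOf_eq_prime ?_ coreS.z1
    rw [pow_two]; exact coreS.z2
  rcases GH.L3S.ModelL33.sdf_S.cent z hz α (fun y hy => hP y hy) with h | h
  · refine ⟨1, one_mem _, fun s _ => by rw [mul_one, one_mul], fun x => ?_⟩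
    rw [h]; simp
  · refine ⟨z, coreS.RS coreS.zR, fun s hs => coreS.zc s hs, fun x => ?_⟩
    rw [h]; rfl

end Cfsg.Agent.OddHalf.D4.Small.KL33

namespace Cfsg.Agent.OddHalf.D4.Small

/-- the facts on `K ≅ L₃(3)` -/
theorem row_l33 {K : Type*} [Group K] {F : Type*} [Field F] [Fintype F] (hF : Fintype.card F = 3)
    (e : K ≃* Matrix.ProjectiveSpecialLinearGroup (Fin 3) F) : Row K := by
  obtain ⟨f⟩ := KL33.exists_equiv hF e
  exact KL33.row.of_equiv f.symm

end Cfsg.Agent.OddHalf.D4.Small
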