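import Mathlib
import Cfsg.Agent.OddHalf.D4.Small.KU33
import Cfsg.Agent.OddHalf.Small.PSp43
import Cfsg.Agent.S0765
import Cfsg.Agent.ClassicalGeometry.SympBasic

/-!
# ODD, D4, small Lie odd: the facts on `PSp₄(3)`

`z = (1, -1)`, `C(z) = (SL₂(3) * SL₂(3)).2`, `R = Q₈ * Q₈`, `S = R⟨t⟩`, `A = 2⁴`. Normal form of the elements of
`C(z)`: `e p q` and `t * e p q`.
-/

set_option autoImplicit false

namespace Cfsg.Agent.OddHalf.D4.Small.KPSp43

open Matrix Subgroup Cfsg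
open Cfsg.Agent.Lib.FieldThree (F3)
open Cfsg.Agent.SmallSimple.S1000.Order25920PSp (Mat Sp π π_mul π_one π_eq π_ne_one m1 m2 m3 m4 Q0 gens)
open Cfsg.Agent.OddHalf.Small.PSp43 (bm bm_mul bm_inj exists_bm det_of_mem J_eq bm_transpose m4_conj m43 comm_or
  eq_or_of_π_eq inv_eq_of_mul bm_mul_inv m4_inv' m4_eq)

/-! ### pairs of `2 × 2` matrices -/

/-- `2 × 2` matrices -/
abbrev P4 := F3 × F3 × F3 × F3

/-- product -/
def ml (p q : P4) : P4 := (p.1 * q.1 + p.2.1 * q.2.2.1, p.1 * q.2.1 + p.2.1 * q.2.2.2,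
  p.2.2.1 * q.1 + p.2.2.2 * q.2.2.1, p.2.2.1 * q.2.1 + p.2.2.2 * q.2.2.2)
/-- determinant -/
def dt (p : P4) : F3 := p.1 * p.2.2.2 - p.2.1 * p.2.2.1
/-- negative -/
def ng (p : P4) : P4 := (-p.1, -p.2.1, -p.2.2.1, -p.2.2.2)
/-- inverse -/
def iv (p : P4) : P4 := (p.2.2.2, -p.2.1, -p.2.2.1, p.1)
/-- one -/
def o4 : P4 := (1, 0, 0, 1)
/-- `i` -/
def i4 : P4 := (0, -1, 1, 0)
/-- `j` -/
def j4 : P4 := (1, 1, 1, -1)
/-- `k` -/
def k4 : P4 := ml i4 j4
/-- order 3 -/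
def d4 : P4 := (1, 1, 0, 1)

/-- `Q₈` -/
def L8 : List P4 := [o4, ng o4, i4, ng i4, j4, ng j4, k4, ng k4]

theorem dt_ml_aux : ∀ a b c d a' b' c' d' : F3, dt (a, b, c, d) = 1 → dt (a', b', c', d') = 1 →
    dt (ml (a, b, c, d) (a', b', c', d')) = 1 := by
  intro a b c d a' b' c' d' h h'
  have h1 : a * d - b * c = 1 := h
  have h2 : a' * d' - b' * c' = 1 := h'
  show (a * a' + b * c') * (c * b' + d * d') - (a * b' + b * d') * (c * a' + d * c') = 1
  linear_combination (a' * d' - b' * c') * h1 + h2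

theorem dt_ml {p q : P4} (hp : dt p = 1) (hq : dt q = 1) : dt (ml p q) = 1 := by
  obtain ⟨a, b, c, d⟩ := p
  obtain ⟨a', b', c', d'⟩ := q
  exact dt_ml_aux _ _ _ _ _ _ _ _ hp hq

theorem dt_iv {p : P4} (hp : dt p = 1) : dt (iv p) = 1 := by
  obtain ⟨a, b, c, d⟩ := p
  have h1 : a * d - b * c = 1 := hp
  show d * a - -b * -c = 1
  linear_combination h1

theorem dt_ng {p : P4} (hp : dt p = 1) : dt (ng p) = 1 := by
  obtain ⟨a, b, c, d⟩ := p
  have h1 : a * d - b * c = 1 := hp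
  show -a * -d - -b * -c = 1
  linear_combination h1

theorem ml_assoc (p q r : P4) : ml (ml p q) r = ml p (ml q r) := by
  simp only [ml, Prod.mk.injEq]
  refine ⟨?_, ?_, ?_, ?_⟩ <;> ring

theorem ml_o (p : P4) : ml p o4 = p := by
  obtain ⟨a, b, c, d⟩ := p
  simp [ml, o4]

theorem o_ml (p : P4) : ml o4 p = p := by
  obtain ⟨a, b, c, d⟩ := p
  simp [ml, o4]

theorem ml_iv {p : P4} (hp : dt p = 1) : ml p (iv p) = o4 := by
  obtain ⟨a, b, c, d⟩ := p
  have h1 : a * d - b * c = 1 := hp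
  simp only [ml, iv, o4, Prod.mk.injEq]
  refine ⟨?_, ?_, ?_, ?_⟩
  · linear_combination h1
  · ring
  · ring
  · linear_combination h1

theorem dt_o : dt o4 = 1 := by decide
theorem dt_i : dt i4 = 1 := by decide
theorem dt_j : dt j4 = 1 := by decide
theorem dt_k : dt k4 = 1 := by decide
theorem dt_d : dt d4 = 1 := by decide

theorem L_dt : ∀ p ∈ L8, dt p = 1 := by decide +kernel
theorem L_ml : ∀ p ∈ L8, ∀ q ∈ L8, ml p q ∈ L8 := by decide +kernel
theorem L_iv : ∀ p ∈ L8, iv p ∈ L8 := by decide +kernel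
theorem L_ng : ∀ p ∈ L8, ng p ∈ L8 := by decide +kernel
theorem L_o : o4 ∈ L8 := by decide +kernel
theorem L_i : i4 ∈ L8 := by decide +kernel
theorem L_j : j4 ∈ L8 := by decide +kernel
theorem L_k : k4 ∈ L8 := by decide +kernel
theorem L_four : ∀ p ∈ L8, ml (ml p p) (ml p p) = o4 := by decide +kernel
set_option synthInstance.maxHeartbeats 400000 in
set_option synthInstance.maxSize 4000 in
theorem L_conj_aux : ∀ a b c d : F3, dt (a, b, c, d) = 1 → ∀ r ∈ L8,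
    ml (ml (a, b, c, d) r) (iv (a, b, c, d)) ∈ L8 := by decide +kernel
theorem L_conj {p r : P4} (hp : dt p = 1) (hr : r ∈ L8) : ml (ml p r) (iv p) ∈ L8 := by
  obtain ⟨a, b, c, d⟩ := p
  exact L_conj_aux _ _ _ _ hp r hr

theorem ng_ne_aux : ∀ a b c d : F3, dt (a, b, c, d) = 1 → (a, b, c, d) ≠ ng (a, b, c, d) := by decide +kernel
theorem ng_ne {p : P4} (hp : dt p = 1) : p ≠ ng p := by
  obtain ⟨a, b, c, d⟩ := p
  exact ng_ne_aux _ _ _ _ hp

theorem ng_ng (p : P4) : ng (ng p) = p := by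
  obtain ⟨a, b, c, d⟩ := p
  simp [ng]

set_option synthInstance.maxHeartbeats 400000 in
set_option synthInstance.maxSize 4000 in
theorem sc_aux : ∀ a b c d : F3, dt (a, b, c, d) = 1 → ml (a, b, c, d) i4 = ml i4 (a, b, c, d) →
    ml (a, b, c, d) j4 = ml j4 (a, b, c, d) → (a, b, c, d) = o4 ∨ (a, b, c, d) = ng o4 := by decide +kernel
theorem sc {p : P4} (hp : dt p = 1) (hi : ml p i4 = ml i4 p) (hj : ml p j4 = ml j4 p) : p = o4 ∨ p = ng o4 := by
  obtain ⟨a, b, c, d⟩ := p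
  exact sc_aux _ _ _ _ hp hi hj

theorem mi_aux : ∀ a b c d : F3, dt (a, b, c, d) = 1 → ml (a, b, c, d) i4 ≠ (a, b, c, d) ∧
    ml (a, b, c, d) i4 ≠ ng (a, b, c, d) := by decide +kernel
theorem mi {p : P4} (hp : dt p = 1) : ml p i4 ≠ p ∧ ml p i4 ≠ ng p := by
  obtain ⟨a, b, c, d⟩ := p
  exact mi_aux _ _ _ _ hp

set_option synthInstance.maxHeartbeats 400000 in
set_option synthInstance.maxSize 4000 in
theorem nq_aux : ∀ a b c d : F3, dt (a, b, c, d) = 1 →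
    (ml (a, b, c, d) i4 = ml i4 (a, b, c, d) ∨ ml (a, b, c, d) i4 = ng (ml i4 (a, b, c, d))) →
    (ml (a, b, c, d) j4 = ml j4 (a, b, c, d) ∨ ml (a, b, c, d) j4 = ng (ml j4 (a, b, c, d))) →
    (a, b, c, d) ∈ L8 := by decide +kernel
theorem nq {p : P4} (hp : dt p = 1) (hi : ml p i4 = ml i4 p ∨ ml p i4 = ng (ml i4 p))
    (hj : ml p j4 = ml j4 p ∨ ml p j4 = ng (ml j4 p)) : p ∈ L8 := by
  obtain ⟨a, b, c, d⟩ := p
  exact nq_aux _ _ _ _ hp hi hj

/-! ### the block matrices -/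

/-- the block matrix -/
def mk (p q : P4) : Mat := bm ![p.1, q.1] ![p.2.1, q.2.1] ![p.2.2.1, q.2.2.1] ![p.2.2.2, q.2.2.2]

theorem mk_mul (p q p' q' : P4) : mk p q * mk p' q' = mk (ml p p') (ml q q') := by
  unfold mk
  rw [bm_mul]
  congr 1 <;> funext i <;> fin_cases i <;> rfl

theorem mk_inj {p q p' q' : P4} (h : mk p q = mk p' q') : p = p' ∧ q = q' := by
  obtain ⟨h1, h2, h3, h4⟩ := bm_inj h
  refine ⟨?_, ?_⟩
  · exact Prod.ext (congrFun h1 0) (Prod.ext (congrFun h2 0) (Prod.ext (congrFun h3 0) (congrFun h4 0)))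
  · exact Prod.ext (congrFun h1 1) (Prod.ext (congrFun h2 1) (Prod.ext (congrFun h3 1) (congrFun h4 1)))

theorem mk_neg (p q : P4) : -(mk p q) = mk (ng p) (ng q) := by
  unfold mk bm
  rw [fromBlocks_neg, diagonal_neg, diagonal_neg, diagonal_neg, diagonal_neg]
  congr 2 <;> funext i <;> fin_cases i <;> rfl

theorem m4_mk (p q : P4) : (m4 : Mat) * mk p q * m4 = mk q p := by
  unfold mk
  rw [m4_conj]
  congr 1 <;> funext i <;> fin_cases i <;> rfl

theorem m3_mk : (m3 : Mat) = mk o4 (ng o4) := by decide +kernel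
theorem m1_mk : (m1 : Mat) = mk i4 i4 := by decide +kernel
theorem m2_mk : (m2 : Mat) = mk j4 j4 := by decide +kernel
theorem one_mk : (1 : Mat) = mk o4 o4 := by decide +kernel

theorem block_of {g : Sp} (h : (g : Mat) * m3 = (m3 : Mat) * g) : ∃ p q : P4, (g : Mat) = mk p q ∧ dt p = 1 ∧
    dt q = 1 := by
  obtain ⟨a, b, c, d, hg⟩ := exists_bm h
  have hd := det_of_mem (hg ▸ g.2)
  refine ⟨(a 0, b 0, c 0, d 0), (a 1, b 1, c 1, d 1), ?_, hd 0, hd 1⟩
  rw [hg]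
  unfold mk
  congr 1 <;> funext i <;> fin_cases i <;> rfl

theorem bm_mem {a b c d : Fin 2 → F3} (h : ∀ i, a i * d i - b i * c i = 1) :
    bm a b c d ∈ Matrix.symplecticGroup (Fin 2) F3 := by
  rw [SymplecticGroup.mem_iff, J_eq, bm_transpose, bm_mul, bm_mul]
  congr 1 <;> funext i <;> have hi := h i <;>
    simp only [Pi.add_apply, Pi.mul_apply, Pi.neg_apply, Pi.zero_apply, Pi.one_apply]
  · ring
  · linear_combination -hi
  · linear_combination hi
  · ring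

theorem mk_mem {p q : P4} (hp : dt p = 1) (hq : dt q = 1) : mk p q ∈ Matrix.symplecticGroup (Fin 2) F3 := by
  apply bm_mem
  intro i
  fin_cases i
  · exact hp
  · exact hq

/-- the element of `Sp` -/
def el (p q : P4) (hp : dt p = 1) (hq : dt q = 1) : Sp := ⟨mk p q, mk_mem hp hq⟩

/-- the element of `K` -/
noncomputable def e (p q : P4) : PSp 2 F3 :=
  open Classical in if h : dt p = 1 ∧ dt q = 1 then π (el p q h.1 h.2) else 1

theorem e_def {p q : P4} (hp : dt p = 1) (hq : dt q = 1) : e p q = π (el p q hp hq) := dif_pos ⟨hp, hq⟩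

/-- `z` -/
noncomputable abbrev z : PSp 2 F3 := π m3
/-- `t` -/
noncomputable abbrev t : PSp 2 F3 := π m4

theorem e_mul {p q p' q' : P4} (hp : dt p = 1) (hq : dt q = 1) (hp' : dt p' = 1) (hq' : dt q' = 1) :
    e p q * e p' q' = e (ml p p') (ml q q') := by
  rw [e_def hp hq, e_def hp' hq', e_def (dt_ml hp hp') (dt_ml hq hq'), ← π_mul]
  congr 1
  exact Subtype.ext (mk_mul _ _ _ _)

theorem e_one : e o4 o4 = 1 := by
  rw [e_def dt_o dt_o, ← π_one]
  congr 1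
  exact Subtype.ext one_mk.symm

theorem e_inv {p q : P4} (hp : dt p = 1) (hq : dt q = 1) : (e p q)⁻¹ = e (iv p) (iv q) := by
  rw [inv_eq_iff_mul_eq_one, e_mul hp hq (dt_iv hp) (dt_iv hq), ml_iv hp, ml_iv hq, e_one]

theorem e_eq {p q p' q' : P4} (hp : dt p = 1) (hq : dt q = 1) (hp' : dt p' = 1) (hq' : dt q' = 1)
    (h : e p q = e p' q') : (p = p' ∧ q = q') ∨ (p = ng p' ∧ q = ng q') := by
  rw [e_def hp hq, e_def hp' hq'] at h
  rcases eq_or_of_π_eq h with h1 | h1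
  · exact Or.inl (mk_inj h1)
  · right
    have h2 : mk p q = -(mk p' q') := h1
    rw [mk_neg] at h2
    exact mk_inj h2

theorem e_ng {p q : P4} (hp : dt p = 1) (hq : dt q = 1) : e (ng p) (ng q) = e p q := by
  rw [e_def hp hq, e_def (dt_ng hp) (dt_ng hq)]
  exact π_eq (Or.inr (mk_neg p q).symm)

theorem m4_m4 : m4 * m4 = 1 := by
  nth_rw 1 [← m4_inv']
  exact inv_mul_cancel _

theorem t_t : t * t = 1 := by
  rw [← π_mul, m4_m4, π_one]

theorem t_e {p q : P4} (hp : dt p = 1) (hq : dt q = 1) : t * e p q = e q p * t := by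
  rw [e_def hp hq, e_def hq hp, ← π_mul, ← π_mul]
  congr 1
  apply Subtype.ext
  show (m4 : Mat) * mk p q = mk q p * m4
  have h4 : (m4 : Mat) * m4 = 1 := congrArg Subtype.val m4_m4
  rw [← m4_mk p q, mul_assoc, h4, mul_one]

theorem e_ne {p q p' q' : P4} (hp : dt p = 1) (hq : dt q = 1) (hp' : dt p' = 1) (hq' : dt q' = 1) :
    e p q ≠ t * e p' q' := by
  intro h
  have h1 : t = e (ml p (iv p')) (ml q (iv q')) := by
    rw [← e_mul hp hq (dt_iv hp') (dt_iv hq'), ← e_inv hp' hq', h]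
    group
  rw [e_def (dt_ml hp (dt_iv hp')) (dt_ml hq (dt_iv hq'))] at h1
  have key : ∀ p q : P4, mk p q * (m3 : Mat) = (m3 : Mat) * mk p q := by
    intro p q
    rw [m3_mk, mk_mul, mk_mul]
    congr 1
    · rw [ml_o, o_ml]
    · obtain ⟨a, b, c, d⟩ := q
      simp [ml, ng, o4]
  have h2 : (m4 : Mat) * m3 = (m3 : Mat) * m4 := by
    rcases eq_or_of_π_eq h1 with h3 | h3
    · rw [h3]; exact key _ _
    · rw [h3, neg_mul, mul_neg]
      congr 1
      exact key _ _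
  rw [m43] at h2
  have h3 : ¬ (-((m3 : Mat) * m4) = (m3 : Mat) * m4) := by decide +kernel
  exact h3 h2

theorem z_eq : z = e o4 (ng o4) := by
  rw [e_def dt_o (dt_ng dt_o)]
  exact π_eq (Or.inl m3_mk)

theorem z_eq' : z = e (ng o4) o4 := by
  rw [z_eq, ← e_ng (dt_ng dt_o) dt_o, ng_ng]

theorem z_comm {p q : P4} (hp : dt p = 1) (hq : dt q = 1) : e p q * z = z * e p q := by
  rw [z_eq, e_mul hp hq dt_o (dt_ng dt_o), e_mul dt_o (dt_ng dt_o) hp hq, ml_o, o_ml]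
  congr 1
  obtain ⟨a, b, c, d⟩ := q
  simp [ml, ng, o4]

theorem t_z : t * z = z * t := by
  rw [z_eq, t_e dt_o (dt_ng dt_o), ← z_eq, ← z_eq']

/-- **normal form in `C(z)`** -/
theorem cent_z {x : PSp 2 F3} (hx : x * z = z * x) : ∃ p q : P4, dt p = 1 ∧ dt q = 1 ∧
    (x = e p q ∨ x = t * e p q) := by
  obtain ⟨g, rfl⟩ := QuotientGroup.mk_surjective x
  rcases comm_or (x := g) (y := m3) hx with h | h
  · obtain ⟨p, q, hg, hp, hq⟩ := block_of h
    refine ⟨p, q, hp, hq, Or.inl ?_⟩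
    rw [e_def hp hq]
    exact π_eq (x := g) (Or.inl hg)
  · have h2 : ((m4 * g : Sp) : Mat) * m3 = m3 * ((m4 * g : Sp) : Mat) := by
      show (m4 : Mat) * g * m3 = m3 * (m4 * g)
      rw [mul_assoc, h, mul_neg, ← mul_assoc, m43, neg_mul, neg_neg, mul_assoc]
    obtain ⟨p, q, hg, hp, hq⟩ := block_of h2
    refine ⟨p, q, hp, hq, Or.inr ?_⟩
    rw [e_def hp hq]
    have h3 : π (m4 * g) = π (el p q hp hq) := π_eq (Or.inl hg)
    rw [← h3, π_mul, ← mul_assoc, t_t, one_mul]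
    rfl

/-! ### `R` and `S` -/

/-- `R` -/
noncomputable def R : Subgroup (PSp 2 F3) where
  carrier := {x | ∃ p ∈ L8, ∃ q ∈ L8, x = e p q}
  mul_mem' := by
    rintro _ _ ⟨p, hp, q, hq, rfl⟩ ⟨p', hp', q', hq', rfl⟩
    exact ⟨_, L_ml p hp p' hp', _, L_ml q hq q' hq', e_mul (L_dt p hp) (L_dt q hq) (L_dt p' hp') (L_dt q' hq')⟩
  one_mem' := ⟨o4, L_o, o4, L_o, e_one.symm⟩
  inv_mem' := by
    rintro _ ⟨p, hp, q, hq, rfl⟩
    exact ⟨_, L_iv p hp, _, L_iv q hq, e_inv (L_dt p hp) (L_dt q hq)⟩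

theorem e_R {p q : P4} (hp : p ∈ L8) (hq : q ∈ L8) : e p q ∈ R := ⟨p, hp, q, hq, rfl⟩

theorem t_R_t {x : PSp 2 F3} (hx : x ∈ R) : t * x * t ∈ R := by
  obtain ⟨p, hp, q, hq, rfl⟩ := hx
  rw [t_e (L_dt p hp) (L_dt q hq), mul_assoc, t_t, mul_one]
  exact e_R hq hp

/-- `S` -/
noncomputable def S : Subgroup (PSp 2 F3) where
  carrier := {x | x ∈ R ∨ t * x ∈ R}
  mul_mem' := by
    rintro x y (hx | hx) (hy | hy)
    · exact Or.inl (R.mul_mem hx hy)
    · right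
      have h1 : t * (x * y) = (t * x * t) * (t * y) := by
        calc t * (x * y) = t * x * 1 * y := by group
          _ = t * x * (t * t) * y := by rw [t_t]
          _ = (t * x * t) * (t * y) := by group
      rw [h1]
      exact R.mul_mem (t_R_t hx) hy
    · right
      have h1 : t * (x * y) = (t * x) * y := by group
      rw [h1]
      exact R.mul_mem hx hy
    · left
      have h1 : x * y = (t * (t * x) * t) * (t * y) := by
        calc x * y = 1 * x * 1 * y := by group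
          _ = (t * t) * x * (t * t) * y := by rw [t_t]
          _ = (t * (t * x) * t) * (t * y) := by group
      rw [h1]
      exact R.mul_mem (t_R_t hx) hy
  one_mem' := Or.inl R.one_mem
  inv_mem' := by
    rintro x (hx | hx)
    · exact Or.inl (R.inv_mem hx)
    · right
      have h1 : t * x⁻¹ = t * (t * x)⁻¹ * t := by
        have h2 : t⁻¹ = t := inv_eq_of_mul_eq_one_left t_t
        calc t * x⁻¹ = t * x⁻¹ * (t * t) := by rw [t_t, mul_one]
          _ = t * (x⁻¹ * t⁻¹) * t := by rw [h2]; group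
          _ = t * (t * x)⁻¹ * t := by group
      rw [h1]
      exact t_R_t (R.inv_mem hx)

theorem R_le_S : R ≤ S := fun _ hx => Or.inl hx

theorem t_S : t ∈ S := by
  right
  rw [t_t]; exact R.one_mem

theorem R_z {x : PSp 2 F3} (hx : x ∈ R) : x * z = z * x := by
  obtain ⟨p, hp, q, hq, rfl⟩ := hx
  exact z_comm (L_dt p hp) (L_dt q hq)

theorem S_z {x : PSp 2 F3} (hx : x ∈ S) : x * z = z * x := by
  rcases hx with hx | hx
  · exact R_z hx
  · have h1 := R_z hx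
    have h2 : t⁻¹ = t := inv_eq_of_mul_eq_one_left t_t
    calc x * z = t⁻¹ * (t * x * z) := by group
      _ = t * (z * (t * x)) := by rw [h1, h2]
      _ = (t * z) * t * x := by group
      _ = z * (t * t) * x := by rw [t_z]; group
      _ = z * x := by rw [t_t, mul_one]

theorem R_four {x : PSp 2 F3} (hx : x ∈ R) : x * x * (x * x) = 1 := by
  obtain ⟨p, hp, q, hq, rfl⟩ := hx
  have hp' := L_dt p hp
  have hq' := L_dt q hq
  rw [e_mul hp' hq' hp' hq', e_mul (dt_ml hp' hp') (dt_ml hq' hq') (dt_ml hp' hp') (dt_ml hq' hq'), L_four p hp,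
    L_four q hq, e_one]

theorem S_sq {x : PSp 2 F3} (hx : x ∈ S) : x * x ∈ R := by
  rcases hx with hx | hx
  · exact R.mul_mem hx hx
  · have h1 : x * x = (t * (t * x) * t) * (t * x) := by
      calc x * x = 1 * x * 1 * x := by group
        _ = (t * t) * x * (t * t) * x := by rw [t_t]
        _ = (t * (t * x) * t) * (t * x) := by group
    rw [h1]
    exact R.mul_mem (t_R_t hx) hx

theorem isPGroup_S : IsPGroup 2 ↥S := by
  rintro ⟨x, hx⟩
  refine ⟨3, Subtype.ext ?_⟩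
  show x ^ 8 = 1
  have h := R_four (S_sq hx)
  rw [← h]
  simp only [pow_succ, pow_zero, one_mul, mul_assoc]

/-- representatives -/
def r4 (k : Fin 4) : P4 := ![o4, i4, j4, k4] k
/-- all elements -/
def r8 (k : Fin 8) : P4 := ![o4, ng o4, i4, ng i4, j4, ng j4, k4, ng k4] k

theorem r4_L : ∀ k, r4 k ∈ L8 := by decide +kernel
theorem r8_L : ∀ k, r8 k ∈ L8 := by decide +kernel
theorem r4_inj : ∀ k k', r4 k = r4 k' → k = k' := by decide +kernel
theorem r4_ng : ∀ k k', r4 k ≠ ng (r4 k') := by decide +kernel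
theorem r8_inj : ∀ k k', r8 k = r8 k' → k = k' := by decide +kernel

theorem card_S : 64 ≤ Nat.card ↥S := by
  have : Finite (PSp 2 F3) := Quotient.finite _
  let f : Fin 4 × Fin 8 × Bool → ↥S := fun x =>
    if x.2.2 then ⟨e (r4 x.1) (r8 x.2.1), R_le_S (e_R (r4_L _) (r8_L _))⟩
    else ⟨t * e (r4 x.1) (r8 x.2.1), S.mul_mem t_S (R_le_S (e_R (r4_L _) (r8_L _)))⟩
  have hf : Function.Injective f := by
    rintro ⟨k, l, s⟩ ⟨k', l', s'⟩ h
    have hk := L_dt _ (r4_L k)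
    have hk' := L_dt _ (r4_L k')
    have hl := L_dt _ (r8_L l)
    have hl' := L_dt _ (r8_L l')
    have key : e (r4 k) (r8 l) = e (r4 k') (r8 l') → k = k' ∧ l = l' := by
      intro h1
      rcases e_eq hk hl hk' hl' h1 with ⟨h2, h3⟩ | ⟨h2, -⟩
      · exact ⟨r4_inj _ _ h2, r8_inj _ _ h3⟩
      · exact absurd h2 (r4_ng _ _)
    cases s <;> cases s'
    · have h1 : t * e (r4 k) (r8 l) = t * e (r4 k') (r8 l') := congrArg Subtype.val h
      obtain ⟨h2, h3⟩ := key (mul_left_cancel h1)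
      rw [h2, h3]
    · have h1 : t * e (r4 k) (r8 l) = e (r4 k') (r8 l') := congrArg Subtype.val h
      exact absurd h1.symm (e_ne hk' hl' hk hl)
    · have h1 : e (r4 k) (r8 l) = t * e (r4 k') (r8 l') := congrArg Subtype.val h
      exact absurd h1 (e_ne hk hl hk' hl')
    · have h1 : e (r4 k) (r8 l) = e (r4 k') (r8 l') := congrArg Subtype.val h
      obtain ⟨h2, h3⟩ := key h1
      rw [h2, h3]
  have h1 := Nat.card_le_card_of_injective f hf
  have h2 : Nat.card (Fin 4 × Fin 8 × Bool) = 64 := by simp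
  rwa [h2] at h1

theorem odd_S : Odd S.index := by
  have : Finite (PSp 2 F3) := Quotient.finite _
  have h1 := Cfsg.Agent.SmallSimple.PSLFacts.card_psp_two_three (F := F3) F3.card
  exact odd_index_of isPGroup_S (n := 6) (m := 405) (by rw [h1]; norm_num) (by decide) card_S

/-- `C_P(R) = ⟨z⟩` -/
theorem cent_R {x : PSp 2 F3} (hx : x * z = z * x) (hr : ∀ r ∈ R, x * r = r * x) : x = 1 ∨ x = z := by
  obtain ⟨p, q, hp, hq, h | h⟩ := cent_z hx
  · have k1 : ∀ u ∈ L8, ml p u = ml u p := by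
      intro u hu
      have hu' := L_dt u hu
      have h1 := hr _ (e_R hu L_o)
      rw [h, e_mul hp hq hu' dt_o, e_mul hu' dt_o hp hq, ml_o, o_ml] at h1
      rcases e_eq (dt_ml hp hu') hq (dt_ml hu' hp) hq h1 with h2 | h2
      · exact h2.1
      · exact absurd h2.2 (ng_ne hq)
    have k2 : ∀ u ∈ L8, ml q u = ml u q := by
      intro u hu
      have hu' := L_dt u hu
      have h1 := hr _ (e_R L_o hu)
      rw [h, e_mul hp hq dt_o hu', e_mul dt_o hu' hp hq, ml_o, o_ml] at h1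
      rcases e_eq hp (dt_ml hq hu') hp (dt_ml hu' hq) h1 with h2 | h2
      · exact h2.2
      · exact absurd h2.1 (ng_ne hp)
    rcases sc hp (k1 _ L_i) (k1 _ L_j) with h3 | h3 <;> rcases sc hq (k2 _ L_i) (k2 _ L_j) with h4 | h4
    · left; rw [h, h3, h4, e_one]
    · right; rw [h, h3, h4, ← z_eq]
    · right; rw [h, h3, h4, ← z_eq']
    · left; rw [h, h3, h4, e_ng dt_o dt_o, e_one]
  · exfalso
    have h1 := hr _ (e_R L_i L_o)
    rw [h, mul_assoc, e_mul hp hq dt_i dt_o, ← mul_assoc] at h1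
    have h2 : e i4 o4 * t = t * e o4 i4 := (t_e dt_o dt_i).symm
    rw [h2, mul_assoc, e_mul dt_o dt_i hp hq, ml_o, o_ml] at h1
    rcases e_eq (dt_ml hp dt_i) hq hp (dt_ml dt_i hq) (mul_left_cancel h1) with h3 | h3
    · exact (mi hp).1 h3.1
    · exact (mi hp).2 h3.1

theorem e_conj_R {p q : P4} (hp : dt p = 1) (hq : dt q = 1) {r : PSp 2 F3} (hr : r ∈ R) :
    e p q * r * (e p q)⁻¹ ∈ R := by
  obtain ⟨u, hu, v, hv, rfl⟩ := hr
  rw [e_inv hp hq, e_mul hp hq (L_dt u hu) (L_dt v hv), e_mul (dt_ml hp (L_dt u hu)) (dt_ml hq (L_dt v hv))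
    (dt_iv hp) (dt_iv hq)]
  exact e_R (L_conj hp hu) (L_conj hq hv)

theorem t_inv : t⁻¹ = t := inv_eq_of_mul_eq_one_left t_t

theorem Rn {x : PSp 2 F3} (hx : x * z = z * x) {r : PSp 2 F3} (hr : r ∈ R) : x * r * x⁻¹ ∈ R := by
  obtain ⟨p, q, hp, hq, h | h⟩ := cent_z hx
  · rw [h]; exact e_conj_R hp hq hr
  · rw [h]
    have h1 : t * e p q * r * (t * e p q)⁻¹ = t * (e p q * r * (e p q)⁻¹) * t := by
      rw [_root_.mul_inv_rev, t_inv]; group
    rw [h1]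
    exact t_R_t (e_conj_R hp hq hr)

theorem core_aux : ∀ p ∈ L8, ml p (iv d4) ∉ L8 := by decide +kernel

theorem core {x : PSp 2 F3} (hx : x ∈ S) (h : e d4 o4 * x * (e d4 o4)⁻¹ ∈ S) : x ∈ R := by
  rcases hx with hx | hx
  · exact hx
  · exfalso
    obtain ⟨p, hp, q, hq, hpq⟩ := hx
    have hp' := L_dt p hp
    have hq' := L_dt q hq
    have hx' : x = t * e p q := by
      rw [← hpq, ← mul_assoc, t_t, one_mul]
    have h1 : e d4 o4 * x * (e d4 o4)⁻¹ = t * e (ml p (iv d4)) (ml d4 q) := by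
      have h2 : e d4 o4 * t = t * e o4 d4 := (t_e dt_o dt_d).symm
      rw [hx', e_inv dt_d dt_o, ← mul_assoc, h2]
      have h3 : iv o4 = o4 := by decide
      rw [h3, mul_assoc, mul_assoc, e_mul hp' hq' (dt_iv dt_d) dt_o,
        e_mul dt_o dt_d (dt_ml hp' (dt_iv dt_d)) (dt_ml hq' dt_o), o_ml, ml_o]
    rw [h1] at h
    rcases h with h | h
    · obtain ⟨u, hu, v, hv, huv⟩ := h
      exact e_ne (L_dt u hu) (L_dt v hv) (dt_ml hp' (dt_iv dt_d)) (dt_ml dt_d hq') huv.symm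
    · rw [← mul_assoc, t_t, one_mul] at h
      obtain ⟨u, hu, v, hv, huv⟩ := h
      rcases e_eq (dt_ml hp' (dt_iv dt_d)) (dt_ml dt_d hq') (L_dt u hu) (L_dt v hv) huv with h2 | h2
      · exact core_aux p hp (h2.1 ▸ hu)
      · exact core_aux p hp (h2.1 ▸ L_ng u hu)

theorem z_R : z ∈ R := by rw [z_eq]; exact e_R L_o (L_ng _ L_o)

theorem z2 : z * z = 1 := by
  rw [← π_mul, ← π_one]
  exact π_eq (by decide +kernel)

theorem z1 : z ≠ 1 := π_ne_one (x := m3) (by decide +kernel)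

theorem coreS : Core (PSp 2 F3) S R z where
  two := isPGroup_S
  odd := odd_S
  z2 := z2
  z1 := z1
  zR := z_R
  RS := R_le_S
  zc := fun s hs => S_z hs
  uniq := by
    intro x hx _ h1 hc
    exact (cent_R (S_z hx) (fun r hr => (hc r (R_le_S hr)).symm)).resolve_left h1
  Rn := fun p hp r hr => Rn hp hr
  core := fun x hx h => core hx (h _ (z_comm dt_d dt_o))

/-! ### the structure of `R` -/

/-- `Q₁` -/
noncomputable def Q1 : Subgroup (PSp 2 F3) where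
  carrier := {x | ∃ p ∈ L8, x = e p o4}
  mul_mem' := by
    rintro _ _ ⟨p, hp, rfl⟩ ⟨p', hp', rfl⟩
    refine ⟨_, L_ml p hp p' hp', ?_⟩
    rw [e_mul (L_dt p hp) dt_o (L_dt p' hp') dt_o, ml_o]
  one_mem' := ⟨o4, L_o, e_one.symm⟩
  inv_mem' := by
    rintro _ ⟨p, hp, rfl⟩
    refine ⟨_, L_iv p hp, ?_⟩
    rw [e_inv (L_dt p hp) dt_o]
    rfl

/-- `Q₂` -/
noncomputable def Q2 : Subgroup (PSp 2 F3) where
  carrier := {x | ∃ p ∈ L8, x = e o4 p}
  mul_mem' := by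
    rintro _ _ ⟨p, hp, rfl⟩ ⟨p', hp', rfl⟩
    refine ⟨_, L_ml p hp p' hp', ?_⟩
    rw [e_mul dt_o (L_dt p hp) dt_o (L_dt p' hp'), ml_o]
  one_mem' := ⟨o4, L_o, e_one.symm⟩
  inv_mem' := by
    rintro _ ⟨p, hp, rfl⟩
    refine ⟨_, L_iv p hp, ?_⟩
    rw [e_inv dt_o (L_dt p hp)]
    rfl

theorem ml_ngo (p : P4) : ml p (ng o4) = ng p := by
  obtain ⟨a, b, c, d⟩ := p
  simp [ml, ng, o4]

theorem ji : ml j4 i4 = ng (ml i4 j4) := by decide +kernel
theorem ii : ml i4 i4 = ng o4 := by decide +kernel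
theorem jj : ml j4 j4 = ng o4 := by decide +kernel

theorem mul_z1 {p : P4} (hp : dt p = 1) : e p o4 * z = e (ng p) o4 := by
  rw [z_eq', e_mul hp dt_o (dt_ng dt_o) dt_o, ml_o, ml_ngo]

theorem mul_z2 {p : P4} (hp : dt p = 1) : e o4 p * z = e o4 (ng p) := by
  rw [z_eq, e_mul dt_o hp dt_o (dt_ng dt_o), ml_o, ml_ngo]

theorem isQ1 : IsQ z Q1 := by
  refine IsQ.mk' (i := e i4 o4) (j := e j4 o4) z2 z1 ⟨_, L_i, rfl⟩ ⟨_, L_j, rfl⟩ ?_ ?_ ?_ ?_
  · rw [e_mul dt_i dt_o dt_i dt_o, ml_o, ii, ← z_eq']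
  · rw [e_mul dt_j dt_o dt_j dt_o, ml_o, jj, ← z_eq']
  · rw [e_mul dt_j dt_o dt_i dt_o, e_mul dt_i dt_o dt_j dt_o, ml_o, mul_z1 (dt_ml dt_i dt_j), ji]
  · rintro q ⟨p, hp, rfl⟩
    simp only [L8, List.mem_cons, List.not_mem_nil, or_false] at hp
    have hij : e i4 o4 * e j4 o4 = e k4 o4 := by rw [e_mul dt_i dt_o dt_j dt_o, ml_o]; rfl
    rw [hij, mul_z1 dt_i, mul_z1 dt_j, mul_z1 dt_k, z_eq', ← e_one]
    rcases hp with rfl | rfl | rfl | rfl | rfl | rfl | rfl | rfl <;> simp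

theorem isQ2 : IsQ z Q2 := by
  refine IsQ.mk' (i := e o4 i4) (j := e o4 j4) z2 z1 ⟨_, L_i, rfl⟩ ⟨_, L_j, rfl⟩ ?_ ?_ ?_ ?_
  · rw [e_mul dt_o dt_i dt_o dt_i, ml_o, ii, ← z_eq]
  · rw [e_mul dt_o dt_j dt_o dt_j, ml_o, jj, ← z_eq]
  · rw [e_mul dt_o dt_j dt_o dt_i, e_mul dt_o dt_i dt_o dt_j, ml_o, mul_z2 (dt_ml dt_i dt_j), ji]
  · rintro q ⟨p, hp, rfl⟩
    simp only [L8, List.mem_cons, List.not_mem_nil, or_false] at hp
    have hij : e o4 i4 * e o4 j4 = e o4 k4 := by rw [e_mul dt_o dt_i dt_o dt_j, ml_o]; rfl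
    rw [hij, mul_z2 dt_i, mul_z2 dt_j, mul_z2 dt_k, z_eq, ← e_one]
    rcases hp with rfl | rfl | rfl | rfl | rfl | rfl | rfl | rfl <;> simp

theorem isQQ : IsQQ z Q1 Q2 R where
  q1 := isQ1
  q2 := isQ2
  le1 := by rintro _ ⟨p, hp, rfl⟩; exact e_R hp L_o
  le2 := by rintro _ ⟨p, hp, rfl⟩; exact e_R L_o hp
  com := by
    rintro _ ⟨p, hp, rfl⟩ _ ⟨q, hq, rfl⟩
    rw [e_mul (L_dt p hp) dt_o dt_o (L_dt q hq), e_mul dt_o (L_dt q hq) (L_dt p hp) dt_o, ml_o, o_ml, o_ml, ml_o]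
  inf := by
    rintro _ ⟨p, hp, rfl⟩ ⟨q, hq, h⟩
    rcases e_eq (L_dt p hp) dt_o dt_o (L_dt q hq) h with ⟨h1, -⟩ | ⟨h1, -⟩
    · left; rw [h1, e_one]
    · right; rw [h1, z_eq']
  mem := by
    rintro _ ⟨p, hp, q, hq, rfl⟩
    refine ⟨e p o4, ⟨p, hp, rfl⟩, e o4 q, ⟨q, hq, rfl⟩, ?_⟩
    rw [e_mul (L_dt p hp) dt_o dt_o (L_dt q hq), ml_o, o_ml]

theorem hd_aux : ∀ p ∈ L8, p ≠ o4 → p ≠ ng o4 → ml (ml d4 p) (iv d4) ≠ p ∧ ml (ml d4 p) (iv d4) ≠ ng p := by
  decide +kernel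

theorem d_cube : ml (ml d4 d4) d4 = o4 := by decide +kernel

theorem sheet : Sheet (PSp 2 F3) S R z := by
  have : Finite (PSp 2 F3) := Quotient.finite _
  refine Sheet.of_QQ coreS.sheet0 isQQ (fun p hp hr => cent_R hp hr) (d := e d4 o4) (z_comm dt_d dt_o) ?_ ?_ ?_
  · rw [e_mul dt_d dt_o dt_d dt_o, e_mul (dt_ml dt_d dt_d) (dt_ml dt_o dt_o) dt_d dt_o, d_cube, ml_o, ml_o, e_one]
  · rintro _ ⟨q, hq, rfl⟩
    rw [e_mul dt_d dt_o dt_o (L_dt q hq), e_mul dt_o (L_dt q hq) dt_d dt_o, ml_o, o_ml, o_ml, ml_o]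
  · rintro _ ⟨p, hp, rfl⟩ h1 hz
    have hp' := L_dt p hp
    have h3 : e d4 o4 * e p o4 * (e d4 o4)⁻¹ = e (ml (ml d4 p) (iv d4)) o4 := by
      rw [e_inv dt_d dt_o, e_mul dt_d dt_o hp' dt_o, e_mul (dt_ml dt_d hp') (dt_ml dt_o dt_o) (dt_iv dt_d)
        (dt_iv dt_o)]
      rfl
    rw [h3]
    have hdt := dt_ml (dt_ml dt_d hp') (dt_iv dt_d)
    obtain ⟨a1, a2⟩ := hd_aux p hp (fun h => h1 (by rw [h, e_one])) (fun h => hz (by rw [h, z_eq']))
    have a3 := ng_ne dt_o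
    refine ⟨?_, ?_⟩
    · intro h
      rcases e_eq hdt dt_o hp' dt_o h with h4 | h4
      · exact a1 h4.1
      · exact a3 h4.2
    · rw [mul_z1 hp']
      intro h
      rcases e_eq hdt dt_o (dt_ng hp') dt_o h with h4 | h4
      · exact a2 h4.1
      · exact a3 h4.2

/-! ### the second local subgroup -/

theorem m1_e : π m1 = e i4 i4 := by
  rw [e_def dt_i dt_i]
  exact π_eq (Or.inl m1_mk)

theorem m2_e : π m2 = e j4 j4 := by
  rw [e_def dt_j dt_j]
  exact π_eq (Or.inl m2_mk)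

open Cfsg.Agent.SmallSimple.S1000.Order25920PSp in
theorem Q0_comm {a b : PSp 2 F3} (ha : a ∈ Q0) (hb : b ∈ Q0) : a * b = b * a := by
  have h1 : Q0 ≤ centralizer ({a} : Set (PSp 2 F3)) := by
    conv_lhs => rw [Q0]
    rw [closure_le]
    intro x hx
    show x ∈ centralizer ({a} : Set (PSp 2 F3))
    rw [mem_centralizer_singleton_iff]
    exact Q0_comm_gens x hx a ha
  exact (mem_centralizer_singleton_iff.mp (h1 hb)).symm

theorem z_Q0 : z ∈ Q0 := Cfsg.Agent.SmallSimple.S1000.Order25920PSp.m3_mem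
theorem t_Q0 : t ∈ Q0 := Cfsg.Agent.SmallSimple.S1000.Order25920PSp.m4_mem
theorem i_Q0 : e i4 i4 ∈ Q0 := by rw [← m1_e]; exact Cfsg.Agent.SmallSimple.S1000.Order25920PSp.m1_mem
theorem j_Q0 : e j4 j4 ∈ Q0 := by rw [← m2_e]; exact Cfsg.Agent.SmallSimple.S1000.Order25920PSp.m2_mem

theorem pp_Q0 {p : P4} (hp : p ∈ L8) : e p p ∈ Q0 := by
  have hij : e k4 k4 ∈ Q0 := by
    have h1 := Q0.mul_mem i_Q0 j_Q0
    rw [e_mul dt_i dt_i dt_j dt_j] at h1
    exact h1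
  have ho : e o4 o4 ∈ Q0 := by rw [e_one]; exact one_mem _
  simp only [L8, List.mem_cons, List.not_mem_nil, or_false] at hp
  rcases hp with rfl | rfl | rfl | rfl | rfl | rfl | rfl | rfl
  · exact ho
  · rw [e_ng dt_o dt_o]; exact ho
  · exact i_Q0
  · rw [e_ng dt_i dt_i]; exact i_Q0
  · exact j_Q0
  · rw [e_ng dt_j dt_j]; exact j_Q0
  · exact hij
  · rw [e_ng dt_k dt_k]; exact hij

theorem pq_Q0 {p q : P4} (hp : p ∈ L8) (h : q = p ∨ q = ng p) : e p q ∈ Q0 := by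
  rcases h with rfl | rfl
  · exact pp_Q0 hp
  · have h1 := Q0.mul_mem (pp_Q0 hp) z_Q0
    rw [z_eq, e_mul (L_dt p hp) (L_dt p hp) dt_o (dt_ng dt_o), ml_o, ml_ngo] at h1
    exact h1

theorem Q0_le_S : Q0 ≤ S := by
  rw [Q0, closure_le]
  rintro x (rfl | rfl | rfl | rfl)
  · show π m1 ∈ S
    rw [m1_e]; exact R_le_S (e_R L_i L_i)
  · show π m2 ∈ S
    rw [m2_e]; exact R_le_S (e_R L_j L_j)
  · exact R_le_S z_R
  · exact t_S

theorem cent_Q0' {x : PSp 2 F3} {p q : P4} (hp : dt p = 1) (hq : dt q = 1) (hx : x = e p q)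
    (h : ∀ a ∈ Q0, x * a = a * x) : x ∈ Q0 := by
  have ht := h _ t_Q0
  rw [hx, t_e hp hq] at ht
  have h1 := e_eq hp hq hq hp (mul_right_cancel ht)
  have hq' : q = p ∨ q = ng p := by
    rcases h1 with ⟨-, h2⟩ | ⟨-, h2⟩
    · exact Or.inl h2
    · exact Or.inr h2
  have hi := h _ i_Q0
  have hj := h _ j_Q0
  rw [hx, e_mul hp hq dt_i dt_i, e_mul dt_i dt_i hp hq] at hi
  rw [hx, e_mul hp hq dt_j dt_j, e_mul dt_j dt_j hp hq] at hj
  have hi' := e_eq (dt_ml hp dt_i) (dt_ml hq dt_i) (dt_ml dt_i hp) (dt_ml dt_i hq) hi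
  have hj' := e_eq (dt_ml hp dt_j) (dt_ml hq dt_j) (dt_ml dt_j hp) (dt_ml dt_j hq) hj
  have hpL : p ∈ L8 := nq hp (hi'.imp And.left And.left) (hj'.imp And.left And.left)
  rw [hx]
  exact pq_Q0 hpL hq'

theorem cent_Q0 (x : PSp 2 F3) : (∀ a ∈ Q0, x * a = a * x) ↔ x ∈ Q0 := by
  constructor
  · intro h
    obtain ⟨p, q, hp, hq, h1 | h1⟩ := cent_z (h _ z_Q0)
    · exact cent_Q0' hp hq h1 h
    · have h2 : t * x = e p q := by rw [h1, ← mul_assoc, t_t, one_mul]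
      have h3 : t * x ∈ Q0 := by
        refine cent_Q0' hp hq h2 ?_
        intro a ha
        rw [mul_assoc, h a ha, ← mul_assoc, Q0_comm t_Q0 ha, mul_assoc]
      have h4 := Q0.mul_mem t_Q0 h3
      rwa [← mul_assoc, t_t, one_mul] at h4
  · intro h a ha
    exact Q0_comm h ha

theorem ci_aux : ∀ p ∈ L8, ml (ml p i4) (iv p) = i4 ∨ ml (ml p i4) (iv p) = ng i4 := by decide +kernel
theorem cj_aux : ∀ p ∈ L8, ml (ml p j4) (iv p) = j4 ∨ ml (ml p j4) (iv p) = ng j4 := by decide +kernel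
theorem cq_aux : ∀ p ∈ L8, ∀ q ∈ L8, ml p (iv q) = ml q (iv p) ∨ ml p (iv q) = ng (ml q (iv p)) := by
  decide +kernel

theorem iv_ml {p : P4} (hp : dt p = 1) : ml (iv p) p = o4 := by
  obtain ⟨a, b, c, d⟩ := p
  have h1 : a * d - b * c = 1 := hp
  simp only [ml, iv, o4, Prod.mk.injEq]
  refine ⟨?_, ?_, ?_, ?_⟩
  · linear_combination h1
  · ring
  · ring
  · linear_combination h1

theorem ng_eq_cases {u p : P4} (h : p = u ∨ p = ng u) : ∀ {q : P4}, (q = u ∨ q = ng u) → q = p ∨ q = ng p := by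
  intro q hq
  rcases h with rfl | rfl <;> rcases hq with rfl | rfl
  · exact Or.inl rfl
  · exact Or.inr rfl
  · exact Or.inr (ng_ng _).symm
  · exact Or.inl rfl

theorem R_norm {s : PSp 2 F3} (hs : s ∈ R) : s ∈ normalizer (Q0 : Set (PSp 2 F3)) := by
  obtain ⟨p, hp, q, hq, rfl⟩ := hs
  have hp' := L_dt p hp
  have hq' := L_dt q hq
  apply Cfsg.Agent.SmallSimple.S1000.Order25920PSp.mem_normalizer
  have hconj : ∀ u v : P4, dt u = 1 → dt v = 1 → e p q * e u v = e (ml (ml p u) (iv p)) (ml (ml q v) (iv q)) * e p q := by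
    intro u v hu hv
    rw [e_mul hp' hq' hu hv, e_mul (dt_ml (dt_ml hp' hu) (dt_iv hp')) (dt_ml (dt_ml hq' hv) (dt_iv hq')) hp' hq',
      ml_assoc _ (iv p) p, ml_assoc _ (iv q) q, iv_ml hp', iv_ml hq', ml_o, ml_o]
  rintro x (rfl | rfl | rfl | rfl)
  · rw [m1_e]
    refine ⟨_, ?_, hconj i4 i4 dt_i dt_i⟩
    exact pq_Q0 (L_conj hp' L_i) (ng_eq_cases (ci_aux p hp) (ci_aux q hq))
  · rw [m2_e]
    refine ⟨_, ?_, hconj j4 j4 dt_j dt_j⟩
    exact pq_Q0 (L_conj hp' L_j) (ng_eq_cases (cj_aux p hp) (cj_aux q hq))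
  · exact ⟨z, z_Q0, z_comm hp' hq'⟩
  · refine ⟨e (ml p (iv q)) (ml q (iv p)) * t, Q0.mul_mem (pq_Q0 (L_ml p hp _ (L_iv q hq)) ?_) t_Q0, ?_⟩
    · rcases cq_aux q hq p hp with h | h
      · exact Or.inl h
      · exact Or.inr h
    · rw [mul_assoc, t_e hp' hq', ← mul_assoc, e_mul (dt_ml hp' (dt_iv hq')) (dt_ml hq' (dt_iv hp')) hq' hp',
        ml_assoc, ml_assoc, iv_ml hq', iv_ml hp', ml_o, ml_o]

theorem S_norm {s : PSp 2 F3} (hs : s ∈ S) : s ∈ normalizer (Q0 : Set (PSp 2 F3)) := by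
  rcases hs with hs | hs
  · exact R_norm hs
  · have h1 := mul_mem (le_normalizer t_Q0) (R_norm hs)
    rwa [← mul_assoc, t_t, one_mul] at h1

/-! ### generation -/

theorem comm_of_eigen {x y : Sp} {v : Fin 2 ⊕ Fin 2 → F3} {c : F3}
    (hy : (y : Mat) = sympTransvection 2 v c) {s : F3} (hs : s * s = 1) (hx : (x : Mat) *ᵥ v = s • v) :
    x * y = y * x := by
  have key : ∀ u : Fin 2 ⊕ Fin 2 → F3, ((x * y : Sp) : Mat) *ᵥ u = ((y * x : Sp) : Mat) *ᵥ u := by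
    intro u
    have e1 : ((x * y : Sp) : Mat) = (x : Mat) * y := rfl
    have e2 : ((y * x : Sp) : Mat) = (y : Mat) * x := rfl
    rw [e1, e2, ← Matrix.mulVec_mulVec, ← Matrix.mulVec_mulVec, hy,
      ClassicalGeometry.SympBasic.sympTransvection_mulVec, ClassicalGeometry.SympBasic.sympTransvection_mulVec,
      Matrix.mulVec_add, Matrix.mulVec_smul, hx]
    have h1 : sympForm 2 F3 ((x : Mat) *ᵥ u) v = s * sympForm 2 F3 u v := by
      have h2 : sympForm 2 F3 ((x : Mat) *ᵥ u) ((x : Mat) *ᵥ v) = sympForm 2 F3 u v :=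
        ClassicalGeometry.SympBasic.sympForm_mulVec x.2 u v
      rw [hx, ClassicalGeometry.SympBasic.sympForm_smul_right] at h2
      calc sympForm 2 F3 ((x : Mat) *ᵥ u) v = (s * s) * sympForm 2 F3 ((x : Mat) *ᵥ u) v := by rw [hs, one_mul]
        _ = s * sympForm 2 F3 u v := by rw [mul_assoc, h2]
    rw [h1, smul_smul]
    congr 2
    ring
  apply Subtype.ext
  refine Matrix.ext fun i j => ?_
  have h1 := congrFun (key (Pi.single j 1)) i
  simpa using h1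

theorem mk_mulVec (p q : P4) (v : Fin 2 ⊕ Fin 2 → F3) : mk p q *ᵥ v =
    Sum.elim ![p.1 * v (.inl 0) + p.2.1 * v (.inr 0), q.1 * v (.inl 1) + q.2.1 * v (.inr 1)]
      ![p.2.2.1 * v (.inl 0) + p.2.2.2 * v (.inr 0), q.2.2.1 * v (.inl 1) + q.2.2.2 * v (.inr 1)] := by
  unfold mk bm
  rw [fromBlocks_mulVec]
  funext i
  rcases i with i | i <;> fin_cases i <;> simp [mulVec_diagonal]

theorem m4_mulVec (v : Fin 2 ⊕ Fin 2 → F3) : (m4 : Mat) *ᵥ v =
    Sum.elim ![v (.inl 1), v (.inl 0)] ![v (.inr 1), v (.inr 0)] := by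
  rw [m4_eq, fromBlocks_mulVec]
  funext i
  rcases i with i | i <;> fin_cases i <;>
    simp [Cfsg.Agent.OddHalf.Small.PSp43.Pm, Matrix.mulVec, dotProduct, Fin.sum_univ_two]

theorem trans_aux : ∀ x y u v : F3, (x ≠ 0 ∨ y ≠ 0) → (u ≠ 0 ∨ v ≠ 0) → ∃ a b c d : F3, a * d - b * c = 1 ∧
    a * x + b * y = u ∧ c * x + d * y = v := by decide +kernel

theorem gen (H : Subgroup (PSp 2 F3)) (h1 : ∀ p, p * z = z * p → p ∈ H) (h2 : ∀ p, p * t = t * p → p ∈ H) :
    H = ⊤ := by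
  have key : closure {A : Sp | ∃ (w : Fin 2 ⊕ Fin 2 → F3) (c : F3), (A : Mat) = sympTransvection 2 w c} ≤
      H.comap Cfsg.Agent.OddHalf.Small.PSp43.πh := by
    rw [closure_le]
    rintro y ⟨v, c, hy⟩
    show π y ∈ H
    have s1 : (1 : F3) * 1 = 1 := by decide
    have s2 : (-1 : F3) * -1 = 1 := by decide
    have hz : ∀ s : F3, s * s = 1 → (m3 : Mat) *ᵥ v = s • v → π y ∈ H := by
      intro s hs hm
      apply h1
      have h3 := comm_of_eigen hy hs hm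
      show π y * π m3 = π m3 * π y
      rw [← π_mul, ← π_mul, h3]
    by_cases hv0 : v (.inl 0) = 0 ∧ v (.inr 0) = 0
    · refine hz (-1) s2 ?_
      rw [m3_mk, mk_mulVec]
      funext i
      rcases i with i | i <;> fin_cases i <;> simp [hv0.1, hv0.2, o4, ng]
    by_cases hv1 : v (.inl 1) = 0 ∧ v (.inr 1) = 0
    · refine hz 1 s1 ?_
      rw [m3_mk, mk_mulVec]
      funext i
      rcases i with i | i <;> fin_cases i <;> simp [hv1.1, hv1.2, o4, ng]
    · obtain ⟨a, b, c', d, hd, e1, e2⟩ := trans_aux (v (.inl 0)) (v (.inr 0)) (v (.inl 1)) (v (.inr 1))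
        (by by_contra hcon; push Not at hcon; exact hv0 hcon) (by by_contra hcon; push Not at hcon; exact hv1 hcon)
      have hp : dt (a, b, c', d) = 1 := hd
      let h : Sp := el (a, b, c', d) o4 hp dt_o
      have hz' : π h ∈ H := by
        apply h1
        have h3 : π h = e (a, b, c', d) o4 := (e_def hp dt_o).symm
        rw [h3]
        exact z_comm hp dt_o
      have hw : ((h⁻¹ * m4 * h : Sp) : Mat) *ᵥ v = (1 : F3) • v := by
        have e3 : ((h⁻¹ * m4 * h : Sp) : Mat) = ((h⁻¹ : Sp) : Mat) * (m4 : Mat) * (h : Mat) := rfl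
        have e4 : (h : Mat) *ᵥ v = Sum.elim ![v (.inl 1), v (.inl 1)] ![v (.inr 1), v (.inr 1)] := by
          show mk (a, b, c', d) o4 *ᵥ v = _
          rw [mk_mulVec]
          funext i
          rcases i with i | i <;> fin_cases i <;> simp [e1, e2, o4]
        have e5 : (m4 : Mat) *ᵥ ((h : Mat) *ᵥ v) = (h : Mat) *ᵥ v := by
          rw [e4, m4_mulVec]
          funext i
          rcases i with i | i <;> fin_cases i <;> simp
        have e6 : ((h⁻¹ : Sp) : Mat) * (h : Mat) = 1 := congrArg Subtype.val (inv_mul_cancel h)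
        rw [e3, ← Matrix.mulVec_mulVec, ← Matrix.mulVec_mulVec, e5, Matrix.mulVec_mulVec, e6, Matrix.one_mulVec,
          one_smul]
      have hcomm := comm_of_eigen hy s1 hw
      have h4 : π (h * y * h⁻¹) ∈ H := by
        apply h2
        have h5 : (h * y * h⁻¹) * m4 = m4 * (h * y * h⁻¹) := by
          calc (h * y * h⁻¹) * m4 = h * (y * (h⁻¹ * m4 * h)) * h⁻¹ := by group
            _ = h * ((h⁻¹ * m4 * h) * y) * h⁻¹ := by rw [hcomm]
            _ = m4 * (h * y * h⁻¹) := by group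
        show π (h * y * h⁻¹) * π m4 = π m4 * π (h * y * h⁻¹)
        rw [← π_mul, ← π_mul, h5]
      have h6 : π y = (π h)⁻¹ * π (h * y * h⁻¹) * π h := by
        rw [π_mul, π_mul]
        have h7 : π h⁻¹ = (π h)⁻¹ := rfl
        rw [h7]; group
      rw [h6]
      exact H.mul_mem (H.mul_mem (H.inv_mem hz') h4) hz'
  rw [eq_top_iff]
  intro x _
  obtain ⟨g, rfl⟩ := QuotientGroup.mk_surjective x
  have h3 : g ∈ closure {A : Sp | ∃ (w : Fin 2 ⊕ Fin 2 → F3) (c : F3), (A : Mat) = sympTransvection 2 w c} := by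
    rw [Cfsg.Agent.S0765.result (F := F3) 2]
    exact mem_top _
  exact key h3

/-- **`PSp₄(3)`** -/
theorem row : Row (PSp 2 F3) := by
  have : Finite (PSp 2 F3) := Quotient.finite _
  refine coreS.row sheet ?_ Q0_le_S cent_Q0 (fun s hs a ha => (mem_normalizer_iff.mp (S_norm hs) a).mp ha) ?_
    (g := π Cfsg.Agent.SmallSimple.S1000.Order25920PSp.ga) (w := t)
    (fun a ha => (mem_normalizer_iff.mp Cfsg.Agent.SmallSimple.S1000.Order25920PSp.ga_mem a).mp ha) ?_ t_S gen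
  · intro x hx hr
    rcases cent_R hx hr with h | h
    · rw [h]; exact ⟨one_mem _, fun p _ => by rw [one_mul, mul_one]⟩
    · rw [h]; exact ⟨z_R, fun p hp => hp.symm⟩
  · intro a ha hs p hp
    rcases cent_R (S_z (Q0_le_S ha)) (fun r hr => (hs r (R_le_S hr)).symm) with h | h
    · rw [h, one_mul, mul_one]
    · rw [h]; exact hp.symm
  · have h : π Cfsg.Agent.SmallSimple.S1000.Order25920PSp.ga * z =
        t * π Cfsg.Agent.SmallSimple.S1000.Order25920PSp.ga := by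
      rw [← π_mul, ← π_mul]
      exact π_eq (by decide +kernel)
    rw [h]; group

end Cfsg.Agent.OddHalf.D4.Small.KPSp43

namespace Cfsg.Agent.OddHalf.D4.Small

/-- the facts on `K ≅ PSp₄(3)` -/
theorem row_psp43 {K : Type*} [Group K] {F : Type*} [Field F] [Fintype F] (hF : Fintype.card F = 3)
    (e : K ≃* Cfsg.PSp 2 F) : Row K :=
  KPSp43.row.of_equiv (e.trans
    (Cfsg.Agent.LieClassical.FieldTransfer.pspCongr 2 (Cfsg.Agent.Lib.FieldThree.equivOfCard hF))).symm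

end Cfsg.Agent.OddHalf.D4.Small
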