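import Mathlib
import Cfsg.Agent.OddHalf.D4.Small.Row

/-!
# ODD, D4, small Lie odd: `L₄(3)`, the facts on `K`

`(F1)` fails for `L₄(3)`: a reflection `ρ` centralizes a Sylow 2-subgroup. The facts used instead:
`IsRefl` (reflections) and `SheetL` (a sheet together with a reflection centralizing the Sylow subgroup).
-/

set_option autoImplicit false

namespace Cfsg.Agent.OddHalf.D4.Small.LFour

open Subgroup Cfsg Basic

universe u v

/-- A reflection of `K`. -/
structure IsRefl (K : Type u) [Group K] (ρ : MulAut K) : Prop where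
  sq : ∀ x, ρ (ρ x) = x
  out : ∀ k, ¬ ∀ x, ρ x = k * x * k⁻¹
  inv : ∃ l, ((ρ l)⁻¹ * l) * ((ρ l)⁻¹ * l) = 1 ∧ (ρ l)⁻¹ * l ≠ 1 ∧ ρ ((ρ l)⁻¹ * l) = (ρ l)⁻¹ * l
  cent : ∀ γ : MulAut K, (∀ x, γ (ρ x) = ρ (γ x)) →
    (∃ k, ∀ x, γ x = k * x * k⁻¹) ∨ ∃ k, ∀ x, γ (ρ x) = k * x * k⁻¹

/-- The sheet with a reflection centralizing the Sylow subgroup. -/
structure SheetL (K : Type u) [Group K] (S R : Subgroup K) (z : K) (ρ : MulAut K) : Prop
    extends Sheet K S R z where
  refl : IsRefl K ρ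
  refl' : IsRefl K (ρ * MulAut.conj z)
  fixS : ∀ s ∈ S, ρ s = s
  irr : ∀ N : Subgroup K, N ≤ R → (∀ p, p * z = z * p → ∀ n ∈ N, p * n * p⁻¹ ∈ N) →
    (∀ n ∈ N, n = 1 ∨ n = z) ∨ N = R
  big : 8 < Nat.card ↥R
  gen1 : ∀ H : Subgroup K, (∀ x, x * z = z * x → x ∈ H) → (∀ x, ρ x = x → x ∈ H) →
    (∀ x, ρ (z * x * z⁻¹) = x → x ∈ H) → H = ⊤
  gen2 : ∀ H : Subgroup K, (∀ r ∈ R, r * r = 1 → r ≠ 1 → ∀ x, x * r = r * x → x ∈ H) → H = ⊤
  four : ∀ α : MulAut K, (∃ n : ℕ, α ^ 2 ^ n = 1) → (∀ s ∈ S, α s = s) →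
    (∀ x, α x = x) ∨ (∀ x, α x = z * x * z⁻¹) ∨ (∀ x, α x = ρ x) ∨ ∀ x, α x = ρ (z * x * z⁻¹)

def HasSheetL (K : Type u) [Group K] : Prop :=
  ∀ S : Sylow 2 K, ∃ (z : K) (R : Subgroup K) (ρ : MulAut K), SheetL K S R z ρ

section Transport

variable {K : Type u} [Group K] {L : Type v} [Group L]

theorem IsRefl.map {ρ : MulAut K} (h : IsRefl K ρ) (e : K ≃* L) {ρ' : MulAut L}
    (hρ : ∀ x, ρ' (e x) = e (ρ x)) : IsRefl L ρ' := by
  have hρ' : ∀ y : L, ρ' y = e (ρ (e.symm y)) := fun y => by rw [← hρ, e.apply_symm_apply]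
  refine ⟨?_, ?_, ?_, ?_⟩
  · intro y
    rw [hρ', hρ', e.symm_apply_apply, h.sq, e.apply_symm_apply]
  · intro k hk
    refine h.out (e.symm k) ?_
    intro x
    have h1 := congrArg e.symm (hk (e x))
    rw [hρ, e.symm_apply_apply] at h1
    simpa using h1
  · obtain ⟨l, h1, h2, h3⟩ := h.inv
    have e1 : (ρ' (e l))⁻¹ * e l = e ((ρ l)⁻¹ * l) := by rw [hρ, map_mul, map_inv]
    refine ⟨e l, ?_, ?_, ?_⟩
    · rw [e1, ← map_mul, h1, map_one]
    · rw [e1]
      intro h4
      exact h2 (e.injective (by rw [h4, map_one]))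
    · rw [e1, hρ, h3]
  · intro γ hγ
    have key : ∀ δ : MulAut L, (∃ k, ∀ x, pullAut e δ x = k * x * k⁻¹) → ∃ k, ∀ y, δ y = k * y * k⁻¹ := by
      rintro δ ⟨k, hk⟩
      refine ⟨e k, ?_⟩
      intro y
      have h1 := congrArg e (hk (e.symm y))
      rw [pullAut_apply, e.apply_symm_apply, e.apply_symm_apply] at h1
      rw [h1]
      simp
    rcases h.cent (pullAut e γ) (by
      intro x
      rw [pullAut_apply, pullAut_apply, ← hρ, hγ]
      apply e.injective
      rw [← hρ]
      simp) with h1 | h1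
    · left
      exact key γ h1
    · right
      obtain ⟨k, hk⟩ := key (γ * ρ') (by
        obtain ⟨k, hk⟩ := h1
        refine ⟨k, ?_⟩
        intro x
        rw [← hk, pullAut_apply, pullAut_apply, MulAut.mul_apply, hρ])
      exact ⟨k, hk⟩

theorem SheetL.map {S R : Subgroup K} {z : K} {ρ : MulAut K} (h : SheetL K S R z ρ) (e : K ≃* L) :
    SheetL L (S.comap e.symm.toMonoidHom) (R.comap e.symm.toMonoidHom) (e z) ((e.symm.trans ρ).trans e) := by
  have hρ : ∀ x, ((e.symm.trans ρ).trans e : MulAut L) x = e (ρ (e.symm x)) := fun _ => rfl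
  have hz : ∀ x : K, x * z = z * x ↔ e x * e z = e z * e x := by
    intro x
    rw [← map_mul, ← map_mul, e.injective.eq_iff]
  have mR : ∀ {r : K}, r ∈ R ↔ e r ∈ R.comap e.symm.toMonoidHom := by
    intro r
    show _ ↔ e.symm (e r) ∈ R
    simp
  have mS : ∀ {r : K}, r ∈ S ↔ e r ∈ S.comap e.symm.toMonoidHom := by
    intro r
    show _ ↔ e.symm (e r) ∈ S
    simp
  have htop : ∀ H : Subgroup L, H.comap e.toMonoidHom = ⊤ → H = ⊤ := by
    intro H hH
    rw [eq_top_iff]
    intro x _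
    have h2 : e.symm x ∈ H.comap e.toMonoidHom := by rw [hH]; exact mem_top _
    have h3 : e (e.symm x) ∈ H := h2
    rwa [e.apply_symm_apply] at h3
  refine
    { h.toSheet.map e with
      refl := ?_, refl' := ?_, fixS := ?_, irr := ?_, big := ?_, gen1 := ?_, gen2 := ?_, four := ?_ }
  · exact h.refl.map e (fun x => by rw [hρ, e.symm_apply_apply])
  · refine h.refl'.map e (fun x => ?_)
    rw [MulAut.mul_apply, MulAut.mul_apply, hρ, MulAut.conj_apply, MulAut.conj_apply]
    simp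
  · intro s hs
    have h1 : e.symm s ∈ S := hs
    rw [hρ, h.fixS _ h1, e.apply_symm_apply]
  · intro N hN hn
    rcases h.irr (N.comap e.toMonoidHom) (by
      intro x hx
      have h1 : e x ∈ N := hx
      exact mR.mpr (hN h1)) (by
      intro p hp n hn'
      have h1 : e n ∈ N := hn'
      have h2 := hn (e p) ((hz p).mp hp) (e n) h1
      show e (p * n * p⁻¹) ∈ N
      rwa [map_mul, map_mul, map_inv]) with h1 | h1
    · left
      intro n hn'
      have h2 : e.symm n ∈ N.comap e.toMonoidHom := by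
        show e (e.symm n) ∈ N
        rwa [e.apply_symm_apply]
      rcases h1 _ h2 with h3 | h3
      · left
        rw [← e.apply_symm_apply n, h3, map_one]
      · right
        rw [← h3, e.apply_symm_apply]
    · right
      rw [← h1]
      ext x
      show x ∈ N ↔ e (e.symm x) ∈ N
      rw [e.apply_symm_apply]
  · have h1 : Nat.card ↥(R.comap e.symm.toMonoidHom) = Nat.card ↥R := by
      have h2 : R.comap e.symm.toMonoidHom = R.map e.toMonoidHom := by
        ext x
        constructor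
        · intro hx
          exact ⟨e.symm x, hx, e.apply_symm_apply x⟩
        · rintro ⟨y, hy, rfl⟩
          exact mR.mp hy
      rw [h2]
      exact (Nat.card_congr (R.equivMapOfInjective _ e.injective).toEquiv).symm
    rw [h1]
    exact h.big
  · intro H h1 h2 h3
    apply htop
    refine h.gen1 _ ?_ ?_ ?_
    · intro x hx
      exact h1 (e x) ((hz x).mp hx)
    · intro x hx
      refine h2 (e x) ?_
      rw [hρ, e.symm_apply_apply, hx]
    · intro x hx
      refine h3 (e x) ?_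
      rw [hρ]
      have e1 : e.symm (e z * e x * (e z)⁻¹) = z * x * z⁻¹ := by simp
      rw [e1, hx]
  · intro H h1
    apply htop
    refine h.gen2 _ ?_
    intro r hr hr2 hr1 x hx
    refine h1 (e r) (mR.mp hr) ?_ ?_ (e x) ?_
    · rw [← map_mul, hr2, map_one]
    · intro h2
      exact hr1 (e.injective (by rw [h2, map_one]))
    · rw [← map_mul, ← map_mul, hx]
  · rintro α ⟨n, hn⟩ hα
    have hal : ∀ x : L, α x = e (pullAut e α (e.symm x)) := by
      intro x
      rw [pullAut_apply]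
      simp
    rcases h.four (pullAut e α) ⟨n, by rw [← pullAut_pow, hn, pullAut_one]⟩ (by
      intro s hs
      rw [pullAut_apply, hα _ (mS.mp hs), e.symm_apply_apply]) with h1 | h1 | h1 | h1
    · left
      intro x
      rw [hal, h1, e.apply_symm_apply]
    · right; left
      intro x
      rw [hal, h1]
      simp
    · right; right; left
      intro x
      rw [hal, h1, hρ]
    · right; right; right
      intro x
      rw [hal, h1, hρ]
      simp

theorem HasSheetL.of_equiv (h : HasSheetL K) (e : K ≃* L) : HasSheetL L := by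
  intro S
  obtain ⟨z, R, ρ, hs⟩ := h (sylowPull e S)
  have h1 := hs.map e
  have h2 : ((sylowPull e S : Subgroup K)).comap e.symm.toMonoidHom = (S : Subgroup L) := by
    ext x
    rw [mem_comap, mem_sylowPull]
    show e (e.symm x) ∈ _ ↔ _
    rw [e.apply_symm_apply]
  rw [h2] at h1
  exact ⟨_, _, _, h1⟩

theorem HasSheetL.of_one [Finite K] {S : Sylow 2 K} {z : K} {R : Subgroup K} {ρ : MulAut K}
    (h : SheetL K S R z ρ) : HasSheetL K := by
  intro T
  obtain ⟨g, hg⟩ := MulAction.exists_smul_eq K S T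
  have h1 := h.map (MulAut.conj g)
  have h2 : ((S : Subgroup K)).comap (MulAut.conj g).symm.toMonoidHom = (T : Subgroup K) := by
    rw [← hg]
    ext x
    rw [mem_comap]
    show (MulAut.conj g).symm x ∈ S ↔ x ∈ ((g • S : Sylow 2 K) : Subgroup K)
    rw [Sylow.coe_subgroup_smul, Subgroup.mem_pointwise_smul_iff_inv_smul_mem]
    rfl
  rw [h2] at h1
  exact ⟨_, _, _, h1⟩

theorem HasSheetL.hasSheet (h : HasSheetL K) : HasSheet K := by
  intro S
  obtain ⟨z, R, ρ, hs⟩ := h S
  exact ⟨z, R, hs.toSheet⟩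

end Transport

end Cfsg.Agent.OddHalf.D4.Small.LFour
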