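import Mathlib
import Cfsg.Agent.OddHalf.D4.Small.LFourDef

/-!
# ODD, D4, small Lie odd: `L₄(3)`, Theorem 1

`K`, `K'` two subgroups with the facts `BaseL`, no common involution in `C(K)`, `C(K')`. Then `C(K') ∩ N(K)` has
2-rank at most 1.
-/

set_option autoImplicit false

namespace Cfsg.Agent.OddHalf.D4.Small.LFour

open Subgroup Cfsg Basic

variable {G : Type*} [Group G]

/-- The facts on `K` used for every conjugate of `K`. -/
structure BaseL (K : Subgroup G) : Prop where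
  te : TE K
  cen : ∀ x ∈ K, x ∈ centralizer (K : Set G) → x = 1
  simp : ∀ N : Subgroup G, N ≤ K → (∀ a ∈ K, ∀ n ∈ N, a * n * a⁻¹ ∈ N) → N = ⊥ ∨ N = K
  sheet : HasSheetL ↥K
  /-- `m_2(C(K)) ≥ 2` -/
  rk : ∃ a ∈ centralizer (K : Set G), ∃ b ∈ centralizer (K : Set G), a * a = 1 ∧ b * b = 1 ∧ a ≠ 1 ∧ b ≠ 1 ∧
    a ≠ b ∧ a * b = b * a

theorem BaseL.toBase [Finite G] {K : Subgroup G} (h : BaseL K) : Base K :=
  ⟨h.te, h.cen, h.simp, fun _ hS => h.sheet.hasSheet.atS hS, h.rk⟩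

section Pull

variable {K S : Subgroup G}

theorem atS_of {P R : Subgroup ↥K} {z : ↥K} (hS : IsSyl S (normalizer (K : Set G)))
    (hP : ∀ x : ↥K, x ∈ P ↔ (x : G) ∈ S) (hs : Sheet ↥K P R z) : AtS K S (R.map K.subtype) (z : G) := by
  have hzP : z ∈ P := hs.RS hs.zR
  have hzS : (z : G) ∈ S := (hP z).mp hzP
  have huniq : ∀ x ∈ S, x ∈ K → x * x = 1 → x ≠ 1 → (∀ s ∈ S, s ∈ K → s * x = x * s) → x = (z : G) := by
    intro x hxS hxK hx2 hx1 hxc
    have h1 := hs.uniq ⟨x, hxK⟩ ((hP _).mpr hxS) (Subtype.ext hx2) (fun h1 => hx1 (congrArg Subtype.val h1))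
      (fun s hs' => Subtype.ext (hxc s ((hP s).mp hs') s.2))
    exact congrArg Subtype.val h1
  refine ⟨hs.toLocG, hzS, ?_, huniq⟩
  intro s hs'
  have hsN := hS.le hs'
  have h1 : s * (z : G) * s⁻¹ = z := by
    refine huniq _ (S.mul_mem (S.mul_mem hs' hzS) (S.inv_mem hs')) ((mem_normalizer_iff.mp hsN _).mp z.2) ?_ ?_ ?_
    · have h2 : (z : G) * z = 1 := congrArg Subtype.val hs.z2
      calc s * (z : G) * s⁻¹ * (s * z * s⁻¹) = s * ((z : G) * z) * s⁻¹ := by group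
        _ = 1 := by rw [h2]; group
    · intro h2
      apply hs.z1
      apply Subtype.ext
      have h3 : (z : G) = s⁻¹ * (s * z * s⁻¹) * s := by group
      rw [h3, h2]
      group
      rfl
    · intro t ht htK
      have h2 : s⁻¹ * t * s ∈ S := S.mul_mem (S.mul_mem (S.inv_mem hs') ht) hs'
      have h3 : s⁻¹ * t * s ∈ K := (mem_normalizer_iff''.mp hsN t).mp htK
      have h4 : (⟨s⁻¹ * t * s, h3⟩ : ↥K) * z = z * ⟨s⁻¹ * t * s, h3⟩ := hs.zc _ ((hP _).mpr h2)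
      have h5 : s⁻¹ * t * s * (z : G) = z * (s⁻¹ * t * s) := congrArg Subtype.val h4
      calc t * (s * (z : G) * s⁻¹) = s * (s⁻¹ * t * s * z) * s⁻¹ := by group
        _ = s * (z * (s⁻¹ * t * s)) * s⁻¹ := by rw [h5]
        _ = s * z * s⁻¹ * t := by group
  calc s * (z : G) = (s * z * s⁻¹) * s := by group
    _ = z * s := by rw [h1]

/-- the type of a 2-element centralizing the Sylow subgroup -/
def Ty (z : ↥K) (ρ : MulAut ↥K) (i : Fin 4) (x : ↥K) : ↥K :=
  if i = 0 then z * x * z⁻¹ else if i = 1 then ρ x else if i = 2 then ρ (z * x * z⁻¹) else x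

/-- A 2-element centralizing `S ∩ K` acts on `K` as one of the four automorphisms. -/
theorem act_four {P R : Subgroup ↥K} {z : ↥K} {ρ : MulAut ↥K} (hS : IsSyl S (normalizer (K : Set G)))
    (hP : ∀ x : ↥K, x ∈ P ↔ (x : G) ∈ S) (hs : SheetL ↥K P R z ρ) {c : G} (hc : c ∈ S)
    (hcc : ∀ s ∈ S, s ∈ K → c * s = s * c) : ∃ i : Fin 4, ∀ x : ↥K, c * x * c⁻¹ = (Ty z ρ i x : G) := by
  have hcN := hS.le hc
  obtain ⟨n, hn⟩ := hS.two ⟨c, hc⟩
  have hn' : c ^ 2 ^ n = 1 := congrArg Subtype.val hn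
  have h := hs.four (cAut hcN) ⟨n, by
    ext x
    rw [cAut_pow, hn']
    simp⟩ (fun s hs => (cAut_eq_iff hcN s).mpr (hcc s ((hP s).mp hs) s.2))
  rcases h with h | h | h | h
  · exact ⟨3, fun x => congrArg Subtype.val (h x)⟩
  · exact ⟨0, fun x => congrArg Subtype.val (h x)⟩
  · exact ⟨1, fun x => congrArg Subtype.val (h x)⟩
  · exact ⟨2, fun x => congrArg Subtype.val (h x)⟩

/-- two elements acting in the same way differ by an element of `C(K)` -/
theorem mem_centralizer_of_eq {c d : G} (hd : d ∈ normalizer (K : Set G))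
    (h : ∀ x : ↥K, c * x * c⁻¹ = d * x * d⁻¹) : c * d⁻¹ ∈ centralizer (K : Set G) := by
  rw [mem_centralizer_iff]
  intro x hx
  have h1 := h ⟨d⁻¹ * x * d, (mem_normalizer_iff''.mp hd x).mp hx⟩
  have h2 : c * (d⁻¹ * x * d) * c⁻¹ = d * (d⁻¹ * x * d) * d⁻¹ := h1
  calc x * (c * d⁻¹) = (d * (d⁻¹ * x * d) * d⁻¹) * (c * d⁻¹) := by group
    _ = (c * (d⁻¹ * x * d) * c⁻¹) * (c * d⁻¹) := by rw [h2]
    _ = c * d⁻¹ * x := by group

theorem le_of_subgroupOf {H : Subgroup G} (h : H.subgroupOf K = ⊤) : K ≤ H := by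
  intro x hx
  have h2 : (⟨x, hx⟩ : ↥K) ∈ H.subgroupOf K := by rw [h]; exact mem_top _
  exact mem_subgroupOf.mp h2

end Pull

/-- `K ≤ N(K')` is impossible when some element of `C(K') ∩ N(K)` is not in `C(K)`. -/
theorem inf_eq_bot {K K' : Subgroup G} (hK : BaseL K) (hcom : ¬ K ≤ centralizer (K' : Set G))
    (hle : K ≤ normalizer (K' : Set G)) : ∀ x ∈ K, x ∈ centralizer (K' : Set G) → x = 1 := by
  rcases hK.simp (K ⊓ centralizer (K' : Set G)) inf_le_left (by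
    intro x hx n hn
    exact ⟨K.mul_mem (K.mul_mem hx hn.1) (K.inv_mem hx), mem_centralizer_conj (hle hx) hn.2⟩) with h1 | h1
  · intro x hx hxC
    have h2 : x ∈ K ⊓ centralizer (K' : Set G) := ⟨hx, hxC⟩
    rw [h1, mem_bot] at h2
    exact h2
  · exfalso
    apply hcom
    intro x hx
    have h2 : x ∈ K ⊓ centralizer (K' : Set G) := by rw [h1]; exact hx
    exact h2.2

/-- Step A: `z ∈ C(K')`. -/
theorem z_mem {K K' S : Subgroup G} {P R : Subgroup ↥K} {z : ↥K} {ρ : MulAut ↥K} {a b : G} (hK : BaseL K)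
    (te' : TE K')
    (nc : ∀ x ∈ centralizer (K : Set G), x ∈ centralizer (K' : Set G) → x * x = 1 → x = 1)
    (hcom : ¬ K ≤ centralizer (K' : Set G))
    (hS : IsSyl S (normalizer (K : Set G))) (hP : ∀ x : ↥K, x ∈ P ↔ (x : G) ∈ S) (hs : SheetL ↥K P R z ρ)
    (haS : a ∈ S) (hbS : b ∈ S)
    (haC : a ∈ centralizer (K' : Set G)) (hbC : b ∈ centralizer (K' : Set G)) (ha2 : a * a = 1)
    (hb2 : b * b = 1) (ha1 : a ≠ 1) (hb1 : b ≠ 1) (hne : a ≠ b) (hab : a * b = b * a) :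
    (z : G) ∈ centralizer (K' : Set G) := by
  by_contra hz
  have hA := atS_of hS hP hs.toSheet
  have hT : Two K K' z a b := ⟨hS.le haS, hS.le hbS, haC, hbC, ha2, hb2, ha1, hb1, hne, hab, hA.zc a haS,
    hA.zc b hbS⟩
  obtain ⟨h1, h2⟩ := centralizes hA.loc te' hz hT
  obtain ⟨-, h3⟩ := centralizes hA.loc te' hz hT.right
  -- the types
  have ty : ∀ c ∈ S, (∀ p ∈ K, p * z = z * p → c * p = p * c) →
      ∃ i : Fin 4, ∀ x : ↥K, c * x * c⁻¹ = (Ty z ρ i x : G) := fun c hc hcP =>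
    act_four hS hP hs hc (fun s hsS hsK => hcP s hsK (hA.zc s hsS))
  obtain ⟨i, hi⟩ := ty a haS h1
  obtain ⟨j, hj⟩ := ty b hbS h2
  obtain ⟨k, hk⟩ := ty (a * b) (mul_mem haS hbS) h3
  have triv : ∀ c : G, c ∈ centralizer (K' : Set G) → c * c = 1 → c ≠ 1 →
      (∀ x : ↥K, c * x * c⁻¹ = (Ty z ρ 3 x : G)) → False := by
    intro c hcC hc2 hc1 hc
    apply hc1
    refine nc c ?_ hcC hc2
    rw [mem_centralizer_iff]
    intro x hx
    have h4 : c * x * c⁻¹ = x := hc ⟨x, hx⟩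
    calc x * c = (c * x * c⁻¹) * c := by rw [h4]
      _ = c * x := by group
  have same : ∀ c d : G, d ∈ normalizer (K : Set G) → c ∈ centralizer (K' : Set G) →
      d ∈ centralizer (K' : Set G) → c * c = 1 → d * d = 1 → c ≠ d → c * d = d * c →
      ∀ l : Fin 4, (∀ x : ↥K, c * x * c⁻¹ = (Ty z ρ l x : G)) → (∀ x : ↥K, d * x * d⁻¹ = (Ty z ρ l x : G)) →
      False := by
    intro c d hdN hcC hdC hc2 hd2 hcd hcomm l hc hd
    have h4 := mem_centralizer_of_eq hdN (fun x => (hc x).trans (hd x).symm)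
    have h5 : d⁻¹ = d := inv_eq_self_of hd2
    rw [h5] at h4
    apply hcd
    have h6 : c * d = 1 := by
      refine nc _ h4 (mul_mem hcC hdC) ?_
      calc c * d * (c * d) = c * (d * c) * d := by group
        _ = c * (c * d) * d := by rw [hcomm]
        _ = (c * c) * (d * d) := by group
        _ = 1 := by rw [hc2, hd2, mul_one]
    calc c = c * (d * d) := by rw [hd2, mul_one]
      _ = (c * d) * d := by group
      _ = d := by rw [h6, one_mul]
  have hr := hT.right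
  have hr' := hT.symm.right
  have hi3 : i ≠ 3 := by rintro rfl; exact triv a haC ha2 ha1 hi
  have hj3 : j ≠ 3 := by rintro rfl; exact triv b hbC hb2 hb1 hj
  have hk3 : k ≠ 3 := by rintro rfl; exact triv _ hr.bC hr.b2 hr.b1 hk
  have hij : i ≠ j := by
    rintro rfl
    exact same a b hT.bN haC hbC ha2 hb2 hne hab i hi hj
  have hik : i ≠ k := by
    rintro rfl
    exact same a (a * b) hr.bN haC hr.bC ha2 hr.b2 hr.ab hr.com i hi hk
  have hjk : j ≠ k := by
    rintro rfl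
    have h5 : b ≠ a * b := by
      intro h6
      exact ha1 (by simpa using h6.symm)
    refine same b (a * b) hr.bN hbC hr.bC hb2 hr.b2 h5 ?_ j hj hk
    calc b * (a * b) = (b * a) * b := by group
      _ = (a * b) * b := by rw [hab]
  have hall : ∀ l : Fin 4, l ≠ 3 → ∃ c ∈ centralizer (K' : Set G), c * c = 1 ∧ c ≠ 1 ∧
      ∀ x : ↥K, c * x * c⁻¹ = (Ty z ρ l x : G) := by
    intro l hl
    have key : ∀ i j k l : Fin 4, i ≠ 3 → j ≠ 3 → k ≠ 3 → i ≠ j → i ≠ k → j ≠ k → l ≠ 3 →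
        l = i ∨ l = j ∨ l = k := by decide
    rcases key i j k l hi3 hj3 hk3 hij hik hjk hl with rfl | rfl | rfl
    · exact ⟨a, haC, ha2, ha1, hi⟩
    · exact ⟨b, hbC, hb2, hb1, hj⟩
    · exact ⟨a * b, hr.bC, hr.b2, hr.b1, hk⟩
  -- `K ≤ N(K')`
  have hKN : K ≤ normalizer (K' : Set G) := by
    apply le_of_subgroupOf
    have key : ∀ l : Fin 4, l ≠ 3 → ∀ x : ↥K, Ty z ρ l x = x → x ∈ (normalizer (K' : Set G)).subgroupOf K := by
      intro l hl x hx
      obtain ⟨c, hcC, hc2, hc1, hc⟩ := hall l hl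
      rw [mem_subgroupOf]
      refine te' c hcC hc2 hc1 x ?_
      have h4 := hc x
      rw [hx] at h4
      calc (x : G) * c = (c * x * c⁻¹) * c := by rw [h4]
        _ = c * x := by group
    refine hs.gen1 _ ?_ ?_ ?_
    · intro x hx
      refine key 0 (by decide) x ?_
      show z * x * z⁻¹ = x
      rw [← hx]
      group
    · intro x hx
      exact key 1 (by decide) x hx
    · intro x hx
      exact key 2 (by decide) x hx
  have hbot := inf_eq_bot hK hcom hKN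
  apply ha1
  refine nc a ?_ haC ha2
  rw [mem_centralizer_iff]
  intro x hx
  have h4 : a * x * a⁻¹ * x⁻¹ = 1 := by
    refine hbot _ (K.mul_mem ((mem_normalizer_iff.mp hT.aN x).mp hx) (K.inv_mem hx)) ?_
    have h5 := mul_mem haC (mem_centralizer_conj (hKN hx) (inv_mem haC))
    have h6 : a * (x * a⁻¹ * x⁻¹) = a * x * a⁻¹ * x⁻¹ := by group
    rwa [h6] at h5
  calc x * a = (a * x * a⁻¹ * x⁻¹)⁻¹ * (a * x) := by group
    _ = a * x := by rw [h4, inv_one, one_mul]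

/-- conjugation as a homomorphism -/
def conjN (K : Subgroup G) : ↥(normalizer (K : Set G)) →* MulAut ↥K where
  toFun a := cAut a.2
  map_one' := by
    ext x
    rw [cAut_coe]
    simp
  map_mul' a b := by
    ext x
    rw [MulAut.mul_apply, cAut_coe, cAut_coe, cAut_coe, coe_mul]
    group

/-- **Theorem 1.** -/
theorem rank_le_one [Finite G] {K K' : Subgroup G} (hK : BaseL K) (hK' : BaseL K')
    (nc : ∀ x ∈ centralizer (K : Set G), x ∈ centralizer (K' : Set G) → x * x = 1 → x = 1)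
    (hcom : ¬ K ≤ centralizer (K' : Set G)) (hcom' : ¬ K' ≤ centralizer (K : Set G))
    {a b : G} (haN : a ∈ normalizer (K : Set G)) (hbN : b ∈ normalizer (K : Set G))
    (haC : a ∈ centralizer (K' : Set G)) (hbC : b ∈ centralizer (K' : Set G)) (ha2 : a * a = 1)
    (hb2 : b * b = 1) (ha1 : a ≠ 1) (hb1 : b ≠ 1) (hne : a ≠ b) (hab : a * b = b * a) : False := by
  have nc' : ∀ x ∈ centralizer (K' : Set G), x ∈ centralizer (K : Set G) → x * x = 1 → x = 1 :=
    fun x h1 h2 h3 => nc x h2 h1 h3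
  have mem_cl : ∀ a b : G, a ∈ closure ({a, b} : Set G) ∧ b ∈ closure ({a, b} : Set G) := fun a b =>
    ⟨subset_closure (by simp), subset_closure (by simp)⟩
  have cl_le : ∀ (a b : G) (H : Subgroup G), a ∈ H → b ∈ H → closure ({a, b} : Set G) ≤ H := by
    intro a b H ha hb
    rw [closure_le]
    rintro x (rfl | hx)
    · exact ha
    · rw [Set.mem_singleton_iff] at hx
      subst hx
      exact hb
  -- the first Sylow subgroup
  obtain ⟨S, hS, hle⟩ := exists_isSyl (isPGroup_pair ha2 hb2 hab) (cl_le a b _ haN hbN)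
  obtain ⟨P, hP⟩ := exists_sylow_inf hS
  obtain ⟨z, R, ρ, hs⟩ := hK.sheet P
  have hA := atS_of hS hP hs.toSheet
  have hz := z_mem hK hK'.te nc hcom hS hP hs (hle (mem_cl a b).1) (hle (mem_cl a b).2) haC hbC ha2 hb2 ha1
    hb1 hne hab
  -- the second one
  have hCN : centralizer (K : Set G) ≤ normalizer (K' : Set G) := by
    intro x hx
    exact hK'.te z hz hA.loc.z2 hA.loc.z1 x (comm_of_centralizer hx hA.loc.zK).symm
  obtain ⟨c, hc, d, hd, hc2, hd2, hc1, hd1, hcd, hcdc⟩ := hK.rk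
  obtain ⟨S', hS', hle'⟩ := exists_isSyl (isPGroup_pair hc2 hd2 hcdc) (cl_le c d _ (hCN hc) (hCN hd))
  obtain ⟨P', hP'⟩ := exists_sylow_inf hS'
  obtain ⟨z', R', ρ', hs'⟩ := hK'.sheet P'
  have hA' := atS_of hS' hP' hs'.toSheet
  have hz' := z_mem hK' hK.te nc' hcom' hS' hP' hs' (hle' (mem_cl c d).1) (hle' (mem_cl c d).2) hc hd hc2 hd2
    hc1 hd1 hcd hcdc
  -- the common Sylow subgroup
  obtain ⟨T, hT, -⟩ := exists_isSyl (M := normalizer (K : Set G) ⊓ normalizer (K' : Set G))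
    (Q := (⊥ : Subgroup G)) IsPGroup.of_bot bot_le
  obtain ⟨S₁, hS₁, hTS₁⟩ := exists_isSyl hT.two (hT.le.trans inf_le_left)
  obtain ⟨P₁, hP₁⟩ := exists_sylow_inf hS₁
  obtain ⟨z₁, R₁, ρ₁, hs₁⟩ := hK.sheet P₁
  have hA₁ := atS_of hS₁ hP₁ hs₁.toSheet
  obtain ⟨hTK, hz₁⟩ := sylow_inf hK'.te hS hA hz hT hS₁ hTS₁ hA₁
  have hT' : IsSyl T (normalizer (K' : Set G) ⊓ normalizer (K : Set G)) := by rw [inf_comm]; exact hT
  obtain ⟨S₂, hS₂, hTS₂⟩ := exists_isSyl hT'.two (hT'.le.trans inf_le_left)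
  obtain ⟨P₂, hP₂⟩ := exists_sylow_inf hS₂
  obtain ⟨z₂, R₂, ρ₂, hs₂⟩ := hK'.sheet P₂
  have hA₂ := atS_of hS₂ hP₂ hs₂.toSheet
  obtain ⟨hTK', hz₂⟩ := sylow_inf hK.te hS' hA' hz' hT' hS₂ hTS₂ hA₂
  -- `T ∩ K ∩ K' = 1`
  have hTKK : ∀ x ∈ T, x ∈ K → x ∈ K' → x = 1 := by
    intro x hxT hxK hxK'
    by_contra hx1
    obtain ⟨y, hyT, hyN, hy2, hyc⟩ := CommConj.exists_central_involution (S := T ⊓ K) (N := K ⊓ K')
      (hT.two.to_le inf_le_left) (by
        intro s hs n hn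
        refine ⟨K.mul_mem (K.mul_mem hs.2 hn.1) (K.inv_mem hs.2), ?_⟩
        exact (mem_normalizer_iff.mp (hT.le hs.1).2 n).mp hn.2)
      ⟨x, ⟨hxT, hxK⟩, ⟨hxK, hxK'⟩, hx1⟩
    have hy22 : y * y = 1 := sq_one hy2
    have hy1 : y ≠ 1 := by
      rintro rfl
      rw [orderOf_one] at hy2
      exact absurd hy2 (by norm_num)
    have h1 : y = z₁ := by
      refine hA₁.uniq y (hTS₁ hyT.1) hyT.2 hy22 hy1 ?_
      intro s hs hsK
      have h2 : s ∈ T ⊓ K := by rw [← hTK]; exact ⟨hs, hsK⟩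
      exact hyc s h2
    apply hy1
    refine hK'.cen y hyN.2 ?_
    rw [h1]
    exact hz₁
  -- `T ∩ K` acts on `K'` by the four automorphisms
  have hfour : ∀ s ∈ T ⊓ K, ∃ i : Fin 4, ∀ x : ↥K', s * x * s⁻¹ = (Ty z₂ ρ₂ i x : G) := by
    intro s hs
    refine act_four hS₂ hP₂ hs₂ (hTS₂ hs.1) ?_
    intro u hu huK
    have hu' : u ∈ T ⊓ K' := by rw [← hTK']; exact ⟨hu, huK⟩
    have h1 : u * s * u⁻¹ * s⁻¹ = 1 := by
      refine hTKK _ ?_ ?_ ?_
      · exact T.mul_mem (T.mul_mem (T.mul_mem hu'.1 hs.1) (T.inv_mem hu'.1)) (T.inv_mem hs.1)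
      · exact K.mul_mem ((mem_normalizer_iff.mp (hT.le hu'.1).1 s).mp hs.2) (K.inv_mem hs.2)
      · have h2 : u * s * u⁻¹ * s⁻¹ = u * (s * u⁻¹ * s⁻¹) := by group
        rw [h2]
        exact K'.mul_mem huK ((mem_normalizer_iff.mp (hT.le hs.1).2 u⁻¹).mp (K'.inv_mem huK))
    calc s * u = (u * s * u⁻¹ * s⁻¹)⁻¹ * (u * s) := by group
      _ = u * s := by rw [h1, inv_one, one_mul]
  -- `R₁ ≤ T ∩ K`
  have hR₁T : ∀ r ∈ R₁, (r : G) ∈ T ⊓ K := by
    intro r hr
    rw [← hTK]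
    exact ⟨(hP₁ r).mp (hs₁.RS hr), r.2⟩
  -- `R₁ ∩ C(K')` has index at most 4
  have hR₁N : ∀ r ∈ R₁, (r : G) ∈ normalizer (K' : Set G) := fun r hr => (hT.le (hR₁T r hr).1).2
  let f : ↥R₁ →* MulAut ↥K' :=
    { toFun := fun r => conjN K' ⟨(r : ↥K), hR₁N r r.2⟩
      map_one' := by
        rw [← map_one (conjN K')]
        rfl
      map_mul' := by
        intro r s
        rw [← map_mul]
        rfl }
  have hf : ∀ (r : ↥R₁) (x : ↥K'), ((f r x : ↥K') : G) = (r : ↥K) * x * ((r : ↥K) : G)⁻¹ := fun r x => rfl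
  have hcenK : (z₁ : G) ∈ centralizer (K' : Set G) := hz₁
  have hker : (∀ n ∈ f.ker.map R₁.subtype, n = 1 ∨ n = z₁) ∨ f.ker.map R₁.subtype = R₁ := by
    refine hs₁.irr _ (map_subtype_le _) ?_
    rintro p hp _ ⟨n, hn, rfl⟩
    have hpN : (p : G) ∈ normalizer (K' : Set G) := hK'.te z₁ hcenK (congrArg Subtype.val hs₁.z2)
      (fun h => hs₁.z1 (Subtype.ext h)) p (congrArg Subtype.val hp)
    have h1 : ((n : ↥K) : G) ∈ centralizer (K' : Set G) := by
      rw [mem_centralizer_iff]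
      intro x hx
      have h2 : f n = 1 := hn
      have h3 := hf n ⟨x, hx⟩
      rw [h2] at h3
      have h4 : x = (n : ↥K) * x * ((n : ↥K) : G)⁻¹ := h3
      calc x * ((n : ↥K) : G) = ((n : ↥K) * x * ((n : ↥K) : G)⁻¹) * (n : ↥K) := by rw [← h4]
        _ = (n : ↥K) * x := by group
    have h2 : (p : G) * (n : ↥K) * (p : G)⁻¹ ∈ centralizer (K' : Set G) := mem_centralizer_conj hpN h1
    refine ⟨⟨p * n * p⁻¹, hs₁.Rn p hp n n.2⟩, ?_, rfl⟩
    show f _ = 1
    ext x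
    rw [hf]
    have h3 := mem_centralizer_iff.mp h2 x x.2
    show (p : G) * (n : ↥K) * (p : G)⁻¹ * x * ((p : G) * (n : ↥K) * (p : G)⁻¹)⁻¹ = x
    rw [← h3]
    group
  have hR₁C : ∀ r ∈ R₁, (r : G) ∈ centralizer (K' : Set G) := by
    rcases hker with h1 | h1
    · exfalso
      -- the kernel has at most 2 elements, the range at most 4
      have hk2 : Nat.card ↥f.ker ≤ 2 := by
        have h2 : Set.InjOn (fun n : ↥R₁ => (n : ↥K)) (f.ker : Set ↥R₁) := fun a _ b _ h => Subtype.ext h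
        have h3 : (f.ker : Set ↥R₁).ncard ≤ ({1, z₁} : Set ↥K).ncard := by
          refine Set.ncard_le_ncard_of_injOn (fun n : ↥R₁ => (n : ↥K)) ?_ h2 (Set.toFinite _)
          intro n hn
          rcases h1 n ⟨n, hn, rfl⟩ with h4 | h4
          · exact Or.inl h4
          · exact Or.inr h4
        have h4 : ({1, z₁} : Set ↥K).ncard ≤ 2 := Set.ncard_insert_le _ _ |>.trans (by rw [Set.ncard_singleton])
        have h5 : Nat.card ↥f.ker = (f.ker : Set ↥R₁).ncard := rfl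
        omega
      have hr4 : Nat.card ↥f.range ≤ 4 := by
        have h3 : ∀ α : ↥f.range, ∃ i : Fin 4, ∀ x : ↥K', ((α : MulAut ↥K') x : G) = (Ty z₂ ρ₂ i x : G) := by
          rintro ⟨_, r, rfl⟩
          obtain ⟨i, hi⟩ := hfour _ (hR₁T r r.2)
          exact ⟨i, fun x => by rw [← hi]; exact hf r x⟩
        choose g hg using h3
        have h4 : Function.Injective g := by
          intro α β hαβ
          apply Subtype.ext
          ext x
          rw [hg, hg, hαβ]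
        have h5 := Nat.card_le_card_of_injective g h4
        rwa [Nat.card_fin] at h5
      have h2 : Nat.card ↥R₁ = Nat.card ↥f.range * Nat.card ↥f.ker := by
        rw [← index_ker f, mul_comm, card_mul_index]
      have h3 := hs₁.big
      rw [h2] at h3
      have h4 : Nat.card ↥f.range * Nat.card ↥f.ker ≤ 4 * 2 := Nat.mul_le_mul hr4 hk2
      omega
    · intro r hr
      have h2 : r ∈ f.ker.map R₁.subtype := by rw [h1]; exact hr
      obtain ⟨n, hn, rfl⟩ := h2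
      rw [mem_centralizer_iff]
      intro x hx
      have h2 : f n = 1 := hn
      have h3 := hf n ⟨x, hx⟩
      rw [h2] at h3
      have h4 : x = (n : ↥K) * x * ((n : ↥K) : G)⁻¹ := h3
      show x * ((n : ↥K) : G) = (n : ↥K) * x
      calc x * ((n : ↥K) : G) = ((n : ↥K) * x * ((n : ↥K) : G)⁻¹) * (n : ↥K) := by rw [← h4]
        _ = (n : ↥K) * x := by group
  have hKN : K ≤ normalizer (K' : Set G) := by
    apply le_of_subgroupOf
    refine hs₁.gen2 _ ?_
    intro r hr hr2 hr1 x hx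
    rw [mem_subgroupOf]
    exact hK'.te r (hR₁C r hr) (congrArg Subtype.val hr2) (fun h => hr1 (Subtype.ext h)) x
      (congrArg Subtype.val hx)
  exact hs₁.z1 (Subtype.ext (inf_eq_bot hK hcom hKN z₁ z₁.2 hz₁))

end Cfsg.Agent.OddHalf.D4.Small.LFour
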