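import Mathlib
import Cfsg.Agent.OddHalf.D4.Small.LFourG

/-!
# ODD, D4, small Lie odd: `L₄(3)`, the end

`𝒦` a family of subgroups closed under conjugation, with the facts `BaseL`. A reflection `u` on `X ∈ 𝒦` which
centralizes `Y ∈ 𝒦` is impossible.
-/

set_option autoImplicit false

namespace Cfsg.Agent.OddHalf.D4.Small.LFour

open Subgroup Cfsg Basic CommConj

variable {G : Type*} [Group G]

structure FamL (F : Set (Subgroup G)) : Prop where
  base : ∀ X ∈ F, BaseL X
  cj : ∀ X ∈ F, ∀ g, cj g X ∈ F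
  nc : ∀ X ∈ F, ∀ Y ∈ F, X ≠ Y → ∀ x ∈ centralizer (X : Set G), x ∈ centralizer (Y : Set G) → x * x = 1 → x = 1
  com : ∀ X ∈ F, ∀ Y ∈ F, X ≠ Y → ¬ X ≤ centralizer (Y : Set G)

variable {F : Set (Subgroup G)} {X Y : Subgroup G}

/-- **Theorem 1.** -/
theorem thm1 [Finite G] (hF : FamL F) (hX : X ∈ F) (hY : Y ∈ F) (hne : X ≠ Y) {a b : G}
    (haN : a ∈ normalizer (X : Set G)) (hbN : b ∈ normalizer (X : Set G))
    (haC : a ∈ centralizer (Y : Set G)) (hbC : b ∈ centralizer (Y : Set G)) (ha2 : a * a = 1)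
    (hb2 : b * b = 1) (ha1 : a ≠ 1) (hb1 : b ≠ 1) (hab : a ≠ b) (hc : a * b = b * a) : False :=
  rank_le_one (hF.base X hX) (hF.base Y hY) (hF.nc X hX Y hY hne) (hF.com X hX Y hY hne)
    (hF.com Y hY X hX hne.symm) haN hbN haC hbC ha2 hb2 ha1 hb1 hab hc

theorem cl_pair_le {a b : G} {H : Subgroup G} (ha : a ∈ H) (hb : b ∈ H) : closure ({a, b} : Set G) ≤ H := by
  rw [closure_le]
  rintro x (rfl | hx)
  · exact ha
  · rw [Set.mem_singleton_iff] at hx
    subst hx
    exact hb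

theorem conj_sq {m x : G} (h : x * x = 1) : m * x * m⁻¹ * (m * x * m⁻¹) = 1 := by
  calc m * x * m⁻¹ * (m * x * m⁻¹) = m * (x * x) * m⁻¹ := by group
    _ = 1 := by rw [h]; group

theorem conj_ne_one {m x : G} (h : x ≠ 1) : m * x * m⁻¹ ≠ 1 := by
  intro h1
  apply h
  calc x = m⁻¹ * (m * x * m⁻¹) * m := by group
    _ = 1 := by rw [h1]; group

theorem conj_inj {m x y : G} (h : x ≠ y) : m * x * m⁻¹ ≠ m * y * m⁻¹ := by
  intro h1
  exact h (mul_left_cancel (mul_right_cancel h1))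

theorem conj_comm {m x y : G} (h : x * y = y * x) : m * x * m⁻¹ * (m * y * m⁻¹) = m * y * m⁻¹ * (m * x * m⁻¹) := by
  calc m * x * m⁻¹ * (m * y * m⁻¹) = m * (x * y) * m⁻¹ := by group
    _ = m * (y * x) * m⁻¹ := by rw [h]
    _ = m * y * m⁻¹ * (m * x * m⁻¹) := by group

theorem order_facts {x : G} (h : orderOf x = 2) : x * x = 1 ∧ x ≠ 1 := by
  refine ⟨sq_one h, ?_⟩
  rintro rfl
  rw [orderOf_one] at h
  exact absurd h (by norm_num)

/-- Two distinct commuting involutions of `C(X)` commuting with a given `b`. -/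
theorem rank2 [Finite G] (hX : BaseL X) {b : G} (hb : b ∈ centralizer (X : Set G)) (hb2 : b * b = 1) :
    ∃ c ∈ centralizer (X : Set G), ∃ d ∈ centralizer (X : Set G), c * c = 1 ∧ d * d = 1 ∧ c ≠ 1 ∧ d ≠ 1 ∧
      c ≠ d ∧ c * d = d * c ∧ b * c = c * b ∧ b * d = d * b := by
  obtain ⟨c, hc, d, hd, hc2, hd2, hc1, hd1, hcd, hcdc⟩ := hX.rk
  by_cases hb1 : b = 1
  · subst hb1
    exact ⟨c, hc, d, hd, hc2, hd2, hc1, hd1, hcd, hcdc, by simp, by simp⟩
  obtain ⟨T, hT, hbT⟩ := exists_isSyl (isPGroup_pair hb2 hb2 rfl) (cl_pair_le hb hb)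
  have hbT' : b ∈ T := hbT (subset_closure (by simp))
  obtain ⟨z, hzT, hz, hzc⟩ := exists_central_invol hT.two le_rfl (by
    intro h
    rw [h, mem_bot] at hbT'
    exact hb1 hbT') (fun t ht n hn => T.mul_mem (T.mul_mem ht hn) (T.inv_mem ht))
  obtain ⟨hz2, hz1⟩ := order_facts hz
  by_cases hbz : b = z
  · subst hbz
    obtain ⟨m, hm, hmT⟩ := hT.conj_into (isPGroup_pair hc2 hd2 hcdc) (cl_pair_le hc hd)
    have hcT := hmT c (subset_closure (by simp))
    have hdT := hmT d (subset_closure (by simp))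
    exact ⟨_, hT.le hcT, _, hT.le hdT, conj_sq hc2, conj_sq hd2, conj_ne_one hc1, conj_ne_one hd1,
      conj_inj hcd, conj_comm hcdc, (hzc _ hcT).symm, (hzc _ hdT).symm⟩
  · exact ⟨b, hb, z, hT.le hzT, hb2, hz2, hb1, hz1, hbz, hzc b hbT', rfl, hzc b hbT'⟩

/-- An involution of `C(Y)` is not in `X C(X)`. -/
theorem noIn [Finite G] (hF : FamL F) (hX : X ∈ F) (hY : Y ∈ F) (hne : X ≠ Y) {w k c : G}
    (hw : w ∈ centralizer (Y : Set G)) (hw2 : w * w = 1) (hw1 : w ≠ 1) (hk : k ∈ X)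
    (hc : c ∈ centralizer (X : Set G)) (hwkc : w = k * c) : False := by
  have hkc : k * c = c * k := comm_of_centralizer hc hk
  obtain ⟨hc2, hk2⟩ := mul_self_split (hF.base X hX).cen hc hk (by rw [← hkc, ← hwkc]; exact hw2)
  obtain ⟨a, ha, b, hb, ha2, hb2, ha1, hb1, hab, habc, hca, hcb⟩ := rank2 (hF.base X hX) hc hc2
  have key : ∀ x ∈ centralizer (X : Set G), c * x = x * c → x ∈ normalizer (Y : Set G) := by
    intro x hx hcx
    refine (hF.base Y hY).te w hw hw2 hw1 x ?_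
    have h1 : k * x = x * k := comm_of_centralizer hx hk
    calc x * w = x * k * c := by rw [hwkc]; group
      _ = k * (x * c) := by rw [← h1]; group
      _ = k * c * x := by rw [← hcx]; group
      _ = w * x := by rw [hwkc]
  exact thm1 hF hY hX hne.symm (key a ha hca) (key b hb hcb) ha hb ha2 hb2 ha1 hb1 hab habc

theorem syl_norm_cent {S : Subgroup G} (hS : IsSyl S (normalizer (X : Set G))) :
    ∀ t ∈ S, ∀ x ∈ S ⊓ centralizer (X : Set G), t * x * t⁻¹ ∈ S ⊓ centralizer (X : Set G) := by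
  intro t ht x hx
  exact ⟨S.mul_mem (S.mul_mem ht hx.1) (S.inv_mem ht), mem_centralizer_conj (hS.le ht) hx.2⟩

/-- conjugating a pair of elements of `C(X)` into `S ∩ C(X)` -/
theorem conj_pair [Finite G] {S : Subgroup G} (hS : IsSyl S (normalizer (X : Set G))) {c d : G}
    (hc : c ∈ centralizer (X : Set G)) (hd : d ∈ centralizer (X : Set G)) (hc2 : c * c = 1) (hd2 : d * d = 1)
    (hcd : c * d = d * c) : ∃ i : G, i * c * i⁻¹ ∈ S ⊓ centralizer (X : Set G) ∧
      i * d * i⁻¹ ∈ S ⊓ centralizer (X : Set G) := by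
  obtain ⟨i, -, hiq⟩ := hS.conj_into_inf (I := centralizer (X : Set G)) (centralizer_le_normalizer' X)
    (by
      intro t ht
      rw [mem_normalizer_iff]
      intro x
      constructor
      · intro hx
        exact mem_centralizer_conj (hS.le ht) hx
      · intro hx
        have h1 := mem_centralizer_conj' (hS.le ht) hx
        have h2 : t⁻¹ * (t * x * t⁻¹) * t = x := by group
        rwa [h2] at h1)
    (isPGroup_pair hc2 hd2 hcd) (cl_pair_le hc hd)
  exact ⟨i, hiq c (subset_closure (by simp)), hiq d (subset_closure (by simp))⟩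

/-- Lemma A -/
theorem lemmaA [Finite G] (hX : BaseL X) {u : G} (hu : u ∈ normalizer (X : Set G)) (hu2 : u * u = 1) :
    ∃ v ∈ centralizer (X : Set G), v * v = 1 ∧ v ≠ 1 ∧ u * v = v * u := by
  obtain ⟨S, hS, huS⟩ := exists_isSyl (isPGroup_pair hu2 hu2 rfl) (cl_pair_le hu hu)
  have huS' : u ∈ S := huS (subset_closure (by simp))
  obtain ⟨c, hc, d, hd, hc2, hd2, hc1, hd1, hcd, hcdc⟩ := hX.rk
  obtain ⟨i, hic, -⟩ := conj_pair hS hc hd hc2 hd2 hcdc
  obtain ⟨v, hv, hvo, hvc⟩ := exists_central_invol (N := S ⊓ centralizer (X : Set G)) hS.two inf_le_left (by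
    intro h
    rw [h, mem_bot] at hic
    exact conj_ne_one hc1 hic) (syl_norm_cent hS)
  obtain ⟨hv2, hv1⟩ := order_facts hvo
  exact ⟨v, hv.2, hv2, hv1, hvc u huS'⟩

/-- Two involutions in a 2-subgroup of `C(X) ∩ N(Y)` are equal. -/
theorem uniq_inv [Finite G] (hF : FamL F) (hX : X ∈ F) (hY : Y ∈ F) (hne : X ≠ Y) {D : Subgroup G} (hD : IsPGroup 2 ↥D)
    (hDC : ∀ x ∈ D, x ∈ centralizer (X : Set G)) (hDN : ∀ x ∈ D, x * x = 1 → x ∈ normalizer (Y : Set G))
    {s t : G} (hs : s ∈ D) (ht : t ∈ D) (hs2 : s * s = 1) (ht2 : t * t = 1) (hs1 : s ≠ 1) (ht1 : t ≠ 1) :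
    s = t := by
  obtain ⟨z, hzD, hz, hzc⟩ := exists_central_invol hD le_rfl (by
    intro h
    rw [h, mem_bot] at hs
    exact hs1 hs) (fun t ht n hn => D.mul_mem (D.mul_mem ht hn) (D.inv_mem ht))
  obtain ⟨hz2, hz1⟩ := order_facts hz
  have key : ∀ x ∈ D, x * x = 1 → x ≠ 1 → x = z := by
    intro x hx hx2 hx1
    by_contra hxz
    exact thm1 hF hY hX hne.symm (hDN x hx hx2) (hDN z hzD hz2) (hDC x hx) (hDC z hzD) hx2 hz2 hx1 hz1 hxz
      (hzc x hx)
  rw [key s hs hs2 hs1, key t ht ht2 ht1]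

/-- Lemma B -/
theorem lemmaB [Finite G] (hF : FamL F) (hX : X ∈ F) (hY : Y ∈ F) (hne : X ≠ Y) {u v : G}
    (huN : u ∈ normalizer (X : Set G)) (huC : u ∈ centralizer (Y : Set G)) (hu2 : u * u = 1) (hu1 : u ≠ 1)
    (hvC : v ∈ centralizer (X : Set G)) (hv2 : v * v = 1) (hv1 : v ≠ 1) (huv : u * v = v * u) :
    ∃ q ∈ centralizer (X : Set G), q⁻¹ * u * q = u * v ∧ q⁻¹ * v * q = v := by
  have hCN : centralizer (X : Set G) ≤ normalizer (X : Set G) := centralizer_le_normalizer' X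
  obtain ⟨S, hS, huvS⟩ := exists_isSyl (isPGroup_pair hu2 hv2 huv) (cl_pair_le huN (hCN hvC))
  have huS : u ∈ S := huvS (subset_closure (by simp))
  have hvS : v ∈ S := huvS (subset_closure (by simp))
  have hui : u⁻¹ = u := inv_eq_self_of hu2
  have huCX : u ∉ centralizer (X : Set G) := fun h => hu1 (hF.nc X hX Y hY hne u h huC hu2)
  -- `E = C_S(u) ∩ (C(X) ∪ C(X) u)`
  let E : Subgroup G :=
    { carrier := {x | x ∈ S ∧ x * u = u * x ∧ (x ∈ centralizer (X : Set G) ∨ x * u ∈ centralizer (X : Set G))}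
      one_mem' := ⟨S.one_mem, by simp, Or.inl (one_mem _)⟩
      mul_mem' := by
        rintro x y ⟨hxS, hxu, hx⟩ ⟨hyS, hyu, hy⟩
        refine ⟨S.mul_mem hxS hyS, ?_, ?_⟩
        · calc x * y * u = x * (y * u) := by group
            _ = x * u * y := by rw [hyu]; group
            _ = u * (x * y) := by rw [hxu]; group
        · rcases hx with hx | hx <;> rcases hy with hy | hy
          · exact Or.inl (mul_mem hx hy)
          · right
            rw [mul_assoc]
            exact mul_mem hx hy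
          · right
            have h1 : x * y * u = (x * u) * (u⁻¹ * y * u) := by group
            rw [h1]
            exact mul_mem hx (mem_centralizer_conj' huN hy)
          · left
            have h1 : x * y = (x * u) * (y * u) := by
              calc x * y = x * (u * u) * y := by rw [hu2, mul_one]
                _ = (x * u) * (u * y) := by group
                _ = (x * u) * (y * u) := by rw [hyu]
            rw [h1]
            exact mul_mem hx hy
      inv_mem' := by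
        rintro x ⟨hxS, hxu, hx⟩
        have h1 : x⁻¹ * u = u * x⁻¹ := by
          calc x⁻¹ * u = x⁻¹ * (u * x) * x⁻¹ := by group
            _ = x⁻¹ * (x * u) * x⁻¹ := by rw [hxu]
            _ = u * x⁻¹ := by group
        refine ⟨S.inv_mem hxS, h1, ?_⟩
        rcases hx with hx | hx
        · exact Or.inl (inv_mem hx)
        · right
          have h2 : x⁻¹ * u = (x * u)⁻¹ := by
            rw [mul_inv_rev, hui, h1]
          rw [h2]
          exact inv_mem hx }
  have hE : ∀ x, x ∈ E ↔ x ∈ S ∧ x * u = u * x ∧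
      (x ∈ centralizer (X : Set G) ∨ x * u ∈ centralizer (X : Set G)) := fun x => Iff.rfl
  have hES : E ≤ S := fun x hx => hx.1
  have huE : u ∈ E := ⟨huS, rfl, Or.inr (by rw [hu2]; exact one_mem _)⟩
  -- elements of `C(X)` commuting with `u` are in `N(Y)`
  have hNY : ∀ x, x * u = u * x → x ∈ normalizer (Y : Set G) := fun x hx => (hF.base Y hY).te u huC hu2 hu1 x hx
  -- `D = E ∩ C(X)`
  have hDtwo : IsPGroup 2 ↥(E ⊓ centralizer (X : Set G)) := hS.two.to_le (inf_le_left.trans hES)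
  have huniq : ∀ x ∈ E, x ∈ centralizer (X : Set G) → x * x = 1 → x ≠ 1 → x = v := by
    intro x hx hxC hx2 hx1
    exact uniq_inv hF hX hY hne hDtwo (fun x hx => hx.2) (fun x hx _ => hNY x hx.1.2.1) ⟨hx, hxC⟩
      (mem_inf.mpr ⟨⟨hvS, huv.symm, Or.inl hvC⟩, hvC⟩) hx2 hv2 hx1 hv1
  obtain ⟨c, hc, d, hd, hc2, hd2, hc1, hd1, hcd, hcdc⟩ := (hF.base X hX).rk
  obtain ⟨i, hic, hid⟩ := conj_pair hS hc hd hc2 hd2 hcdc
  have hnle : ¬ S ⊓ centralizer (X : Set G) ≤ E := by
    intro hle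
    have h1 := huniq _ (hle hic) hic.2 (conj_sq hc2) (conj_ne_one hc1)
    have h2 := huniq _ (hle hid) hid.2 (conj_sq hd2) (conj_ne_one hd1)
    exact conj_inj hcd (h1.trans h2.symm)
  obtain ⟨b, hb, hbE, -, hbn⟩ := exists_norm_elt hS.two hES inf_le_left (syl_norm_cent hS) hnle
  have hbu : ¬ b * u = u * b := fun h => hbE ⟨hb.1, h, Or.inl hb.2⟩
  have h1 : b⁻¹ * u * b ∈ E := (mem_normalizer_iff''.mp hbn u).mp huE
  have hbuC : b⁻¹ * u * b ∉ centralizer (X : Set G) := by
    intro h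
    apply huCX
    have hbC : b ∈ centralizer (X : Set G) := hb.2
    have h2 := mul_mem (mul_mem hbC h) (inv_mem hbC)
    have h3 : b * (b⁻¹ * u * b) * b⁻¹ = u := by group
    rwa [h3] at h2
  have hdC : b⁻¹ * u * b * u ∈ centralizer (X : Set G) := by
    rcases h1.2.2 with h2 | h2
    · exact absurd h2 hbuC
    · exact h2
  have hdu := h1.2.1
  have hdE : b⁻¹ * u * b * u ∈ E := E.mul_mem h1 huE
  have hd2' : b⁻¹ * u * b * u * (b⁻¹ * u * b * u) = 1 := by
    calc b⁻¹ * u * b * u * (b⁻¹ * u * b * u) = b⁻¹ * u * b * (u * (b⁻¹ * u * b)) * u := by group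
      _ = b⁻¹ * u * b * (b⁻¹ * u * b * u) * u := by rw [hdu]
      _ = b⁻¹ * (u * u) * b * (u * u) := by group
      _ = 1 := by rw [hu2]; group
  have hd1' : b⁻¹ * u * b * u ≠ 1 := by
    intro h2
    apply hbu
    have h3 : b⁻¹ * u * b = u := by
      have h4 := eq_inv_of_mul_eq_one_left h2
      rwa [hui] at h4
    calc b * u = b * (b⁻¹ * u * b) := by rw [h3]
      _ = u * b := by group
  have hdv := huniq _ hdE hdC hd2' hd1'
  refine ⟨b, hb.2, ?_, ?_⟩
  · calc b⁻¹ * u * b = (b⁻¹ * u * b * u) * u⁻¹ := by group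
      _ = v * u := by rw [hdv, hui]
      _ = u * v := huv.symm
  · have hvE : v ∈ E := ⟨hvS, huv.symm, Or.inl hvC⟩
    have h2 : b⁻¹ * v * b ∈ E := (mem_normalizer_iff''.mp hbn v).mp hvE
    have hbC : b ∈ centralizer (X : Set G) := hb.2
    refine huniq _ h2 (mul_mem (mul_mem (inv_mem hbC) hvC) hbC) ?_ ?_
    · have h3 := conj_sq (m := b⁻¹) hv2
      rwa [inv_inv] at h3
    · have h3 := conj_ne_one (m := b⁻¹) hv1
      rwa [inv_inv] at h3

/-- **The end.** -/
theorem false_of_refl [Finite G] (hF : FamL F) (hX : X ∈ F) (hY : Y ∈ F) (hne : X ≠ Y) {u : G}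
    (huN : u ∈ normalizer (X : Set G)) (huC : u ∈ centralizer (Y : Set G)) (hu2 : u * u = 1) (hu1 : u ≠ 1)
    (hρ : IsRefl ↥X (cAut huN)) : False := by
  obtain ⟨v, hvC, hv2, hv1, huv⟩ := lemmaA (hF.base X hX) huN hu2
  have hui : u⁻¹ = u := inv_eq_self_of hu2
  have hvi : v⁻¹ = v := inv_eq_self_of hv2
  have hvN : v ∈ normalizer (Y : Set G) := (hF.base Y hY).te u huC hu2 hu1 v huv.symm
  obtain ⟨q, hqC, hqu, hqv⟩ := lemmaB hF hX hY hne huN huC hu2 hu1 hvC hv2 hv1 huv
  obtain ⟨q', hqC', hqv', hqu'⟩ := lemmaB hF hY hX hne.symm hvN hvC hv2 hv1 huC hu2 hu1 huv.symm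
  -- the swap
  obtain ⟨s, hsu, hsv⟩ : ∃ s : G, s⁻¹ * u * s = v ∧ s⁻¹ * v * s = u := by
    have e1 : q⁻¹ * (u * v) * q = u := by
      calc q⁻¹ * (u * v) * q = (q⁻¹ * u * q) * (q⁻¹ * v * q) := by group
        _ = u * (v * v) := by rw [hqu, hqv]; group
        _ = u := by rw [hv2, mul_one]
    have e2 : q'⁻¹ * (u * v) * q' = v := by
      calc q'⁻¹ * (u * v) * q' = (q'⁻¹ * u * q') * (q'⁻¹ * v * q') := by group
        _ = u * (v * u) := by rw [hqu', hqv']
        _ = (u * u) * v := by rw [← huv]; group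
        _ = v := by rw [hu2, one_mul]
    refine ⟨q * q' * q, ?_, ?_⟩
    · calc (q * q' * q)⁻¹ * u * (q * q' * q) = q⁻¹ * (q'⁻¹ * (q⁻¹ * u * q) * q') * q := by group
        _ = q⁻¹ * v * q := by rw [hqu, e2]
        _ = v := hqv
    · calc (q * q' * q)⁻¹ * v * (q * q' * q) = q⁻¹ * (q'⁻¹ * (q⁻¹ * v * q) * q') * q := by group
        _ = q⁻¹ * (v * u) * q := by rw [hqv, hqv']
        _ = q⁻¹ * (u * v) * q := by rw [huv]
        _ = u := e1
  -- `X^s = Y`
  have hXY : cj s⁻¹ X = Y := by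
    by_contra h
    have h1 : u ∈ centralizer ((cj s⁻¹ X : Subgroup G) : Set G) := by
      rw [mem_centralizer_cj, inv_inv]
      have h2 : s * u * s⁻¹ = v := by
        rw [← hsv]; group
      rw [h2]
      exact hvC
    exact hu1 (hF.nc _ (hF.cj X hX s⁻¹) Y hY h u h1 huC hu2)
  -- `v` acts on `Y` as a reflection
  have hρv : IsRefl ↥Y (cAut hvN) := by
    let e : ↥X ≃* ↥Y :=
      (X.equivMapOfInjective (MulAut.conj s⁻¹).toMonoidHom (MulAut.conj s⁻¹).injective).trans
        (MulEquiv.subgroupCongr hXY)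
    have he : ∀ x : ↥X, ((e x : ↥Y) : G) = s⁻¹ * x * s⁻¹⁻¹ := fun x => rfl
    refine hρ.map e ?_
    intro x
    apply Subtype.ext
    rw [cAut_coe, he, he, cAut_coe, ← hsu]
    group
  -- the involution `i`
  obtain ⟨l, hl1, hl2, hl3⟩ := hρ.inv
  obtain ⟨i, hi⟩ : ∃ i : ↥X, i = (cAut huN l)⁻¹ * l := ⟨_, rfl⟩
  rw [← hi] at hl1 hl2 hl3
  have hiG : (i : G) = u * (l : G)⁻¹ * u * l := by
    rw [hi]
    show (u * (l : G) * u⁻¹)⁻¹ * l = _
    rw [mul_inv_rev, mul_inv_rev, inv_inv, hui]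
    group
  have hi2 : (i : G) * i = 1 := congrArg Subtype.val hl1
  have hi1 : (i : G) ≠ 1 := fun h => hl2 (Subtype.ext h)
  have hiu : u * i = i * u := (cAut_eq_iff huN i).mp hl3
  have hiv : (i : G) * v = v * i := comm_of_centralizer hvC i.2
  have huil : u * i = (l : G)⁻¹ * u * l := by
    rw [hiG]
    calc u * (u * (l : G)⁻¹ * u * l) = (u * u) * ((l : G)⁻¹ * u * l) := by group
      _ = (l : G)⁻¹ * u * l := by rw [hu2, one_mul]
  have hui2 : (u * i) * (u * i) = 1 := by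
    calc (u * i) * (u * i) = u * (i * u) * i := by group
      _ = u * (u * i) * i := by rw [hiu]
      _ = (u * u) * (i * i) := by group
      _ = 1 := by rw [hu2, hi2, mul_one]
  have hui1 : u * i ≠ 1 := by
    intro h
    rw [huil] at h
    apply hu1
    calc u = l * ((l : G)⁻¹ * u * l) * (l : G)⁻¹ := by group
      _ = 1 := by rw [h]; group
  -- `Y' = Y^l`
  have huiC : u * i ∈ centralizer ((cj (l : G)⁻¹ Y : Subgroup G) : Set G) := by
    rw [mem_centralizer_cj, inv_inv, huil]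
    have h1 : (l : G) * ((l : G)⁻¹ * u * l) * (l : G)⁻¹ = u := by group
    rwa [h1]
  have hY' : cj (l : G)⁻¹ Y ∈ F := hF.cj Y hY _
  have hYY' : Y ≠ cj (l : G)⁻¹ Y := by
    intro h
    rw [← h] at huiC
    have h1 : (i : G) ∈ centralizer (Y : Set G) := by
      have h2 := mul_mem (inv_mem huC) huiC
      have h3 : u⁻¹ * (u * i) = i := by group
      rwa [h3] at h2
    exact noIn hF hX hY hne h1 hi2 hi1 i.2 (one_mem _) (mul_one _).symm
  have hiN : (i : G) ∈ normalizer (Y : Set G) := (hF.base Y hY).te u huC hu2 hu1 i hiu.symm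
  -- `i` is not inner on `Y`, `v i` is
  obtain ⟨k, hk⟩ : ∃ k : ↥Y, ∀ x, cAut hiN (cAut hvN x) = k * x * k⁻¹ := by
    rcases hρv.cent (cAut hiN) (by
      intro x
      rw [cAut_mul, cAut_mul]
      exact cAut_congr hiv _ _ x) with h | h
    · exfalso
      obtain ⟨k, hk⟩ := h
      have h1 : (i : G) * (k : G)⁻¹ ∈ centralizer (Y : Set G) :=
        mem_centralizer_of_eq (le_normalizer k.2) (fun x => congrArg Subtype.val (hk x))
      have h2 : (k : G) * (u * ((k : G)⁻¹ * ((i : G) * (k : G)⁻¹) * k)) = u * i := by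
        have h3 : (k : G) * u = u * k := comm_of_centralizer huC k.2
        calc (k : G) * (u * ((k : G)⁻¹ * ((i : G) * (k : G)⁻¹) * k)) = (k * u) * (k : G)⁻¹ * i := by group
          _ = u * i := by rw [h3]; group
      exact noIn hF hY hY' hYY' huiC hui2 hui1 k.2
        (mul_mem huC (mem_centralizer_conj' (le_normalizer k.2) h1)) h2.symm
    · exact h
  have hvik : (i : G) * v * (k : G)⁻¹ ∈ centralizer (Y : Set G) :=
    mem_centralizer_of_eq (le_normalizer k.2) (fun x => by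
      have h1 : (i : G) * (v * x * v⁻¹) * (i : G)⁻¹ = k * x * (k : G)⁻¹ := congrArg Subtype.val (hk x)
      rw [← h1]
      group)
  -- `x = u i v`
  have hx : u * (i * v) = (l : G)⁻¹ * (u * v) * l := by
    have h1 : (l : G) * v = v * l := comm_of_centralizer hvC l.2
    calc u * (i * v) = (u * i) * v := by group
      _ = (l : G)⁻¹ * u * (l * v) := by rw [huil]; group
      _ = (l : G)⁻¹ * (u * v) * l := by rw [h1]; group
  have hxC : u * (i * v) ∈ centralizer ((cj (l : G)⁻¹ (cj q⁻¹ Y) : Subgroup G) : Set G) := by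
    rw [mem_centralizer_cj, mem_centralizer_cj, inv_inv, inv_inv, hx, ← hqu]
    have h1 : q * ((l : G) * ((l : G)⁻¹ * (q⁻¹ * u * q) * l) * (l : G)⁻¹) * q⁻¹ = u := by group
    rwa [h1]
  have huv1 : u * v ≠ 1 := by
    rw [← hqu]
    intro h
    apply hu1
    calc u = q * (q⁻¹ * u * q) * q⁻¹ := by group
      _ = 1 := by rw [h]; group
  have huv2 : (u * v) * (u * v) = 1 := by
    calc (u * v) * (u * v) = u * (v * u) * v := by group
      _ = u * (u * v) * v := by rw [huv]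
      _ = (u * u) * (v * v) := by group
      _ = 1 := by rw [hu2, hv2, mul_one]
  have hx2 : u * (i * v) * (u * (i * v)) = 1 := by
    rw [hx]
    have h3 := conj_sq (m := (l : G)⁻¹) huv2
    rwa [inv_inv] at h3
  have hx1 : u * (i * v) ≠ 1 := by
    rw [hx]
    have h3 := conj_ne_one (m := (l : G)⁻¹) huv1
    rwa [inv_inv] at h3
  have hY'' : Y = cj (l : G)⁻¹ (cj q⁻¹ Y) := by
    by_contra h
    refine noIn hF hY (hF.cj _ (hF.cj Y hY q⁻¹) _) h hxC hx2 hx1 k.2
      (mul_mem huC (mem_centralizer_conj' (le_normalizer k.2) hvik)) ?_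
    have h3 : (k : G) * u = u * k := comm_of_centralizer huC k.2
    calc u * ((i : G) * v) = u * (k * (k : G)⁻¹) * (i * v) := by group
      _ = (u * k) * (k : G)⁻¹ * (i * v) := by group
      _ = (k * u) * (k : G)⁻¹ * (i * v) := by rw [h3]
      _ = k * (u * ((k : G)⁻¹ * ((i : G) * v * (k : G)⁻¹) * k)) := by group
  rw [← hY''] at hxC
  have hivC : (i : G) * v ∈ centralizer (Y : Set G) := by
    have h2 := mul_mem (inv_mem huC) hxC
    have h3 : u⁻¹ * (u * ((i : G) * v)) = i * v := by group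
    rwa [h3] at h2
  have hCNX : centralizer (X : Set G) ≤ normalizer (X : Set G) := centralizer_le_normalizer' X
  refine thm1 hF hX hY hne huN (mul_mem (le_normalizer i.2) (hCNX hvC)) huC hivC hu2 ?_ hu1 ?_ ?_ ?_
  · calc (i : G) * v * (i * v) = i * (v * i) * v := by group
      _ = i * (i * v) * v := by rw [hiv]
      _ = (i * i) * (v * v) := by group
      _ = 1 := by rw [hi2, hv2, mul_one]
  · intro h
    have h1 : (i : G) = v⁻¹ := eq_inv_of_mul_eq_one_left h
    exact hi1 ((hF.base X hX).cen i i.2 (by rw [h1]; exact inv_mem hvC))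
  · intro h
    exact noIn hF hX hY hne huC hu2 hu1 i.2 hvC h
  · calc u * ((i : G) * v) = (u * i) * v := by group
      _ = i * (u * v) := by rw [hiu]; group
      _ = i * v * u := by rw [huv]; group

end Cfsg.Agent.OddHalf.D4.Small.LFour
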