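import Mathlib
import Cfsg.Agent.OddHalf.D4.Small.LFourEnd

/-!
# ODD, D4, small Lie odd: `L₄(3)`, the row theorem
-/

set_option autoImplicit false

namespace Cfsg.Agent.OddHalf.D4.Small.LFour

open Subgroup Cfsg Basic CommConj

universe u v

variable {G : Type u} [Group G]

theorem mem_normalizer_cj' {K : Subgroup G} (g x : G) :
    x ∈ normalizer ((cj g K : Subgroup G) : Set G) ↔ g⁻¹ * x * g ∈ normalizer (K : Set G) := by
  rw [mem_normalizer_iff, mem_normalizer_iff]
  constructor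
  · intro h y
    have h1 := h (g * y * g⁻¹)
    rw [mem_cj, mem_cj] at h1
    have e1 : g⁻¹ * (g * y * g⁻¹) * g = y := by group
    have e2 : g⁻¹ * (x * (g * y * g⁻¹) * x⁻¹) * g = g⁻¹ * x * g * y * (g⁻¹ * x * g)⁻¹ := by group
    rw [e1, e2] at h1
    exact h1
  · intro h y
    rw [mem_cj, mem_cj]
    have h1 := h (g⁻¹ * y * g)
    have e2 : g⁻¹ * (x * y * x⁻¹) * g = g⁻¹ * x * g * (g⁻¹ * y * g) * (g⁻¹ * x * g)⁻¹ := by group
    rw [e2]
    exact h1

/-- the conjugates of `K` -/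
def Conjs (K : Subgroup G) : Set (Subgroup G) := {X | ∃ g : G, X = cj g K}

theorem famL [Finite G] [IsSimpleGroup G] {K : Subgroup G} (hK : IsStandardSubgroup K)
    (hs : IsSimpleGroup ↥K) (hcen : center ↥K = ⊥) (hm : ¬ PRankLE 2 1 ↥(centralizer (K : Set G)))
    (hr : HasSheetL ↥K) : FamL (Conjs K) := by
  have T := EvenPair.tight_of_standard hK
  have cen : ∀ x ∈ K, x ∈ centralizer (K : Set G) → x = 1 := by
    intro x hx hxC
    have h1 : (⟨x, hx⟩ : ↥K) ∈ center ↥K := by
      rw [mem_center_iff]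
      intro y
      apply Subtype.ext
      exact (mem_centralizer_iff.mp hxC) y y.2
    rw [hcen, mem_bot] at h1
    exact congrArg Subtype.val h1
  have simp' : ∀ N : Subgroup G, N ≤ K → (∀ a ∈ K, ∀ n ∈ N, a * n * a⁻¹ ∈ N) → N = ⊥ ∨ N = K := by
    intro N hN hn
    have hnorm : (N.subgroupOf K).Normal := ⟨by
      intro n hn' a
      rw [mem_subgroupOf] at hn' ⊢
      exact hn a a.2 n hn'⟩
    rcases hnorm.eq_bot_or_eq_top with h1 | h1
    · left
      rw [eq_bot_iff]
      intro x hx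
      have h2 : (⟨x, hN hx⟩ : ↥K) ∈ N.subgroupOf K := mem_subgroupOf.mpr hx
      rw [h1, mem_bot] at h2
      rw [mem_bot]
      exact congrArg Subtype.val h2
    · right
      apply le_antisymm hN
      rw [subgroupOf_eq_top] at h1
      exact h1
  obtain ⟨a, b, ha, hb, ha2, hb2, hab, hne⟩ := EvenPair.exists_two_of_not_pRankLE hm
  have conjcomm : ∀ g x y : G, x * y = y * x → (g⁻¹ * x * g) * (g⁻¹ * y * g) = (g⁻¹ * y * g) * (g⁻¹ * x * g) := by
    intro g x y h
    calc (g⁻¹ * x * g) * (g⁻¹ * y * g) = g⁻¹ * (x * y) * g := by group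
      _ = g⁻¹ * (y * x) * g := by rw [h]
      _ = (g⁻¹ * y * g) * (g⁻¹ * x * g) := by group
  have te : TE K := te_of_tight T
  refine ⟨?_, ?_, ?_, ?_⟩
  · rintro _ ⟨g, rfl⟩
    have e : ↥K ≃* ↥(cj g K) := K.equivMapOfInjective (MulAut.conj g).toMonoidHom (MulAut.conj g).injective
    refine ⟨?_, ?_, ?_, hr.of_equiv e, ?_⟩
    · intro y hy hy2 hy1 x hxy
      rw [mem_centralizer_cj] at hy
      rw [mem_normalizer_cj']
      refine te (g⁻¹ * y * g) hy ?_ ?_ (g⁻¹ * x * g) (conjcomm g x y hxy)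
      · have h1 := conj_sq (m := g⁻¹) hy2
        rwa [inv_inv] at h1
      · have h1 := conj_ne_one (m := g⁻¹) hy1
        rwa [inv_inv] at h1
    · intro x hx hxC
      rw [mem_cj] at hx
      rw [mem_centralizer_cj] at hxC
      have h1 := cen _ hx hxC
      calc x = g * (g⁻¹ * x * g) * g⁻¹ := by group
        _ = 1 := by rw [h1]; group
    · intro N hN hn
      rcases simp' (cj g⁻¹ N) (by
        intro x hx
        rw [mem_cj, inv_inv] at hx
        have h1 := hN hx
        rw [mem_cj] at h1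
        have e1 : g⁻¹ * (g * x * g⁻¹) * g = x := by group
        rwa [e1] at h1) (by
        intro a ha n hn'
        rw [mem_cj, inv_inv] at hn' ⊢
        have h1 := hn (g * a * g⁻¹) (mem_cj_mul ha) _ hn'
        have e1 : g * a * g⁻¹ * (g * n * g⁻¹) * (g * a * g⁻¹)⁻¹ = g * (a * n * a⁻¹) * g⁻¹ := by group
        rwa [e1] at h1) with h1 | h1
      · left
        rw [eq_bot_iff]
        intro x hx
        have h2 : g⁻¹ * x * g ∈ cj g⁻¹ N := by
          rw [mem_cj, inv_inv]
          have e1 : g * (g⁻¹ * x * g) * g⁻¹ = x := by group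
          rwa [e1]
        rw [h1, mem_bot] at h2
        rw [mem_bot]
        calc x = g * (g⁻¹ * x * g) * g⁻¹ := by group
          _ = 1 := by rw [h2]; group
      · right
        apply le_antisymm hN
        intro x hx
        rw [mem_cj, ← h1, mem_cj, inv_inv] at hx
        have e1 : g * (g⁻¹ * x * g) * g⁻¹ = x := by group
        rwa [e1] at hx
    · obtain ⟨ha22, ha11⟩ := order_facts ha2
      obtain ⟨hb22, hb11⟩ := order_facts hb2
      have mc : ∀ x ∈ centralizer (K : Set G), g * x * g⁻¹ ∈ centralizer ((cj g K : Subgroup G) : Set G) := by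
        intro x hx
        rw [mem_centralizer_cj]
        have e1 : g⁻¹ * (g * x * g⁻¹) * g = x := by group
        rwa [e1]
      exact ⟨g * a * g⁻¹, mc a ha, g * b * g⁻¹, mc b hb, conj_sq ha22, conj_sq hb22, conj_ne_one ha11,
        conj_ne_one hb11, conj_inj hne, conj_comm hab⟩
  · rintro _ ⟨g, rfl⟩ h
    exact ⟨h * g, (cj_mul h g K).symm⟩
  · rintro _ ⟨g, rfl⟩ _ ⟨h, rfl⟩ hne' x hx hxC hx2
    by_contra hx1
    rw [mem_centralizer_cj] at hx hxC
    refine T.inf_odd (a := g⁻¹ * h) (x := g⁻¹ * x * g) ?_ hx ?_ (orderOf_two_of ?_ ?_)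
    · intro h1
      apply hne'
      have h2 := cj_eq_of_mem_normalizer h1
      have h3 : h = g * (g⁻¹ * h) := by group
      rw [h3, cj_mul, h2]
    · have e1 : (g⁻¹ * h)⁻¹ * (g⁻¹ * x * g) * (g⁻¹ * h) = h⁻¹ * x * h := by group
      rwa [e1]
    · have h1 := conj_sq (m := g⁻¹) hx2
      rwa [inv_inv] at h1
    · have h1 := conj_ne_one (m := g⁻¹) hx1
      rwa [inv_inv] at h1
  · rintro _ ⟨g, rfl⟩ _ ⟨h, rfl⟩ hne' hle
    refine hK.2.2.1 (g⁻¹ * h) ?_ ?_
    · intro h2
      apply hne'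
      have h2' : cj (g⁻¹ * h) K = K := h2
      have h3 : h = g * (g⁻¹ * h) := by group
      rw [h3, cj_mul, h2']
    · rw [commutator_eq_bot_iff_le_centralizer]
      intro x hx
      have h1 := hle (mem_cj_mul (g := g) hx)
      have h2 : x ∈ centralizer ((cj (g⁻¹ * h) K : Subgroup G) : Set G) := by
        rw [mem_centralizer_cj] at h1 ⊢
        have e1 : (g⁻¹ * h)⁻¹ * x * (g⁻¹ * h) = h⁻¹ * (g * x * g⁻¹) * h := by group
        rwa [e1]
      exact h2

/-- **The row, inside `G`.** -/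
theorem false_of_rowL [Finite G] [IsSimpleGroup G] (h1173 : EvenPair.H1173 G)
    {K : Subgroup G} (hK : IsStandardSubgroup K) (hs : IsSimpleGroup ↥K) (hcen : center ↥K = ⊥)
    (hm : ¬ PRankLE 2 1 ↥(centralizer (K : Set G))) (hr : HasSheetL ↥K) : False := by
  have hF := famL hK hs hcen hm hr
  have h1K : cj 1 K = K := by
    ext x
    rw [mem_cj]
    simp
  have hKF : K ∈ Conjs K := ⟨1, h1K.symm⟩
  have hBK := hF.base K hKF
  obtain ⟨S, hS, a, haN, h⟩ := EvenPair.theoremA_std h1173 hK (fun x hx hxC h2 => by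
    have h3 := hBK.cen x hx hxC
    rw [h3, orderOf_one] at h2
    exact absurd h2 (by norm_num))
  have hSyl : IsSyl S (normalizer (K : Set G)) := by
    obtain ⟨P, hP⟩ := hS
    rw [← hP]
    exact isSyl_of_sylow P
  have haF : cj a K ∈ Conjs K := ⟨a, rfl⟩
  have hne : K ≠ cj a K := fun h2 => haN (mem_normalizer_of_cj_eq h2.symm)
  rcases h with h | ⟨r, hrS, hr2, hrC, hrK, hrne⟩
  · -- a full conjugate: contradiction with Theorem 1
    obtain ⟨c, hc, d, hd, hc2, hd2, hc1, hd1, hcd, hcdc⟩ := hBK.rk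
    obtain ⟨i, hcm, hdm⟩ := conj_pair hSyl hc hd hc2 hd2 hcdc
    have mem_conj : ∀ y : G, i * y * i⁻¹ ∈ S ⊓ centralizer (K : Set G) →
        a * (i * y * i⁻¹) * a⁻¹ ∈ normalizer (K : Set G) ∧
        a * (i * y * i⁻¹) * a⁻¹ ∈ centralizer ((cj a K : Subgroup G) : Set G) := by
      intro y hy
      refine ⟨hSyl.le (h _ hy), ?_⟩
      rw [mem_centralizer_cj]
      have h1 : a⁻¹ * (a * (i * y * i⁻¹) * a⁻¹) * a = i * y * i⁻¹ := by group
      rw [h1]
      exact hy.2
    exact thm1 hF hKF haF hne (mem_conj c hcm).1 (mem_conj d hdm).1 (mem_conj c hcm).2 (mem_conj d hdm).2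
      (conj_sq (conj_sq hc2)) (conj_sq (conj_sq hd2)) (conj_ne_one (conj_ne_one hc1))
      (conj_ne_one (conj_ne_one hd1)) (conj_inj (conj_inj hcd)) (conj_comm (conj_comm hcdc))
  · -- an outer involution centralizing a Sylow subgroup: a reflection
    obtain ⟨P, hP⟩ := exists_sylow_inf hSyl
    obtain ⟨z, R, ρ, hsh⟩ := hr P
    obtain ⟨hr22, hr11⟩ := order_facts hr2
    have hrN := hSyl.le hrS
    have hrC' : r ∈ centralizer ((cj a K : Subgroup G) : Set G) := by
      rw [mem_centralizer_cj]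
      exact hrC
    have haut : ∀ {α β : MulAut ↥K}, (∀ x, α x = β x) → IsRefl ↥K β → IsRefl ↥K α := by
      intro α β hαβ hβ
      have h1 : α = β := by
        ext x
        rw [hαβ]
      rw [h1]
      exact hβ
    have hzS : (z : G) ∈ S := (hP z).mp (hsh.RS hsh.zR)
    obtain ⟨i, hi⟩ := act_four hSyl hP hsh hrS (fun s hsS hsK => hrK s ⟨hsS, hsK⟩)
    have hsplit : ∀ k ∈ S ⊓ K, (∀ x : ↥K, r * x * r⁻¹ = k * x * k⁻¹) → False := by
      intro k hk hx
      have h1 := mem_centralizer_of_eq (le_normalizer hk.2) hx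
      exact hrne (r * k⁻¹) ⟨S.mul_mem hrS (S.inv_mem hk.1), h1⟩ k hk (by group)
    fin_cases i
    · exact hsplit z ⟨hzS, z.2⟩ hi
    · exact false_of_refl hF hKF haF hne hrN hrC' hr22 hr11
        (haut (β := ρ) (fun x => Subtype.ext (hi x)) hsh.refl)
    · exact false_of_refl hF hKF haF hne hrN hrC' hr22 hr11
        (haut (β := ρ * MulAut.conj z) (fun x => Subtype.ext (hi x)) hsh.refl')
    · refine hsplit 1 (one_mem _) (fun x => ?_)
      have h1 : r * x * r⁻¹ = x := hi x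
      rw [h1]
      group

end Cfsg.Agent.OddHalf.D4.Small.LFour
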