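import Cfsg.Agent.OddHalf.D6.QThree.G23Words2

/-!
# `G₂(3)`: words for the normaliser of the elementary abelian group `⟨z, i k, j l⟩` (helper618)
-/

set_option autoImplicit false
set_option Elab.async false
set_option maxRecDepth 100000

namespace Cfsg.Agent.OddHalf.D4.Small.G23W

open Cfsg.Agent.GTwoThree.Model
open Cfsg.Agent.OddHalf.Small.G23Data Cfsg.Agent.OddHalf.Small.G23Check
open Cfsg.Agent.OddHalf.D6.QThree.G23Words

/-- the element `i t k i t` -/
def wh : List ℕ := wi ++ wt ++ wk ++ wi ++ wt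

theorem th : eqc (wt ++ wh) (wh ++ (w1 ++ wy ++ w2 ++ wz)) = true := by decide +kernel
theorem hz : eqc (wh ++ wz) ((wi ++ wk ++ (wj ++ wl)) ++ wh) = true := by decide +kernel
theorem hik : eqc (wh ++ (wi ++ wk)) ((wz ++ (wj ++ wl)) ++ wh) = true := by decide +kernel
theorem hjl : eqc (wh ++ (wj ++ wl)) ((wi ++ wk) ++ wh) = true := by decide +kernel

end Cfsg.Agent.OddHalf.D4.Small.G23W
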