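import Cfsg.Agent.OddHalf.D4.Small.RowG23Abs
import Cfsg.Agent.OddHalf.D4.Small.RowG23Words
import Cfsg.Agent.OddHalf.D6.QThree.G23Out

/-!
# ODD, D4, small Lie odd: the facts on `G₂(3)` (helper618)

`row_g23`: `Row K` for `K ≅ G₂(3)`.
-/

set_option autoImplicit false

namespace Cfsg.Agent.OddHalf.D4.Small.KG23

open Cfsg.Agent.LargeExtra.W2
open Cfsg.Agent.GTwoThree.Cent
open Cfsg.Agent.OddHalf.Small.G23Data Cfsg.Agent.OddHalf.Small.G23Check
open Cfsg.Agent.OddHalf.D6.QThree.G23Words Cfsg.Agent.OddHalf.D6.QThree.G23Facts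
open Cfsg.Agent.OddHalf.D6.QThree.G23Out
open Cfsg.Agent.OddHalf.D4.Small.G23W
open Cfsg.Agent.GTwoThree.Model (wb wd wt)

section

variable {G : Type*} [Group G] {v : List ℕ → G}

theorem row_of_words (W : WM2 v) : Row G := by
  have hfin : Finite G := Nat.finite_of_card_ne_zero (by rw [W.card]; norm_num)
  have h := C W
  have hj : v wj * v wk = v wk * v wj := h.kj.symm
  -- `b d = i k (j l)`
  have he : v wb * v wd = v wi * v wk * (v wj * v wl) := by
    rw [hbd W]
    calc v wi * v wj * (v wk * v wl) = v wi * (v wj * v wk) * v wl := by group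
      _ = v wi * v wk * (v wj * v wl) := by rw [hj]; group
  have app2 : ∀ a b c d : List ℕ, v (a ++ b ++ (c ++ d)) = v a * v b * (v c * v d) := by
    intro a b c d
    rw [W.app, W.app, W.app]
  refine row h (hy W) (hodd W) W.card (by decide) (g := v wh) ?_ ?_ ?_ ?_
  · have h1 := W.eq _ _ hz
    rw [W.app wh wz, W.app _ wh, app2] at h1
    rw [h1, mul_inv_cancel_right]
  · have h1 := W.eq _ _ hik
    rw [W.app wh, W.app _ wh, W.app wi wk, W.app wz, W.app wj wl] at h1
    rw [h1, mul_inv_cancel_right]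
  · have h1 := W.eq _ _ hjl
    rw [W.app wh, W.app _ wh, W.app wj wl, W.app wi wk] at h1
    rw [h1, mul_inv_cancel_right]
  · intro H hP hQ
    apply W.gen H
    · exact hP _ (x1_z h)
    · apply hP
      rw [hb W]
      exact h.large.comm_z _ ((R v).mul_mem ((R v).mul_mem mem_i' mem_j') (mem_z' W.toWM))
    · exact hP _ (x2_z h)
    · apply hP
      rw [hd W]
      exact h.large.comm_z _ ((R v).mul_mem ((R v).mul_mem mem_k' mem_l') (mem_z' W.toWM))
    · apply hQ
      rw [← he]
      have h1 := W.toWM.h2 te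
      rwa [W.app wb wd] at h1

end

end Cfsg.Agent.OddHalf.D4.Small.KG23

namespace Cfsg.Agent.OddHalf.D4.Small

open Cfsg.Lie in
/-- the facts on `K ≅ G₂(3)` -/
theorem row_g23 {K : Type*} [Group K] (F : Type) [Field F] [Fintype F] (hF : Fintype.card F = 3)
    (e : K ≃* ↥(chevG2.group F)) : Row K := by
  have h3 : Fintype.card (ZMod 3) = Fintype.card F := by rw [hF]; rfl
  let φ : ZMod 3 ≃+* F := FiniteField.ringEquivOfCardEq h3
  exact (KG23.row_of_words OddHalf.D6.QThree.G23Out.words2).of_equiv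
    ((Cfsg.Agent.ChevalleyStructure.FieldIso.groupEquiv chevG2 φ).trans e.symm)

end Cfsg.Agent.OddHalf.D4.Small
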