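import Cfsg.Agent.LargeExtra.W2.U43.InvClass
import Cfsg.Agent.LargeExtra.W2.U43.ThreeLocJ
import Cfsg.Agent.LargeExtra.W2.U43.Ident

/-!
# ODD, D4, small Lie odd, `U₄(3)`: generation (helper890)

* `rel_of_perm`: the relations of the permutation model hold in every group with the rules of `U₄(3)`.
* `exists_gen`: a group `G` of order `|U₄(3)|` with the configuration `Tw` and `z ~ s ~ y s` is generated by `C(z)`
  and an element `d` with `Del`.
-/

set_option autoImplicit false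
set_option maxRecDepth 10000

namespace Cfsg.Agent.OddHalf.D4.Small.UFour

open Cfsg Cfsg.Agent.Co2Type.Quad Cfsg.Agent.LargeExtra.W2 Cfsg.Agent.LargeExtra.W2.CM
open Cfsg.Agent.LargeExtra.W2.U43 Cfsg.Agent.LargeExtra.W2.U43.Ident
open Cfsg.Agent.LargeExtra.W2.U43.ExistsD Cfsg.Agent.LargeExtra.W2.U43.ThreeLoc
open Cfsg.Agent.LargeExtra.W2.U43.ThreeLocJ Cfsg.Agent.LargeExtra.W2.U43.InvClass
open Cfsg.Agent.SporadicRecognition.CosetCert Cfsg.Agent.SporadicRecognition.CosetCertHyp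

variable {G : Type*} [Group G] {z i j k l x₁ x₂ y s d e : G}

theorem snd_inj (R : Rules true false true z i j k l x₁ x₂ y s) (hd : Del z i j k l x₁ x₂ y s d)
    (he : Del z i j (l * z) (k * z) x₁ x₂⁻¹ y (y * s) e) (j1 : x₁ * (d * x₁ * d⁻¹) = d * x₁ * d⁻¹ * x₁)
    (j2 : e * (x₁ * x₂) * e⁻¹ = d * (x₁ * x₂⁻¹) * d⁻¹ * (d⁻¹ * (x₁ * x₂⁻¹) * d)⁻¹) :
    Function.Injective ((MonoidHom.snd G (Equiv.Perm (Fin 280))).subgroupMap
      (Subgroup.closure ((fun t => (letters i z x₁ y s d e t, PermModel.P t)) '' {x | x < 12}))) := by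
  obtain ⟨hf, hc⟩ := card_pairs R hd he j1 j2
  set L := Subgroup.closure ((fun t => (letters i z x₁ y s d e t, PermModel.P t)) '' {x | x < 12}) with hL
  have h2 : M ≤ L.map (MonoidHom.snd G (Equiv.Perm (Fin 280))) := by
    rw [hL, Graph.map_snd_closure (letters i z x₁ y s d e) PermModel.P]
    exact PermModel.range_le
  have f2 : Function.Surjective ((MonoidHom.snd G (Equiv.Perm (Fin 280))).subgroupMap L) :=
    MonoidHom.subgroupMap_surjective _ _
  have : Finite (L.map (MonoidHom.snd G (Equiv.Perm (Fin 280)))) := Finite.of_surjective _ f2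
  have c1 : Nat.card (L.map (MonoidHom.snd G (Equiv.Perm (Fin 280)))) ≤ Nat.card L :=
    Nat.card_le_card_of_surjective _ f2
  have c2 : Nat.card M ≤ Nat.card (L.map (MonoidHom.snd G (Equiv.Perm (Fin 280)))) :=
    Subgroup.card_le_of_le h2
  have c3 : 3265920 ≤ Nat.card M := SporadicStructure.U43Perm.card_ge
  exact ((Nat.bijective_iff_surjective_and_card _).2 ⟨f2, by omega⟩).1

/-- The relations of the permutation model hold. -/
theorem rel_of_perm (R : Rules true false true z i j k l x₁ x₂ y s) (hd : Del z i j k l x₁ x₂ y s d)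
    (he : Del z i j (l * z) (k * z) x₁ x₂⁻¹ y (y * s) e) (j1 : x₁ * (d * x₁ * d⁻¹) = d * x₁ * d⁻¹ * x₁)
    (j2 : e * (x₁ * x₂) * e⁻¹ = d * (x₁ * x₂⁻¹) * d⁻¹ * (d⁻¹ * (x₁ * x₂⁻¹) * d)⁻¹)
    {w w' : List ℕ} (hw : ∀ t ∈ w, t < 12) (hw' : ∀ t ∈ w', t < 12) (h : PermModel.eqW w w' = true) :
    ev (letters i z x₁ y s d e) w = ev (letters i z x₁ y s d e) w' := by
  have inj := snd_inj R hd he j1 j2
  have mem : ∀ v : List ℕ, (∀ t ∈ v, t < 12) →
      (ev (letters i z x₁ y s d e) v, ev PermModel.P v) ∈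
        Subgroup.closure ((fun t => (letters i z x₁ y s d e t, PermModel.P t)) '' {x | x < 12}) := by
    intro v hv
    rw [← ev_prod]
    induction v with
    | nil => rw [ev_nil]; exact one_mem _
    | cons a v ih =>
      rw [ev_cons]
      exact mul_mem (Subgroup.subset_closure ⟨a, hv a (by simp), rfl⟩)
        (ih fun t ht => hv t (List.mem_cons_of_mem _ ht))
  have h1 : ev PermModel.P w = ev PermModel.P w' := PermModel.prod_eq_of_eqW h
  have h2 := @inj ⟨_, mem w hw⟩ ⟨_, mem w' hw'⟩ (Subtype.ext h1)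
  exact congrArg (fun u => u.1.1) h2

variable {Q : Subgroup G}

/-- `e` may be replaced by `z e z⁻¹` (helper893). -/
theorem conj_mirror (h : Tw Q z i j k l x₁ x₂ y s)
    (he : Del z i j (l * z) (k * z) x₁ x₂⁻¹ y (y * s) e) :
    Del z i j (l * z) (k * z) x₁ x₂⁻¹ y (y * s) (z * e * z⁻¹) := by
  have R := h.rules
  have R' := h.mirror.rules
  have iz : z⁻¹ = z := inv_eq_of_mul_eq_one_left R.zz
  have cz : ∀ {c c' w : G}, c * z = z * c → c' * z = z * c' → e * c * e⁻¹ = c' →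
      (z * e * z⁻¹) * c * (z * e * z⁻¹)⁻¹ = c' := by
    intro c c' w hc hc' h1
    calc (z * e * z⁻¹) * c * (z * e * z⁻¹)⁻¹ = z * e * z⁻¹ * (c * z) * e⁻¹ * z⁻¹ := by group
      _ = z * (e * c * e⁻¹) * z⁻¹ := by rw [hc]; group
      _ = c' * z * z⁻¹ := by rw [h1, hc']
      _ = c' := by group
  have cc : ∀ {c : G}, c * z = z * c → e * c = c * e → (z * e * z⁻¹) * c = c * (z * e * z⁻¹) := by
    intro c hc h1
    have h2 := cz (w := 1) hc hc (by rw [h1]; group)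
    rwa [mul_inv_eq_iff_eq_mul] at h2
  refine ⟨?_, ?_, ?_, ?_, ?_, ?_, ?_⟩
  · have := he.d3
    calc (z * e * z⁻¹) ^ 3 = z * e ^ 3 * z⁻¹ := conj_pow
      _ = 1 := by rw [this]; group
  · exact cz (w := 1) rfl (by coll R) he.dz
  · exact cz (w := 1) (by coll R) (by coll R) he.ds
  · exact cc (by coll R) he.dik
  · exact cc (by coll R) he.djl
  · exact cc (by rw [inv_x₂ R]; coll R) he.dr
  · have hy : y * z = z * y := by coll R
    calc y * (z * e * z⁻¹) * y⁻¹ = y * z * e * (y * z)⁻¹ := by group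
      _ = z * (y * e * y⁻¹) * z⁻¹ := by rw [hy]; group
      _ = z * (e⁻¹ * z) * z⁻¹ := by rw [he.dy]
      _ = (z * e * z⁻¹)⁻¹ * z := by group

/-- `z i j l` is conjugate to `i k` in `C(z)`. -/
theorem conj_zijl (h : Tw Q z i j k l x₁ x₂ y s) :
    ∃ c, c * z = z * c ∧ c * (z * i * j * l) = i * k * c := by
  have R := h.rules
  -- `x₁⁻¹ (i j) x₁ = j`, `x₁⁻¹ j x₁ = i`, `x₂⁻¹ l x₂ = k`
  refine ⟨z * j * (x₁ * x₁) * (x₁ * x₁) * (x₂ * x₂), ?_, ?_⟩ <;> coll R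

/-- **Generation**: `C(z)` and `d` generate. -/
theorem exists_gen [Finite G] (h : Tw Q z i j k l x₁ x₂ y s) (hs : IsConj z s) (hys : IsConj z (y * s))
    (hcard : Nat.card G = 3265920) :
    ∃ d, Del z i j k l x₁ x₂ y s d ∧
      ∀ H : Subgroup G, (∀ g, g * z = z * g → g ∈ H) → d ∈ H → H = ⊤ := by
  have R := h.rules
  obtain ⟨d, hd⟩ := exists_del h hs
  obtain ⟨e₀, he₀⟩ := exists_del h.mirror hys
  have h1 : x₁ * (d * x₁ * d⁻¹) = d * x₁ * d⁻¹ * x₁ := j1 h hd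
  obtain ⟨e, he, h2⟩ : ∃ e, Del z i j (l * z) (k * z) x₁ x₂⁻¹ y (y * s) e ∧
      e * (x₁ * x₂) * e⁻¹ = d * (x₁ * x₂⁻¹) * d⁻¹ * (d⁻¹ * (x₁ * x₂⁻¹) * d)⁻¹ := by
    rcases j2 h hd he₀ with h3 | h3
    · exact ⟨e₀, he₀, h3⟩
    · exact ⟨z * e₀ * z⁻¹, conj_mirror h he₀, h3⟩
  refine ⟨d, hd, ?_⟩
  -- the relation
  have h3 := rel_of_perm R hd he h1 h2 (w := [8, 0, 8, 3, 7, 3, 7, 5, 7])
    (w' := [2, 0, 3, 0, 4, 7, 3, 0, 4, 7, 8, 0, 8, 3, 7, 3, 7]) (by decide) (by decide) (by decide +kernel)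
  simp only [ev, List.map_cons, List.map_nil, List.prod_cons, List.prod_nil, letters, mul_one] at h3
  have ss : s * s = 1 := by have := R.ss; simpa only [pw, cond_false] using this
  have ew : s * (x₁ * s) = x₂ := by
    have h4 : s * x₁ = x₂ * s := R.sx
    rw [← mul_assoc, h4, mul_assoc, ss, mul_one]
  have ej : x₁ * (i * x₁⁻¹) = j := by
    have h4 : x₁ * i * x₁⁻¹ = j := h.x₁_act.i
    rw [← mul_assoc]; exact h4
  have el : s * (j * s) = l := by
    have h4 : s * j = l * s := R.sj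
    rw [← mul_assoc, h4, mul_assoc, ss, mul_one]
  have e1 : d * (i * (d * (x₁ * (s * (x₁ * (s * (y * s))))))) = d * i * d * (x₁ * x₂) * (y * s) := by
    rw [← ew]; simp only [mul_assoc]
  have e2 : z * (i * (x₁ * (i * (x₁⁻¹ * (s * (x₁ * (i * (x₁⁻¹ * (s * (d * (i * (d * (x₁ * (s * (x₁ * s)))))))))))))))
      = z * i * j * l * (d * i * d * (x₁ * x₂)) := by
    rw [← ew, ← el, ← ej]; simp only [mul_assoc]
  rw [e1, e2] at h3
  intro H hC hdH
  have mi : i ∈ H := hC i (by coll R)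
  have mj : j ∈ H := hC j (by coll R)
  have mr : x₁ * x₂ ∈ H := hC _ (by coll R)
  have mw : d * i * d * (x₁ * x₂) ∈ H := mul_mem (mul_mem (mul_mem hdH mi) hdH) mr
  obtain ⟨c, hc, hcc⟩ := conj_zijl h
  have mc : c ∈ H := hC c hc
  have hw := conj_ik h hd
  have mv : j⁻¹ * d⁻¹ * i * d * d ∈ H :=
    mul_mem (mul_mem (mul_mem (mul_mem (inv_mem mj) (inv_mem hdH)) mi) hdH) hdH
  obtain ⟨v, hv⟩ : ∃ v, v = j⁻¹ * d⁻¹ * i * d * d := ⟨_, rfl⟩
  obtain ⟨w, hw'⟩ : ∃ w, w = d * i * d * (x₁ * x₂) := ⟨_, rfl⟩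
  rw [← hv] at hw mv
  rw [← hw'] at h3 mw
  -- `y s = (w⁻¹ c⁻¹ v) z (…)⁻¹`
  have h4 : (w⁻¹ * c⁻¹ * v) * z * (w⁻¹ * c⁻¹ * v)⁻¹ = y * s := by
    calc (w⁻¹ * c⁻¹ * v) * z * (w⁻¹ * c⁻¹ * v)⁻¹ = w⁻¹ * c⁻¹ * (v * z * v⁻¹) * c * w := by group
      _ = w⁻¹ * c⁻¹ * (i * k * c) * w := by rw [hw]; group
      _ = w⁻¹ * (z * i * j * l * w) := by rw [← hcc]; group
      _ = y * s := by rw [← h3]; group
  have h5 : e * z * e⁻¹ = y * s := he.dz
  have mV : w⁻¹ * c⁻¹ * v ∈ H := mul_mem (mul_mem (inv_mem mw) (inv_mem mc)) mv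
  obtain ⟨V, hV⟩ : ∃ V, V = w⁻¹ * c⁻¹ * v := ⟨_, rfl⟩
  rw [← hV] at h4 mV
  have h6 : V⁻¹ * e * z = z * (V⁻¹ * e) := by
    calc V⁻¹ * e * z = V⁻¹ * (e * z * e⁻¹) * e := by group
      _ = V⁻¹ * (V * z * V⁻¹) * e := by rw [h5, h4]
      _ = z * (V⁻¹ * e) := by group
  have me : e ∈ H := by
    have h7 := mul_mem mV (hC _ h6)
    rwa [mul_inv_cancel_left] at h7
  have hle : Subgroup.closure ({i, j, k, l, x₁, x₂, y, s, d, e} : Set G) ≤ H := by
    rw [Subgroup.closure_le]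
    intro g hg
    simp only [Set.mem_insert_iff, Set.mem_singleton_iff] at hg
    rcases hg with rfl | rfl | rfl | rfl | rfl | rfl | rfl | rfl | rfl | rfl
    · exact mi
    · exact mj
    · exact hC _ (by coll R)
    · exact hC _ (by coll R)
    · exact hC _ (by coll R)
    · exact hC _ (by coll R)
    · exact hC _ (by coll R)
    · exact hC _ (by coll R)
    · exact hdH
    · exact me
  have hc := (card_simple R h.large.z_ne hd he h1 h2).1
  have h8 : Nat.card H = Nat.card G := by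
    apply le_antisymm
    · exact Nat.card_le_card_of_injective _ H.subtype_injective
    · rw [hcard, ← hc]
      exact Subgroup.card_le_of_le hle
  exact Subgroup.eq_top_of_card_eq H h8

end Cfsg.Agent.OddHalf.D4.Small.UFour
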