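import Cfsg.Agent.OddHalf.D4.Small.UFourLoc
import Cfsg.Agent.OddHalf.D4.Small.UFourRel
import Cfsg.Agent.OddHalf.D4.Small.FOneLoc

/-!
# ODD, D4, small Lie odd: the row of `U₄(3)` (helper890)
-/

set_option autoImplicit false

namespace Cfsg.Agent.OddHalf.D4.Small.UFour

open Subgroup Cfsg.Agent.Co2Type.Quad Cfsg.Agent.LargeExtra.W2 Cfsg.Agent.LargeExtra.W2.CM
open Cfsg.Agent.LargeExtra.W2.U43 Cfsg.Agent.LargeExtra.W2.U43.ExistsD Cfsg.Agent.LargeExtra.W2.U43.InvClass
open Cfsg.Agent.OddHalf.D6.QThree.U43Facts Cfsg.Agent.OddHalf.D6.QThree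

universe u

variable {K : Type u} [Group K] [Finite K] {Q : Subgroup K} {z i j k l x₁ x₂ y s : K}

/-- `syl` is a Sylow 2-subgroup. -/
theorem exists_sylow (h : Tw Q z i j k l x₁ x₂ y s) (hcard : Nat.card K = 3265920) :
    ∃ S : Sylow 2 K, (S : Subgroup K) = syl h.rules := by
  have : Fact (Nat.Prime 2) := ⟨Nat.prime_two⟩
  have h1 : Nat.card (syl h.rules) ∣ 2 ^ 7 := by
    obtain ⟨n, hn⟩ := IsPGroup.iff_card.1 (syl_isPGroup h.rules)
    have h2 : Nat.card (syl h.rules) ∣ Nat.card K := Subgroup.card_subgroup_dvd_card _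
    rw [hcard, show (3265920 : ℕ) = 2 ^ 7 * 25515 by norm_num] at h2
    rw [hn] at h2 ⊢
    exact (Nat.Coprime.pow_left n (by decide : Nat.Coprime 2 25515)).dvd_of_dvd_mul_right h2
  have h2 : Nat.card (syl h.rules) = 2 ^ 7 :=
    le_antisymm (Nat.le_of_dvd (by norm_num) h1) (syl_card h)
  have h3 : Nat.card (syl h.rules) = 2 ^ (Nat.card K).factorization 2 := by
    rw [h2, hcard]
    congr 1
    have : (3265920 : ℕ) = 2 ^ 7 * 25515 := by norm_num
    rw [this, Nat.factorization_mul (by norm_num) (by norm_num), Nat.Prime.factorization_pow Nat.prime_two]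
    simp [Nat.factorization_eq_zero_of_not_dvd]
  exact ⟨Sylow.ofCard (syl h.rules) h3, rfl⟩

/-- `C_P(Q) = ⟨z⟩` -/
theorem self' (h : Tw Q z i j k l x₁ x₂ y s) (p : K) (hp : p * z = z * p) (hc : ∀ r ∈ Q, p * r = r * p) :
    p = 1 ∨ p = z := h.large.cent p (h.large.self p hp hc) hc

/-- the sheet -/
theorem sheet (h : Tw Q z i j k l x₁ x₂ y s) : Sheet K (syl h.rules) Q z := by
  have R := h.rules
  obtain ⟨d1, d2, d3, d4⟩ := x₁_facts h
  refine Sheet.of_QQ (Q₁ := Q1 R) (Q₂ := Q2 R) ?_ (isQQ h) (self' h) d1 d2 d3 d4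
  refine { z2 := R.zz, z1 := h.large.z_ne, zR := h.large.z_mem, RS := le_syl h,
           zc := fun x hx => syl_comm R hx, uniq := ?_, Rn := h.large.conj_mem, char := ?_ }
  · intro x hx _ hx1 hxc
    rcases self' h x (syl_comm R hx) (fun r hr => (hxc r (le_syl h hr)).symm) with h1 | h1
    · exact absurd h1 hx1
    · exact h1
  · intro α hα r hr
    have hN : Q.map α.toMonoidHom ≤ Q := by
      refine U43Tw.le_of_act h.toPlus h.x₁_act h.x₂_act _ ?_ ?_ ?_
      · rintro _ ⟨q, hq, rfl⟩
        rw [mem_centralizer_singleton_iff]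
        show α q * z = z * α q
        have h1 := congrArg α (h.large.comm_z q hq)
        rwa [map_mul, map_mul, hα] at h1
      · rintro c hc _ ⟨q, hq, rfl⟩
        rw [mem_centralizer_singleton_iff] at hc
        have hc' : α.symm c * z = z * α.symm c := by
          have h1 := congrArg α.symm hc
          have h2 : α.symm z = z := by
            rw [MulEquiv.symm_apply_eq]; exact hα.symm
          rwa [map_mul, map_mul, h2] at h1
        refine ⟨_, h.large.conj_mem _ hc' q hq, ?_⟩
        show α (α.symm c * q * (α.symm c)⁻¹) = c * α q * c⁻¹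
        rw [map_mul, map_mul, map_inv, MulEquiv.apply_symm_apply]
      · exact (LargeExtra.Base.isPGroup h.large).map _
    exact hN ⟨r, hr, rfl⟩

/-- **`U₄(3)`: the row.** -/
theorem row_of_tw (h : Tw Q z i j k l x₁ x₂ y s) (hs : IsConj z s) (hys : IsConj z (y * s))
    (hcard : Nat.card K = 3265920) : Row K := by
  have R := h.rules
  obtain ⟨S, hS⟩ := exists_sylow h hcard
  obtain ⟨d, hd, hgen⟩ := exists_gen h hs hys hcard
  have hsh := sheet h
  rw [← hS] at hsh
  have hodd : Odd (S : Subgroup K).index := by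
    rw [← Nat.not_even_iff_odd, even_iff_two_dvd]
    have : Fact (Nat.Prime 2) := ⟨Nat.prime_two⟩
    exact S.not_dvd_index
  refine ⟨HasSheet.of_one hsh, FOneK.of_one S ?_, ?_⟩
  · -- the second local subgroup
    let L : Subgroup K := normalizer (abel R : Set K)
    have hSL : (S : Subgroup K) ≤ L := by
      intro g hg
      have hg' : g ∈ syl R := hS ▸ hg
      rw [mem_normalizer_iff]
      intro a
      constructor
      · exact fun ha => syl_norm R hg' a ha
      · intro ha
        have h1 := syl_norm R (inv_mem hg') _ ha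
        have h2 : g⁻¹ * (g * a * g⁻¹) * g⁻¹⁻¹ = a := by group
        rwa [h2] at h1
    have hdL : d ∈ L := by
      have h1 := d_norm R hd
      rw [mem_normalizer_iff]
      intro a
      constructor
      · exact fun ha => h1 a ha
      · intro ha
        have h2 := h1 _ (h1 _ ha)
        have h3 : d * (d * (d * a * d⁻¹) * d⁻¹) * d⁻¹ = d * d * d * a * (d * d * d)⁻¹ := by
          simp only [mul_inv_rev, mul_assoc]
        have h4 : d * d * d = 1 := by rw [← hd.d3, pow_succ, pow_two]
        rw [h3, h4] at h2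
        simpa using h2
    refine fOne_of_local (R := Q) (A := abel R) (L := L) (z := z) S.isPGroup' hodd hsh.RS hsh.zc hsh.Rn ?_ ?_ ?_ ?_
      ?_ ?_ ?_
    · intro x hx hxr
      refine ⟨h.large.self x hx hxr, ?_⟩
      intro p hp
      rcases self' h x hx hxr with h1 | h1
      · rw [h1]; simp
      · rw [h1, hp]
    · rw [hS]; exact abel_le R
    · intro x
      constructor
      · exact fun hx => abel_self h hx
      · exact fun hx a ha => abel_comm R hx ha
    · intro g hg a ha
      exact (mem_normalizer_iff.mp hg a).mp ha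
    · have h1 : (S : Subgroup K).relIndex L ∣ (S : Subgroup K).index := relIndex_dvd_index_of_le hSL
      exact Odd.of_dvd_nat hodd h1
    · intro a ha hac p hp
      have hac' : ∀ r ∈ Q, a * r = r * a := fun r hr =>
        (hac r (hsh.RS hr) (hSL (hsh.RS hr))).symm
      have haz : a * z = z * a := abel_comm R ha (z_mem R)
      rcases self' h a haz hac' with h1 | h1
      · rw [h1]; simp
      · rw [h1, hp]
    · intro H hP hLH
      exact hgen H hP (hLH hdL)
  · -- `K = ⟨C(z), C(i k)⟩`
    have hik : i * k ∈ (S : Subgroup K) := by rw [hS]; exact abel_le R (ik_mem R)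
    refine NoSEK.of_gen (z := z) (w := i * k) (hsh.RS hsh.zR) hik hsh.z2 hsh.z1 (abel_sq R (ik_mem R)) ?_ ?_
    · intro h1
      have h2 : j * (i * k) = (i * k) * j * z := by coll R
      rw [h1, mul_one, one_mul] at h2
      exact h.large.z_ne (by simpa using h2)
    · intro H h1 h2
      exact hgen H h1 (h2 d hd.dik)

/-- **`U₄(3)`** -/
theorem row {X : Type u} [Group X] {F : Type*} [Field F] [Fintype F] (hF : Fintype.card F = 9)
    (f : X ≃* Cfsg.PSU 4 F 3) : Row X := by
  have : Fact (Nat.Prime 3) := ⟨Nat.prime_three⟩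
  have : CharP F 3 := charP_of_card_eq_prime_pow (f := 2) (by rw [hF]; norm_num)
  have : Finite (Cfsg.PSU 4 F 3) := inferInstance
  obtain ⟨i, j, k, l, x₁, x₂, y, s, h, hs, hys⟩ := U43Tw.exists_tw (F := F) hF
  exact (row_of_tw h hs hys (by rw [U43Tw.card_K hF]; norm_num)).of_equiv f.symm

end Cfsg.Agent.OddHalf.D4.Small.UFour
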