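import Cfsg.Agent.OddHalf.D4.Small.Row
import Cfsg.Agent.OddHalf.D6.QThree.U43Tw

/-!
# ODD, D4, small Lie odd: the centraliser `Case9aa` (helper890)

For a finite group with `Case9aa Q z i j k l x₁ x₂ y s` and any twist:
* `isQQ`: `Q = ⟨i, j⟩ * ⟨k, l⟩`;
* `syl`: `⟨i, j, k, l, y, s⟩` of order `2 ^ 7`;
* `sheet`: the sheet.
-/

set_option autoImplicit false

namespace Cfsg.Agent.OddHalf.D4.Small.NineAA

open Subgroup Cfsg.Agent.Co2Type.Quad Cfsg.Agent.LargeExtra.W2 Cfsg.Agent.LargeExtra.W2.CM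
open Cfsg.Agent.LargeExtra.W2.U43 Cfsg.Agent.OddHalf.D6.QThree

variable {G : Type*} [Group G] {Q : Subgroup G} {al be ga : Bool} {z i j k l x₁ x₂ y s : G}

/-- the element of `Q` -/
def qt (w : Qt) : T := ⟨w, C3.o, C3.o, false, false⟩

theorem ev_qt (w : Qt) : (qt w).ev z i j k l x₁ x₂ y s = w.ev z i j k l := by
  simp [T.ev, qt, pw, pw3]

/-- elements of `Q` -/
theorem exists_qt (h : Case9aa Q z i j k l x₁ x₂ y s) (R : Rules al be ga z i j k l x₁ x₂ y s) {x : G}
    (hx : x ∈ Q) : ∃ w : Qt, x = w.ev z i j k l := by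
  obtain ⟨w, hw⟩ := Fusion.mem_Q h R hx
  exact ⟨w, by rw [hw, Fusion.E_tq]⟩

theorem evQ_inj [Finite G] (h : Case9aa Q z i j k l x₁ x₂ y s) (R : Rules al be ga z i j k l x₁ x₂ y s)
    {p q : Qt} (hpq : p.ev z i j k l = q.ev z i j k l) : p = q := by
  have h1 : qt p = qt q := by
    apply ev_inj h R
    show (qt p).ev z i j k l x₁ x₂ y s = (qt q).ev z i j k l x₁ x₂ y s
    rw [ev_qt, ev_qt, hpq]
  exact congrArg T.w h1

/-! ### `Q₁`, `Q₂` -/

theorem qmul_eq (p q : Qt) : p.mul q = ⟨xor (xor p.s q.s) (xor (xor (xor (p.a && q.a) (p.b && q.b)) (p.b && q.a))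
      (xor (xor (p.c && q.c) (p.d && q.d)) (p.d && q.c))),
    xor p.a q.a, xor p.b q.b, xor p.c q.c, xor p.d q.d⟩ := rfl

/-- a finite multiplicatively closed set of elements is a subgroup -/
def ofMul [Finite G] (S : Set G) (h1 : (1 : G) ∈ S) (hm : ∀ a ∈ S, ∀ b ∈ S, a * b ∈ S) : Subgroup G where
  carrier := S
  one_mem' := h1
  mul_mem' := fun ha hb => hm _ ha _ hb
  inv_mem' := by
    intro a ha
    have h2 : ∀ n : ℕ, a ^ n ∈ S := by
      intro n
      induction n with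
      | zero => rw [pow_zero]; exact h1
      | succ n ih => rw [pow_succ]; exact hm _ ih _ ha
    have h3 : a⁻¹ = a ^ (orderOf a - 1) := by
      rw [inv_eq_iff_mul_eq_one, ← pow_succ', Nat.sub_add_cancel (orderOf_pos a), pow_orderOf_eq_one]
    rw [h3]
    exact h2 _

theorem mem_ofMul [Finite G] {S : Set G} {h1 : (1 : G) ∈ S} {hm : ∀ a ∈ S, ∀ b ∈ S, a * b ∈ S} {x : G} :
    x ∈ ofMul S h1 hm ↔ x ∈ S := Iff.rfl

variable [Finite G]

/-- `⟨i, j⟩` -/
def Q1 (R : Rules al be ga z i j k l x₁ x₂ y s) : Subgroup G :=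
  ofMul {x | ∃ σ a b : Bool, x = Qt.ev z i j k l ⟨σ, a, b, false, false⟩}
    ⟨false, false, false, by simp [Qt.ev, pw]⟩ (by
      rintro _ ⟨σ, a, b, rfl⟩ _ ⟨σ', a', b', rfl⟩
      rw [evQ_mul R]
      exact ⟨_, _, _, rfl⟩)

/-- `⟨k, l⟩` -/
def Q2 (R : Rules al be ga z i j k l x₁ x₂ y s) : Subgroup G :=
  ofMul {x | ∃ σ a b : Bool, x = Qt.ev z i j k l ⟨σ, false, false, a, b⟩}
    ⟨false, false, false, by simp [Qt.ev, pw]⟩ (by
      rintro _ ⟨σ, a, b, rfl⟩ _ ⟨σ', a', b', rfl⟩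
      rw [evQ_mul R]
      exact ⟨_, _, _, rfl⟩)

theorem isQ1 (R : Rules al be ga z i j k l x₁ x₂ y s) (z1 : z ≠ 1) : IsQ z (Q1 R) := by
  refine IsQ.mk' (i := i) (j := j) R.zz z1 ⟨false, true, false, by simp [Qt.ev, pw]⟩
    ⟨false, false, true, by simp [Qt.ev, pw]⟩ R.ii R.jj (by coll R) ?_
  rintro _ ⟨σ, a, b, rfl⟩
  have hz1 : z * i = i * z := R.zi.symm
  have hz2 : z * j = j * z := R.zj.symm
  have hz3 : z * (i * j) = i * j * z := by rw [← mul_assoc, hz1, mul_assoc, hz2, mul_assoc]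
  rcases σ with _ | _ <;> rcases a with _ | _ <;> rcases b with _ | _ <;>
    simp [Qt.ev, pw, hz1, hz2, hz3]

theorem isQ2 (R : Rules al be ga z i j k l x₁ x₂ y s) (z1 : z ≠ 1) : IsQ z (Q2 R) := by
  refine IsQ.mk' (i := k) (j := l) R.zz z1 ⟨false, true, false, by simp [Qt.ev, pw]⟩
    ⟨false, false, true, by simp [Qt.ev, pw]⟩ R.kk R.ll (by coll R) ?_
  rintro _ ⟨σ, a, b, rfl⟩
  have hz1 : z * k = k * z := R.zk.symm
  have hz2 : z * l = l * z := R.zl.symm
  have hz3 : z * (k * l) = k * l * z := by rw [← mul_assoc, hz1, mul_assoc, hz2, mul_assoc]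
  rcases σ with _ | _ <;> rcases a with _ | _ <;> rcases b with _ | _ <;>
    simp [Qt.ev, pw, hz1, hz2, hz3]

theorem ev_mem (h : Case9aa Q z i j k l x₁ x₂ y s) (w : Qt) : w.ev z i j k l ∈ Q := by
  have hz : z ∈ Q := h.large.z_mem
  have hi : i ∈ Q := by rw [h.gen]; exact subset_closure (by simp)
  have hj : j ∈ Q := by rw [h.gen]; exact subset_closure (by simp)
  have hk : k ∈ Q := by rw [h.gen]; exact subset_closure (by simp)
  have hl : l ∈ Q := by rw [h.gen]; exact subset_closure (by simp)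
  have key : ∀ (b : Bool) (g : G), g ∈ Q → pw b g ∈ Q := by
    intro b g hg
    cases b
    · exact one_mem _
    · exact hg
  exact mul_mem (key _ _ hz) (mul_mem (key _ _ hi) (mul_mem (key _ _ hj) (mul_mem (key _ _ hk) (key _ _ hl))))

/-- `Q = Q₁ * Q₂` -/
theorem isQQ (h : Case9aa Q z i j k l x₁ x₂ y s) (R : Rules al be ga z i j k l x₁ x₂ y s) :
    IsQQ z (Q1 R) (Q2 R) Q where
  q1 := isQ1 R h.large.z_ne
  q2 := isQ2 R h.large.z_ne
  le1 := by
    rintro _ ⟨σ, a, b, rfl⟩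
    exact ev_mem h _
  le2 := by
    rintro _ ⟨σ, a, b, rfl⟩
    exact ev_mem h _
  com := by
    rintro _ ⟨σ, a, b, rfl⟩ _ ⟨σ', a', b', rfl⟩
    rw [evQ_mul R, evQ_mul R]
    congr 1
    cases σ <;> cases σ' <;> cases a <;> cases b <;> cases a' <;> cases b' <;> rfl
  inf := by
    rintro _ ⟨σ, a, b, rfl⟩ ⟨σ', a', b', h1⟩
    have h2 := evQ_inj h R h1
    injection h2 with h3 h4 h5 h6 h7
    subst h4 h5
    cases σ
    · left; simp [Qt.ev, pw]
    · right; simp [Qt.ev, pw]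
  mem := by
    intro r hr
    obtain ⟨w, rfl⟩ := exists_qt h R hr
    refine ⟨_, ⟨w.s, w.a, w.b, rfl⟩, _, ⟨false, w.c, w.d, rfl⟩, ?_⟩
    rw [evQ_mul R]
    congr 1
    obtain ⟨σ, a, b, c, d⟩ := w
    cases σ <;> cases a <;> cases b <;> cases c <;> cases d <;> rfl

/-- the element `x₁` of order three -/
theorem x₁_facts (h : Case9aa Q z i j k l x₁ x₂ y s) (R : Rules al be ga z i j k l x₁ x₂ y s) :
    x₁ * z = z * x₁ ∧ x₁ * x₁ * x₁ = 1 ∧ (∀ r ∈ Q2 R, x₁ * r = r * x₁) ∧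
      ∀ x ∈ Q1 R, x ≠ 1 → x ≠ z → x₁ * x * x₁⁻¹ ≠ x ∧ x₁ * x * x₁⁻¹ ≠ x * z := by
  refine ⟨R.zx, by rw [mul_assoc]; exact R.xxx, ?_, ?_⟩
  · rintro _ ⟨σ, a, b, rfl⟩
    exact ax1 R _
  · rintro _ ⟨σ, a, b, rfl⟩ h1 h2
    have e : x₁ * Qt.ev z i j k l ⟨σ, a, b, false, false⟩ * x₁⁻¹ =
        (Qt.x1 ⟨σ, a, b, false, false⟩).ev z i j k l := by
      rw [ax1 R, mul_inv_cancel_right]
    have ez : z = Qt.ev z i j k l ⟨true, false, false, false, false⟩ := by simp [Qt.ev, pw]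
    constructor
    · intro h3
      rw [e] at h3
      have h4 := evQ_inj h R h3
      injection h4 with h5 h6 h7 h8 h9
      have h6' : b = a := h6
      have h7' : xor a b = b := h7
      subst h6'
      cases b
      · cases σ
        · exact h1 (by simp [Qt.ev, pw])
        · exact h2 (by simp [Qt.ev, pw])
      · exact absurd h7' (by decide)
    · intro h3
      rw [e] at h3
      nth_rewrite 3 [ez] at h3
      rw [evQ_mul R] at h3
      have h4 := evQ_inj h R h3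
      injection h4 with h5 h6 h7 h8 h9
      have h6' : b = xor a false := h6
      have h7' : xor a b = xor b false := h7
      subst h6'
      cases a
      · cases σ
        · exact h1 (by simp [Qt.ev, pw])
        · exact h2 (by simp [Qt.ev, pw])
      · exact absurd h7' (by decide)

/-! ### The Sylow 2-subgroup -/

/-- `⟨i, j, k, l, y, s⟩` -/
def syl (R : Rules al be ga z i j k l x₁ x₂ y s) : Subgroup G :=
  ofMul {x | ∃ t : T, t.m = C3.o ∧ t.n = C3.o ∧ x = t.ev z i j k l x₁ x₂ y s}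
    ⟨T.one, rfl, rfl, ev_one.symm⟩ (by
      rintro _ ⟨t, h1, h2, rfl⟩ _ ⟨u, h3, h4, rfl⟩
      refine ⟨_, ?_, ?_, ev_mul R t u⟩
      · show t.m.add (ng t.e (bif t.f then u.n else u.m)) = C3.o
        rw [h1, h3, h4]
        cases t.e <;> cases t.f <;> rfl
      · show t.n.add (ng t.e (bif t.f then u.m else u.n)) = C3.o
        rw [h2, h3, h4]
        cases t.e <;> cases t.f <;> rfl)

/-- `t ^ 16` -/
def p16 (al be ga : Bool) (t : T) : T :=
  let t2 := T.mul al be ga t t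
  let t4 := T.mul al be ga t2 t2
  let t8 := T.mul al be ga t4 t4
  T.mul al be ga t8 t8

theorem chkP : allB (fun al => allB fun be => allB fun ga =>
    allT (fun t => !(C3.eqb t.m C3.o && C3.eqb t.n C3.o) || T.beq (p16 al be ga t) T.one)) = true := by
  decide +kernel

theorem syl_isPGroup (R : Rules al be ga z i j k l x₁ x₂ y s) : IsPGroup 2 (syl R) := by
  rintro ⟨x, t, h1, h2, rfl⟩
  refine ⟨4, Subtype.ext ?_⟩
  show (t.ev z i j k l x₁ x₂ y s) ^ 2 ^ 4 = 1
  have h3 := allT_spec (allB_spec (allB_spec (allB_spec chkP al) be) ga) t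
  rw [h1, h2, Bool.or_eq_true] at h3
  rcases h3 with h3 | h3
  · exact Bool.noConfusion h3
  · have h4 : p16 al be ga t = T.one := T.eq_of_beq h3
    have h5 : (t.ev z i j k l x₁ x₂ y s) ^ 2 ^ 4 = (p16 al be ga t).ev z i j k l x₁ x₂ y s := by
      have h6 : ∀ X : G, X ^ 2 ^ 4 = ((X * X) * (X * X) * ((X * X) * (X * X))) *
          ((X * X) * (X * X) * ((X * X) * (X * X))) := fun X => by
        have e1 : X * X = X ^ 2 := (pow_two X).symm
        rw [e1, ← pow_add, ← pow_add, ← pow_add]; norm_num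
      simp only [p16]
      rw [← ev_mul R, ← ev_mul R, ← ev_mul R, ← ev_mul R]
      exact h6 _
    rw [h5, h4, ev_one]

theorem syl_card (h : Case9aa Q z i j k l x₁ x₂ y s) (R : Rules al be ga z i j k l x₁ x₂ y s) :
    2 ^ 7 ≤ Nat.card (syl R) := by
  let f : (Bool × Bool × Bool × Bool × Bool) × Bool × Bool → syl R := fun u =>
    ⟨T.ev z i j k l x₁ x₂ y s ⟨⟨u.1.1, u.1.2.1, u.1.2.2.1, u.1.2.2.2.1, u.1.2.2.2.2⟩, C3.o, C3.o, u.2.1, u.2.2⟩,
      ⟨_, rfl, rfl, rfl⟩⟩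
  have hf : Function.Injective f := by
    intro u v huv
    have h1 := ev_inj h R (congrArg Subtype.val huv)
    injection h1 with h2 h3 h4 h5 h6
    injection h2 with g1 g2 g3 g4 g5
    obtain ⟨⟨u1, u2, u3, u4, u5⟩, u6, u7⟩ := u
    obtain ⟨⟨v1, v2, v3, v4, v5⟩, v6, v7⟩ := v
    dsimp only at g1 g2 g3 g4 g5 h5 h6
    rw [g1, g2, g3, g4, g5, h5, h6]
  have h1 := Nat.card_le_card_of_injective f hf
  have h2 : Nat.card ((Bool × Bool × Bool × Bool × Bool) × Bool × Bool) = 2 ^ 7 := by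
    simp [Nat.card_prod, Nat.card_eq_fintype_card]
  rwa [h2] at h1

theorem syl_comm (R : Rules al be ga z i j k l x₁ x₂ y s) {x : G} (hx : x ∈ syl R) : x * z = z * x := by
  obtain ⟨t, -, -, rfl⟩ := hx
  exact ev_comm R t

theorem le_syl (h : Case9aa Q z i j k l x₁ x₂ y s) (R : Rules al be ga z i j k l x₁ x₂ y s) : Q ≤ syl R := by
  intro x hx
  obtain ⟨w, rfl⟩ := exists_qt h R hx
  exact ⟨qt w, rfl, rfl, (ev_qt w).symm⟩


/-! ### The sheet -/

/-- `C_P(Q) = ⟨z⟩` -/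
theorem self' (h : Case9aa Q z i j k l x₁ x₂ y s) (p : G) (hp : p * z = z * p) (hc : ∀ r ∈ Q, p * r = r * p) :
    p = 1 ∨ p = z := h.large.cent p (h.large.self p hp hc) hc

/-- the sheet -/
theorem sheet (h : Case9aa Q z i j k l x₁ x₂ y s) (R : Rules al be ga z i j k l x₁ x₂ y s) :
    Sheet G (syl R) Q z := by
  obtain ⟨d1, d2, d3, d4⟩ := x₁_facts h R
  refine Sheet.of_QQ (Q₁ := Q1 R) (Q₂ := Q2 R) ?_ (isQQ h R) (self' h) d1 d2 d3 d4
  refine { z2 := R.zz, z1 := h.large.z_ne, zR := h.large.z_mem, RS := le_syl h R,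
           zc := fun x hx => syl_comm R hx, uniq := ?_, Rn := h.large.conj_mem, char := ?_ }
  · intro x hx _ hx1 hxc
    rcases self' h x (syl_comm R hx) (fun r hr => (hxc r (le_syl h R hr)).symm) with h1 | h1
    · exact absurd h1 hx1
    · exact h1
  · intro α hα r hr
    have hN : Q.map α.toMonoidHom ≤ Q := by
      refine U43Tw.le_of_act h.toPlus h.x₁_act h.x₂_act _ ?_ ?_ ?_
      · rintro _ ⟨q, hq, rfl⟩
        rw [mem_centralizer_singleton_iff]
        show α q * z = z * α q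
        have h1 := congrArg α (h.large.comm_z q hq)
        rwa [map_mul, map_mul, hα] at h1
      · rintro c hc _ ⟨q, hq, rfl⟩
        rw [mem_centralizer_singleton_iff] at hc
        have hc' : α.symm c * z = z * α.symm c := by
          have h1 := congrArg α.symm hc
          have h2 : α.symm z = z := by
            rw [MulEquiv.symm_apply_eq]; exact hα.symm
          rwa [map_mul, map_mul, h2] at h1
        refine ⟨_, h.large.conj_mem _ hc' q hq, ?_⟩
        show α (α.symm c * q * (α.symm c)⁻¹) = c * α q * c⁻¹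
        rw [map_mul, map_mul, map_inv, MulEquiv.apply_symm_apply]
      · exact (LargeExtra.Base.isPGroup h.large).map _
    exact hN ⟨r, hr, rfl⟩

/-- a Sylow 2-subgroup if `|G| = 2 ^ 7 m` -/
theorem exists_sylow (h : Case9aa Q z i j k l x₁ x₂ y s) (R : Rules al be ga z i j k l x₁ x₂ y s) {m : ℕ}
    (hm : Odd m) (hcard : Nat.card G = 2 ^ 7 * m) : ∃ S : Sylow 2 G, (S : Subgroup G) = syl R := by
  have : Fact (Nat.Prime 2) := ⟨Nat.prime_two⟩
  have hcop : Nat.Coprime 2 m := Nat.coprime_two_left.2 hm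
  have h1 : Nat.card (syl R) ∣ 2 ^ 7 := by
    obtain ⟨n, hn⟩ := IsPGroup.iff_card.1 (syl_isPGroup R)
    have h2 : Nat.card (syl R) ∣ Nat.card G := Subgroup.card_subgroup_dvd_card _
    rw [hcard] at h2
    rw [hn] at h2 ⊢
    exact (Nat.Coprime.pow_left n hcop).dvd_of_dvd_mul_right h2
  have h2 : Nat.card (syl R) = 2 ^ 7 :=
    le_antisymm (Nat.le_of_dvd (by norm_num) h1) (syl_card h R)
  have hm0 : m ≠ 0 := by rintro rfl; exact absurd hm (by decide)
  have h3 : Nat.card (syl R) = 2 ^ (Nat.card G).factorization 2 := by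
    rw [h2, hcard]
    congr 1
    rw [Nat.factorization_mul (by norm_num) hm0, Nat.Prime.factorization_pow Nat.prime_two]
    have h4 : ¬ 2 ∣ m := by
      intro h5
      exact absurd hm (Nat.not_odd_iff_even.2 (even_iff_two_dvd.2 h5))
    simp [Nat.factorization_eq_zero_of_not_dvd h4]
  exact ⟨Sylow.ofCard (syl R) h3, rfl⟩

/-! ### Irreducibility -/

/-- `C(z)` is irreducible on `Q / ⟨z⟩`. -/
theorem irr (h : Case9aa Q z i j k l x₁ x₂ y s) (R : Rules al be ga z i j k l x₁ x₂ y s) (N : Subgroup G)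
    (hN : N ≤ Q) (hn : ∀ g, g * z = z * g → ∀ n ∈ N, g * n * g⁻¹ ∈ N) :
    (∀ n ∈ N, n = 1 ∨ n = z) ∨ N = Q := by
  by_cases hc : ∀ n ∈ N, n = 1 ∨ n = z
  · exact Or.inl hc
  right
  push Not at hc
  obtain ⟨n, hnN, hn1, hnz⟩ := hc
  -- a noncentral element of `Q₁`
  have hs : s * z = z * s := R.zs
  have h1 : ∃ σ a b, (a || b) = true ∧ Qt.ev z i j k l ⟨σ, a, b, false, false⟩ ∈ N := by
    have key : ∀ w : Qt, w.ev z i j k l ∈ N → (w.a || w.b) = true →
        ∃ σ a b, (a || b) = true ∧ Qt.ev z i j k l ⟨σ, a, b, false, false⟩ ∈ N := by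
      intro w hw hab
      have h2 : w.x1.ev z i j k l ∈ N := by
        have h3 := hn x₁ R.zx _ hw
        rwa [ax1 R, mul_inv_cancel_right] at h3
      have h3 : (w.x1.ev z i j k l) * (w.ev z i j k l) ∈ N := mul_mem h2 hw
      rw [evQ_mul R] at h3
      obtain ⟨σ, a, b, c, d⟩ := w
      refine ⟨(Qt.mul (Qt.x1 ⟨σ, a, b, c, d⟩) ⟨σ, a, b, c, d⟩).s, xor b a, xor (xor a b) b, ?_, ?_⟩
      · have h4 : ∀ a b : Bool, (a || b) = true → (xor b a || xor (xor a b) b) = true := by decide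
        exact h4 a b hab
      · have e : Qt.mul (Qt.x1 ⟨σ, a, b, c, d⟩) ⟨σ, a, b, c, d⟩ =
            ⟨(Qt.mul (Qt.x1 ⟨σ, a, b, c, d⟩) ⟨σ, a, b, c, d⟩).s, xor b a, xor (xor a b) b, false, false⟩ := by
          cases c <;> cases d <;> rfl
        rw [e] at h3
        exact h3
    obtain ⟨w, rfl⟩ := exists_qt h R (hN hnN)
    by_cases hab : (w.a || w.b) = true
    · exact key w hnN hab
    · refine key w.sw ?_ ?_
      · have h3 := hn s hs _ hnN
        rwa [asw R, mul_inv_cancel_right] at h3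
      · obtain ⟨σ, a, b, c, d⟩ := w
        by_contra hcd
        have h2 : ¬ (c || d) = true := hcd
        have h3 : ¬ (a || b) = true := hab
        rw [Bool.not_eq_true, Bool.or_eq_false_iff] at h2 h3
        obtain ⟨rfl, rfl⟩ := h2
        obtain ⟨rfl, rfl⟩ := h3
        cases σ
        · exact hn1 (by simp [Qt.ev, pw])
        · exact hnz (by simp [Qt.ev, pw])
  have hzN : z ∈ N := by
    obtain ⟨σ, a, b, hab, hm⟩ := h1
    have h2 := mul_mem hm hm
    rw [evQ_mul R] at h2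
    have e : Qt.mul ⟨σ, a, b, false, false⟩ ⟨σ, a, b, false, false⟩ = ⟨true, false, false, false, false⟩ := by
      cases a <;> cases b
      · exact absurd hab (by decide)
      all_goals cases σ <;> rfl
    rw [e] at h2
    simpa [Qt.ev, pw] using h2
  have hi : i ∈ N := by
    obtain ⟨σ, a, b, hab, hm⟩ := h1
    have hx : ∀ g ∈ N, x₁ * g * x₁⁻¹ ∈ N := fun g hg => hn x₁ R.zx g hg
    have hm' : Qt.ev z i j k l ⟨false, a, b, false, false⟩ ∈ N := by
      cases σ
      · exact hm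
      · have h2 := mul_mem hzN hm
        have e : z * Qt.ev z i j k l ⟨true, a, b, false, false⟩ = Qt.ev z i j k l ⟨false, a, b, false, false⟩ := by
          simp only [Qt.ev, pw, cond_true, cond_false]
          rw [← mul_assoc, R.zz]
        rwa [e] at h2
    cases a <;> cases b
    · exact absurd hab (by decide)
    · -- `j`
      have h2 : j ∈ N := by simpa [Qt.ev, pw] using hm'
      have h3 := mul_mem (hx _ h2) (inv_mem h2)
      have e : x₁ * j * x₁⁻¹ * j⁻¹ = i := by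
        have e1 : x₁ * j * x₁⁻¹ = i * j := h.x₁_act.j
        rw [e1, mul_inv_cancel_right]
      rwa [e] at h3
    · simpa [Qt.ev, pw] using hm'
    · -- `i j`
      have h2 : i * j ∈ N := by simpa [Qt.ev, pw] using hm'
      have h3 := mul_mem (hx _ h2) (inv_mem h2)
      have e : x₁ * (i * j) * x₁⁻¹ * (i * j)⁻¹ = j := by
        have e1 : x₁ * i * x₁⁻¹ = j := h.x₁_act.i
        have e2 : x₁ * j * x₁⁻¹ = i * j := h.x₁_act.j
        calc x₁ * (i * j) * x₁⁻¹ * (i * j)⁻¹ = (x₁ * i * x₁⁻¹) * (x₁ * j * x₁⁻¹) * (i * j)⁻¹ := by group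
          _ = j * (i * j) * (i * j)⁻¹ := by rw [e1, e2]
          _ = j := by rw [mul_inv_cancel_right]
      rw [e] at h3
      have h4 := mul_mem h2 (inv_mem h3)
      rwa [mul_inv_cancel_right] at h4
  have hj : j ∈ N := by
    have h2 := hn x₁ R.zx _ hi
    have e1 : x₁ * i * x₁⁻¹ = j := h.x₁_act.i
    rwa [e1] at h2
  have hk : k ∈ N := by
    have h2 := hn s hs _ hi
    have e1 : s * i * s⁻¹ = k := h.s_act.i
    rwa [e1] at h2
  have hl : l ∈ N := by
    have h2 := hn s hs _ hj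
    have e1 : s * j * s⁻¹ = l := h.s_act.j
    rwa [e1] at h2
  apply le_antisymm hN
  rw [h.gen, closure_le]
  rintro g (rfl | rfl | rfl | rfl)
  · exact hi
  · exact hj
  · exact hk
  · exact hl

end Cfsg.Agent.OddHalf.D4.Small.NineAA
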