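import Cfsg.Agent.OddHalf.D4.Small.LFourRefl
import Cfsg.Agent.OddHalf.D4.Small.LFourNine

/-!
# ODD, D4, small Lie odd: the facts `SheetL` for `PSL(4, 3)`
-/

set_option autoImplicit false

namespace Cfsg.Agent.OddHalf.D4.Small.LFourK

open Matrix
open Cfsg.Agent.KFacts.LFourThree
open Cfsg.Agent.ClassicalGeometry.AutPSL
open Cfsg.Agent.LargeExtra.W2
open Cfsg.Agent.LargeExtra.W2.LFour (PslFacts.tr PslFacts.eq_top_of_adj)

/-- `diag(a J, J)` -/
def J4 (a : F3) : M4 := !![0, a, 0, 0; 2 * a, 0, 0, 0; 0, 0, 0, 1; 0, 0, 2, 0]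

def Mp : GL4 := ⟨J4 1, (2 : F3) • J4 1, by decide +kernel, by decide +kernel⟩
def Mm : GL4 := ⟨J4 2, (2 : F3) • J4 2, by decide +kernel, by decide +kernel⟩

theorem coe_Mp : (Mp : M4) = J4 1 := rfl
theorem coe_Mm : (Mm : M4) = J4 2 := rfl

/-! ### The Pfaffian -/

theorem form_apply (a : F3) (A : M4) (r t : Fin 4) : (A * J4 a * Aᵀ) r t =
    a * (A r 0 * A t 1 - A r 1 * A t 0) + (A r 2 * A t 3 - A r 3 * A t 2) := by
  have h2 : (2 : F3) = -1 := by decide
  rw [Matrix.mul_apply, Fin.sum_univ_four]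
  simp only [Matrix.mul_apply, Fin.sum_univ_four, transpose_apply]
  simp [J4, h2]
  ring

theorem det_four (A : M4) : A.det =
    (A 0 0 * A 1 1 - A 0 1 * A 1 0) * (A 2 2 * A 3 3 - A 2 3 * A 3 2)
    - (A 0 0 * A 2 1 - A 0 1 * A 2 0) * (A 1 2 * A 3 3 - A 1 3 * A 3 2)
    + (A 0 0 * A 3 1 - A 0 1 * A 3 0) * (A 1 2 * A 2 3 - A 1 3 * A 2 2)
    + (A 1 0 * A 2 1 - A 1 1 * A 2 0) * (A 0 2 * A 3 3 - A 0 3 * A 3 2)
    - (A 1 0 * A 3 1 - A 1 1 * A 3 0) * (A 0 2 * A 2 3 - A 0 3 * A 2 2)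
    + (A 2 0 * A 3 1 - A 2 1 * A 3 0) * (A 0 2 * A 1 3 - A 0 3 * A 1 2) := by
  rw [Matrix.det_succ_row_zero]
  simp [Fin.sum_univ_succ, Matrix.det_fin_three, Matrix.submatrix_apply, Fin.succAbove]
  ring

theorem pfaff (a : F3) (A N : M4) (hN : A * J4 a * Aᵀ = N) :
    N 0 1 * N 2 3 - N 0 2 * N 1 3 + N 0 3 * N 1 2 = a * A.det := by
  rw [← hN, det_four]
  simp only [form_apply]
  ring

theorem det_one {a : F3} (ha : a ≠ 0) {A : M4} {c : F3} (hc : c ≠ 0) (h : A * J4 a * Aᵀ = c • J4 a) :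
    A.det = 1 := by
  have h1 := pfaff a A _ h
  have h2 : (c • J4 a) 0 1 = c * a := rfl
  have h3 : (c • J4 a) 2 3 = c * 1 := rfl
  have h4 : (c • J4 a) 0 2 = c * 0 := rfl
  have h5 : (c • J4 a) 0 3 = c * 0 := rfl
  rw [h2, h3, h4, h5] at h1
  generalize A.det = d at h1 ⊢
  generalize (c • J4 a) 1 3 = e at h1
  generalize (c • J4 a) 1 2 = f at h1
  have key : ∀ a c d e f : F3, a ≠ 0 → c ≠ 0 → c * a * (c * 1) - c * 0 * e + c * 0 * f = a * d → d = 1 := by
    decide
  exact key a c d e f ha hc h1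

def lp : SL4 := ⟨!![1, 0, 1, 0; 0, 1, 0, 1; 0, 0, 1, 0; 0, 0, 0, 1], by decide +kernel⟩
def lm : SL4 := ⟨!![1, 0, 1, 0; 0, 1, 0, 2; 0, 0, 1, 0; 0, 0, 0, 1], by decide +kernel⟩
def rp : SL4 := ⟨!![1, 0, 0, 0; 0, 1, 0, 0; 2, 0, 1, 0; 0, 2, 0, 1], by decide +kernel⟩
def rm : SL4 := ⟨!![1, 0, 0, 0; 0, 1, 0, 0; 2, 0, 1, 0; 0, 1, 0, 1], by decide +kernel⟩
def np : SL4 := ⟨!![1, 0, 1, 0; 0, 1, 0, 1; 1, 0, 2, 0; 0, 1, 0, 2], by decide +kernel⟩
def nm : SL4 := ⟨!![1, 0, 1, 0; 0, 1, 0, 2; 1, 0, 2, 0; 0, 2, 0, 2], by decide +kernel⟩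

theorem nice_p : Nice Mp where
  tr := by rw [coe_Mp]; decide +kernel
  sq := by rw [coe_Mp]; decide +kernel
  pf := fun A c hc h => det_one (a := 1) (by decide) hc h
  inv := ⟨lp, rp, np, by rw [coe_Mp]; decide +kernel, by decide +kernel, Or.inr (by decide +kernel),
    by decide +kernel, by decide +kernel⟩

theorem nice_m : Nice Mm where
  tr := by rw [coe_Mm]; decide +kernel
  sq := by rw [coe_Mm]; decide +kernel
  pf := fun A c hc h => det_one (a := 2) (by decide) hc h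
  inv := ⟨lm, rm, nm, by rw [coe_Mm]; decide +kernel, by decide +kernel, Or.inr (by decide +kernel),
    by decide +kernel, by decide +kernel⟩

/-- the reflection `ρ` -/
def rho : MulAut L := rf Mp

theorem rho_z : rho * MulAut.conj z = rf Mm := by
  have h1 : MulAut.conj z = Auto.lift (Auto.cj (tg eZ)) := (lift_tg eZ).symm
  have h2 : Mp * tinv (tg eZ) = Mm := by
    apply Units.ext
    rw [Units.val_mul, coe_Mp, coe_Mm, coe_tinv]
    have h3 : (((tg eZ)⁻¹ : GL4) : M4) = eZ.1 := by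
      have h4 : (tg eZ)⁻¹ = tg eZ := by
        rw [inv_eq_iff_mul_eq_one]
        apply Units.ext
        rw [Units.val_mul, coe_tg, Units.val_one]
        decide +kernel
      rw [h4, coe_tg]
    rw [h3]
    decide +kernel
  rw [h1, rho, rf, rf, ← map_mul, mul_assoc, itr_cj, ← mul_assoc, ← map_mul, h2]

/-! ### `ρ` is trivial on `C(z)` -/

theorem rho_fix_gen {g : L} (h : g ∈ ({i, j, k, l, x₁, x₂, y, s} : Set L)) : rho g = g := by
  simp only [Set.mem_insert_iff, Set.mem_singleton_iff] at h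
  rcases h with rfl | rfl | rfl | rfl | rfl | rfl | rfl | rfl
  · exact rf_eq (by rw [coe_Mp]; decide +kernel)
  · exact rf_eq (by rw [coe_Mp]; decide +kernel)
  · exact rf_eq (by rw [coe_Mp]; decide +kernel)
  · exact rf_eq (by rw [coe_Mp]; decide +kernel)
  · exact rf_eq (by rw [coe_Mp]; decide +kernel)
  · exact rf_eq (by rw [coe_Mp]; decide +kernel)
  · exact rf_eq' (by rw [coe_Mp]; decide +kernel)
  · exact rf_eq (by rw [coe_Mp]; decide +kernel)

theorem rho_fix {x : L} (h : x * z = z * x) : rho x = x := by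
  have h1 : x ∈ Subgroup.closure ({i, j, k, l, x₁, x₂, y, s} : Set L) := by
    rw [← cent_eq]
    exact Subgroup.mem_centralizer_singleton_iff.2 h
  have h2 : Subgroup.closure ({i, j, k, l, x₁, x₂, y, s} : Set L) ≤
      (rho : L ≃* L).toMonoidHom.eqLocus (MonoidHom.id L) := by
    rw [Subgroup.closure_le]
    intro g hg
    exact rho_fix_gen hg
  exact h2 h1

/-! ### Generation -/

theorem top_of {H : Subgroup L} (hC : ∀ x, x * z = z * x → x ∈ H)
    (h03 : pr (PslFacts.tr 0 3 (by decide) 1) ∈ H) : H = ⊤ := by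
  have hm : ∀ A : SL4, (A * eZ = eZ * A ∨ A * eZ = m1 * (eZ * A)) → A ∈ H.comap pr := fun A hA =>
    hC _ (comm_pr.2 hA)
  have cj : ∀ W A B : SL4, W ∈ H.comap pr → A ∈ H.comap pr → W * A = B * W → B ∈ H.comap pr := by
    intro W A B hW hA h
    have h1 : B = W * A * W⁻¹ := by rw [h, mul_inv_cancel_right]
    rw [h1]
    exact mul_mem (mul_mem hW hA) (inv_mem hW)
  have h1 : H.comap pr = ⊤ := by
    refine PslFacts.eq_top_of_adj _ ?_ ?_ ?_ ?_ ?_ ?_
    · exact hm _ (by decide +kernel)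
    · exact hm _ (by decide +kernel)
    · refine cj ⟨!![0, 2, 0, 0; 1, 0, 0, 0; 0, 0, 0, 1; 0, 0, 2, 0], by decide +kernel⟩ _ _
        (hm _ (by decide +kernel)) h03 (by decide +kernel)
    · refine cj eS _ _ (hm _ (by decide +kernel)) h03 (by decide +kernel)
    · exact hm _ (by decide +kernel)
    · exact hm _ (by decide +kernel)
  rw [eq_top_iff]
  intro x _
  obtain ⟨A, rfl⟩ := pr_surj x
  have h2 : A ∈ H.comap pr := by rw [h1]; exact Subgroup.mem_top _
  exact h2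

def ap : SL4 := ⟨!![1, 1, 0, 1; 0, 1, 0, 0; 0, 1, 1, 1; 0, 0, 0, 1], by decide +kernel⟩
def am : SL4 := ⟨!![1, 2, 0, 1; 0, 1, 0, 0; 0, 2, 1, 1; 0, 0, 0, 1], by decide +kernel⟩
def uu : SL4 := ⟨!![1, 0, 1, 0; 0, 1, 0, 1; 0, 0, 1, 0; 0, 0, 0, 1], by decide +kernel⟩

theorem gen1 (H : Subgroup L) (h0 : ∀ x, x * z = z * x → x ∈ H) (h1 : ∀ x, rho x = x → x ∈ H)
    (h2 : ∀ x, rho (z * x * z⁻¹) = x → x ∈ H) : H = ⊤ := by
  have e23 : pr (PslFacts.tr 2 3 (by decide) 1) ∈ H := h0 _ (comm_pr.2 (by decide +kernel))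
  have hp : pr ap ∈ H := h1 _ (rf_eq (by rw [coe_Mp]; decide +kernel))
  have hm : pr am ∈ H := by
    apply h2
    have h3 : rho (z * pr am * z⁻¹) = (rho * MulAut.conj z) (pr am) := rfl
    rw [h3, rho_z]
    exact rf_eq (by rw [coe_Mm]; decide +kernel)
  apply top_of h0
  have h4 : (PslFacts.tr 0 3 (by decide) 1 : SL4) =
      (PslFacts.tr 2 3 (by decide) 1 * (ap * am)) * (PslFacts.tr 2 3 (by decide) 1 * (ap * am)) := by
    decide +kernel
  rw [h4, map_mul, map_mul, map_mul]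
  exact mul_mem (mul_mem e23 (mul_mem hp hm)) (mul_mem e23 (mul_mem hp hm))

theorem gen2 (H : Subgroup L) (h : ∀ r ∈ Q, r * r = 1 → r ≠ 1 → ∀ x, x * r = r * x → x ∈ H) : H = ⊤ := by
  have h0 : ∀ x, x * z = z * x → x ∈ H := h z Cfsg.Agent.KFacts.LFourThree.z_mem zz z_ne
  have hik : i * k ∈ Q := mul_mem (gen_mem (by simp)) (gen_mem (by simp))
  have hik2 : i * k * (i * k) = 1 := by
    simp only [i, k, ← map_mul]
    exact pr_eq_one_iff.2 (by decide +kernel)
  have hik1 : i * k ≠ 1 := by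
    simp only [i, k, ← map_mul]
    rw [Ne, pr_eq_one_iff]
    decide +kernel
  have hu : pr uu ∈ H := by
    refine h _ hik hik2 hik1 _ ?_
    simp only [i, k, ← map_mul]
    exact pm (by decide +kernel)
  have hc : pr (PslFacts.tr 0 1 (by decide) 1) ∈ H := h0 _ (comm_pr.2 (by decide +kernel))
  apply top_of h0
  have h4 : (PslFacts.tr 0 3 (by decide) 1 : SL4) * uu * PslFacts.tr 0 1 (by decide) 1 =
      PslFacts.tr 0 1 (by decide) 1 * uu := by
    decide +kernel
  have h5 : pr (PslFacts.tr 0 3 (by decide) 1) =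
      pr (PslFacts.tr 0 1 (by decide) 1) * pr uu * (pr (PslFacts.tr 0 1 (by decide) 1))⁻¹ * (pr uu)⁻¹ := by
    rw [← map_mul, ← h4, map_mul, map_mul]
    group
  rw [h5]
  exact mul_mem (mul_mem (mul_mem hc hu) (inv_mem hc)) (inv_mem hu)

/-! ### The automorphisms centralizing the Sylow subgroup -/

theorem comm_of_fix {A : GL4} {E : SL4} (h : Auto.lift (Auto.cj A) (pr E) = pr E) :
    (A : M4) * E.1 = E.1 * A ∨ (A : M4) * E.1 = (2 : F3) • (E.1 * (A : M4)) := by
  have h1 : pr (Auto.cj A E) = pr E := h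
  have h2 : (A : M4) * E.1 = (Auto.cj A E).1 * A := by
    have h3 : (Auto.cj A E).1 = (A : M4) * E.1 * ((A⁻¹ : GL4) : M4) := rfl
    rw [h3, mul_assoc, ← Units.val_mul, inv_mul_cancel, Units.val_one, mul_one]
  rcases pr_eq_iff.1 h1 with h3 | h3
  · left
    rw [h2, h3]
  · right
    rw [h2, h3, m1_val, Matrix.smul_mul]

theorem fix_cj {A : GL4} (hi : Auto.lift (Auto.cj A) i = i) (hj : Auto.lift (Auto.cj A) j = j)
    (hk : Auto.lift (Auto.cj A) k = k) (hl : Auto.lift (Auto.cj A) l = l) :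
    Auto.lift (Auto.cj A) = 1 ∨ Auto.lift (Auto.cj A) = MulAut.conj z := by
  have c1 := comm_of_fix hi
  have c2 := comm_of_fix hj
  have c3 := comm_of_fix hk
  have c4 := comm_of_fix hl
  rw [eI_val] at c1
  rw [eJ_val] at c2
  rw [eK_val] at c3
  rw [eL_val] at c4
  -- `A` commutes with `eZ`
  have hz : (A : M4) * Matrix.diagonal dZ = Matrix.diagonal dZ * (A : M4) := by
    have h1 : Matrix.diagonal dZ = bd I2.1 1 * bd I2.1 1 := by decide +kernel
    rw [h1]
    rcases c1 with c1 | c1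
    · rw [← mul_assoc, c1, mul_assoc, c1, mul_assoc]
    · have h2 : (2 : F3) * 2 = 1 := by decide
      rw [← mul_assoc, c1, Matrix.smul_mul, mul_assoc, c1, Matrix.mul_smul, smul_smul, h2, one_smul, mul_assoc]
  have h2 := bd_of_comm hz
  have hdet : (A : M4).det ≠ 0 := by
    intro h3
    have h4 : ((A : M4) * ((A⁻¹ : GL4) : M4)).det = 1 := by
      rw [← Units.val_mul, mul_inv_cancel, Units.val_one, Matrix.det_one]
    rw [Matrix.det_mul, h3, zero_mul] at h4
    exact zero_ne_one h4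
  generalize !![(A : M4) 0 0, (A : M4) 0 1; (A : M4) 1 0, (A : M4) 1 1] = P at h2
  generalize !![(A : M4) 2 2, (A : M4) 2 3; (A : M4) 3 2, (A : M4) 3 3] = R at h2
  rw [h2] at c1 c2 c3 c4
  rw [h2, bd_det] at hdet
  have hP : P ≠ 0 := by
    rintro rfl
    apply hdet
    rw [Matrix.det_zero, zero_mul]
  have hR : R ≠ 0 := by
    rintro rfl
    apply hdet
    rw [Matrix.det_zero, mul_zero]
  have a1 := bd_comm_cases hR c1
  have a2 := bd_comm_cases hR c2
  have a3 := bd_comm_cases' hP c3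
  have a4 := bd_comm_cases' hP c4
  have e1 : ∀ B : SL4, (A : M4) = B.1 → A = tg B := fun B hB => Units.ext hB
  rcases scal a1 a2 hP with b1 | b1 <;> rcases scal a3 a4 hR with b2 | b2 <;> rw [b1, b2] at h2
  · left
    rw [e1 1 (h2.trans (by decide +kernel)), lift_tg, map_one, map_one]
  · right
    rw [e1 (m1 * eZ) (h2.trans (by decide +kernel)), lift_tg, map_mul, pr_m1, one_mul]
    rfl
  · right
    rw [e1 eZ (h2.trans (by decide +kernel)), lift_tg]
    rfl
  · left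
    rw [e1 m1 (h2.trans (by decide +kernel)), lift_tg, pr_m1, map_one]

theorem q_comm {g : L} (h : g ∈ ({i, j, k, l} : Set L)) : rho g = g := by
  apply rho_fix_gen
  simp only [Set.mem_insert_iff, Set.mem_singleton_iff] at h ⊢
  tauto

theorem four {α : MulAut L} (hα : ∀ g ∈ ({i, j, k, l} : Set L), α g = g) :
    (∀ x, α x = x) ∨ (∀ x, α x = z * x * z⁻¹) ∨ (∀ x, α x = rho x) ∨ ∀ x, α x = rho (z * x * z⁻¹) := by
  rcases forms α with ⟨A, rfl⟩ | ⟨A, rfl⟩
  · rcases fix_cj (hα i (by simp)) (hα j (by simp)) (hα k (by simp)) (hα l (by simp)) with h | h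
    · left
      intro x
      rw [h, MulAut.one_apply]
    · right; left
      intro x
      rw [h, MulAut.conj_apply]
  · have h1 : Auto.lift (Auto.cj A * Auto.itr) * rho = Auto.lift (Auto.cj (A * Mp)) := by
      rw [rho, rf, ← map_mul, mul_assoc, ← mul_assoc Auto.itr, itr_cj, nice_p.tinv_eq, mul_assoc,
        Auto.itr_mul_itr, mul_one, map_mul Auto.cj]
    have h2 : ∀ g ∈ ({i, j, k, l} : Set L), Auto.lift (Auto.cj (A * Mp)) g = g := by
      intro g hg
      rw [← h1, MulAut.mul_apply, q_comm hg, hα g hg]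
    have h3 : ∀ x, Auto.lift (Auto.cj A * Auto.itr) x = Auto.lift (Auto.cj (A * Mp)) (rho x) := by
      intro x
      rw [← h1, MulAut.mul_apply, rho, nice_p.rf_rf]
    rcases fix_cj (h2 i (by simp)) (h2 j (by simp)) (h2 k (by simp)) (h2 l (by simp)) with h | h
    · right; right; left
      intro x
      rw [h3, h, MulAut.one_apply]
    · right; right; right
      intro x
      rw [h3, h, MulAut.conj_apply, map_mul, map_mul, map_inv, rho_fix (x := z) rfl]

/-- **The sheet of `PSL(4, 3)`.** -/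
theorem sheetL {al be ga : Bool} (R : LargeExtra.W2.CM.Rules al be ga z i j k l x₁ x₂ y s) :
    LFour.SheetL L (NineAA.syl R) Q z rho where
  toSheet := NineAA.sheet case9aa R
  refl := nice_p.isRefl
  refl' := by rw [rho_z]; exact nice_m.isRefl
  fixS := fun x hx => rho_fix (NineAA.syl_comm R hx)
  irr := fun N hN hn => NineAA.irr case9aa R N hN hn
  big := by rw [card_Q]; norm_num
  gen1 := gen1
  gen2 := gen2
  four := by
    intro α _ hα
    apply four
    intro g hg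
    exact hα g (NineAA.le_syl case9aa R (gen_mem hg))

theorem hasSheetL_L : LFour.HasSheetL L := by
  obtain ⟨al, be, ga, R⟩ := LargeExtra.W2.CM.rules_of_case case9aa
  obtain ⟨S, hS⟩ := NineAA.exists_sylow case9aa R (m := 47385) (by decide) (by rw [card_L]; norm_num)
  have h := sheetL R
  rw [← hS] at h
  exact LFour.HasSheetL.of_one h

/-- **`L₄(3)`.** -/
theorem hasSheetL {F : Type*} [Field F] [Fintype F] (hF : Fintype.card F = 3) {X : Type*} [Group X]
    (e : X ≃* Matrix.ProjectiveSpecialLinearGroup (Fin 4) F) : LFour.HasSheetL X := by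
  obtain ⟨e'⟩ := LFour.PslFacts.psl_congr F hF
  exact hasSheetL_L.of_equiv (e'.trans e.symm)

end Cfsg.Agent.OddHalf.D4.Small.LFourK
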