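import Cfsg.Agent.OddHalf.D4.Small.LFourDef
import Cfsg.Agent.KFacts.LFourThree.Facts
import Cfsg.Agent.ClassicalGeometry.AutPSL.Main

/-!
# ODD, D4, small Lie odd: the reflections of `PSL(4, 3)`

For a nonsingular alternating matrix `M` with `M * M = -1` the automorphism `A ↦ M A⁻ᵀ M⁻¹` of `PSL(4, 3)` is a
reflection. For `M = diag(J, J)`: `ρ`, for `M = diag(-J, J)`: `ρ ∘ conj z`.
-/

set_option autoImplicit false

namespace Cfsg.Agent.OddHalf.D4.Small.LFourK

open Matrix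
open Cfsg.Agent.KFacts.LFourThree
open Cfsg.Agent.ClassicalGeometry.AutPSL

abbrev GL4 := GL (Fin 4) F3

/-! ### General lemmas -/

section General

variable {ι F : Type*} [Fintype ι] [DecidableEq ι] [Field F]

/-- `A⁻ᵀ` -/
def tinv (A : GL ι F) : GL ι F where
  val := ((A⁻¹ : GL ι F) : Matrix ι ι F)ᵀ
  inv := (A : Matrix ι ι F)ᵀ
  val_inv := by rw [← transpose_mul, ← Units.val_mul, mul_inv_cancel, Units.val_one, transpose_one]
  inv_val := by rw [← transpose_mul, ← Units.val_mul, inv_mul_cancel, Units.val_one, transpose_one]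

theorem coe_tinv (A : GL ι F) : (tinv A : Matrix ι ι F) = ((A⁻¹ : GL ι F) : Matrix ι ι F)ᵀ := rfl

theorem tinv_mul (A : GL ι F) : (tinv A : Matrix ι ι F) * (A : Matrix ι ι F)ᵀ = 1 := by
  rw [coe_tinv, ← transpose_mul, ← Units.val_mul, mul_inv_cancel, Units.val_one, transpose_one]

theorem itr_cj (A : GL ι F) :
    (Auto.itr * Auto.cj A : MulAut (SpecialLinearGroup ι F)) = Auto.cj (tinv A) * Auto.itr := by
  apply MulEquiv.ext
  intro g
  apply Subtype.ext
  rw [MulAut.mul_apply, MulAut.mul_apply, Auto.coe_itr, Auto.coe_cj, Auto.coe_itr]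
  have h1 : (Auto.cj A g)⁻¹ = Auto.cj A g⁻¹ := (map_inv (Auto.cj A) g).symm
  rw [h1, Auto.coe_cj, transpose_mul, transpose_mul]
  show _ = ((A⁻¹ : GL ι F) : Matrix ι ι F)ᵀ * ((g⁻¹ : SpecialLinearGroup ι F) : Matrix ι ι F)ᵀ *
    (A : Matrix ι ι F)ᵀ
  rw [mul_assoc]

theorem v_mul_inv (A : SpecialLinearGroup ι F) :
    (A : Matrix ι ι F) * ((A⁻¹ : SpecialLinearGroup ι F) : Matrix ι ι F) = 1 :=
  congrArg Subtype.val (mul_inv_cancel A)

theorem v_inv_mul (A : SpecialLinearGroup ι F) :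
    ((A⁻¹ : SpecialLinearGroup ι F) : Matrix ι ι F) * (A : Matrix ι ι F) = 1 :=
  congrArg Subtype.val (inv_mul_cancel A)

/-- `SL` in `GL` -/
def tg (A : SpecialLinearGroup ι F) : GL ι F where
  val := (A : Matrix ι ι F)
  inv := ((A⁻¹ : SpecialLinearGroup ι F) : Matrix ι ι F)
  val_inv := v_mul_inv A
  inv_val := v_inv_mul A

theorem coe_tg (A : SpecialLinearGroup ι F) : (tg A : Matrix ι ι F) = A := rfl

/-- matrices of determinant one -/
def toSL (A : Matrix ι ι F) (h : A.det = 1) : SpecialLinearGroup ι F := ⟨A, h⟩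

theorem tg_toSL (A : GL ι F) (h : (A : Matrix ι ι F).det = 1) : tg (toSL (A : Matrix ι ι F) h) = A :=
  Units.ext rfl

theorem cj_tg (A B : SpecialLinearGroup ι F) : Auto.cj (tg A) B = A * B * A⁻¹ := by
  apply Subtype.ext
  rw [Auto.coe_cj]
  rfl

theorem lift_tg' (A : SpecialLinearGroup ι F) : Auto.lift (Auto.cj (tg A)) = MulAut.conj (Root.pr A) := by
  apply MulEquiv.ext
  intro x
  obtain ⟨B, rfl⟩ := Root.pr_surjective x
  rw [Auto.lift_pr, cj_tg, MulAut.conj_apply, map_mul, map_mul, map_inv]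

/-- `ρ(A) = B` if `B M Aᵀ = M` -/
theorem cj_itr_eq {M : GL ι F} {A B : SpecialLinearGroup ι F}
    (h : (B : Matrix ι ι F) * M * (A : Matrix ι ι F)ᵀ = M) : Auto.cj M (Auto.itr A) = B := by
  apply Subtype.ext
  rw [Auto.coe_cj, Auto.coe_itr]
  have h1 : (A : Matrix ι ι F)ᵀ * ((A⁻¹ : SpecialLinearGroup ι F) : Matrix ι ι F)ᵀ = 1 := by
    rw [← transpose_mul, v_inv_mul, transpose_one]
  have h2 : (M : Matrix ι ι F) * ((A⁻¹ : SpecialLinearGroup ι F) : Matrix ι ι F)ᵀ = (B : Matrix ι ι F) * M := by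
    have h3 : (B : Matrix ι ι F) * M * (A : Matrix ι ι F)ᵀ * ((A⁻¹ : SpecialLinearGroup ι F) : Matrix ι ι F)ᵀ =
        (B : Matrix ι ι F) * M := by
      rw [mul_assoc, h1, mul_one]
    rwa [h] at h3
  rw [h2, mul_assoc, ← Units.val_mul, mul_inv_cancel, Units.val_one, mul_one]

/-- `lift (cj A) = lift (cj B)` -/
theorem scalar_of_eq [Nontrivial ι] {A B : GL ι F} (h : Auto.lift (Auto.cj A) = Auto.lift (Auto.cj B)) :
    ∃ c : F, c ≠ 0 ∧ (A : Matrix ι ι F) = c • (B : Matrix ι ι F) := by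
  have hf : (Auto.fld (RingEquiv.refl F) : MulAut (SpecialLinearGroup ι F)) = 1 := map_one Auto.fld
  have h1 : Auto.lift (Auto.cj (B⁻¹ * A) * Auto.fld (RingEquiv.refl F)) =
      Auto.lift (Auto.fld (RingEquiv.refl F)) := by
    rw [hf, mul_one, map_mul, map_inv, map_mul, map_inv, h, inv_mul_cancel, map_one]
  obtain ⟨⟨r, hr⟩, -⟩ := Main.injective_aux h1
  have h2 : (A : Matrix ι ι F) = r • (B : Matrix ι ι F) := by
    have h3 : (A : Matrix ι ι F) = (B : Matrix ι ι F) * ((B⁻¹ * A : GL ι F) : Matrix ι ι F) := by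
      rw [← Units.val_mul, mul_inv_cancel_left]
    rw [h3, ← hr, scalar_apply, ← smul_one_eq_diagonal, Matrix.mul_smul, mul_one]
  refine ⟨r, ?_, h2⟩
  rintro rfl
  rw [zero_smul] at h2
  have h3 : (A : Matrix ι ι F) * ((A⁻¹ : GL ι F) : Matrix ι ι F) = 1 := by
    rw [← Units.val_mul, mul_inv_cancel, Units.val_one]
  rw [h2, zero_mul] at h3
  obtain ⟨i⟩ : Nonempty ι := inferInstance
  have h4 := congrFun (congrFun h3 i) i
  rw [one_apply_eq] at h4
  exact zero_ne_one h4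

theorem lift_not (hι : 3 ≤ Fintype.card ι) {A B : GL ι F}
    (h : Auto.lift (Auto.cj A * Auto.itr) = Auto.lift (Auto.cj B)) : False := by
  have hf : (Auto.fld (RingEquiv.refl F) : MulAut (SpecialLinearGroup ι F)) = 1 := map_one Auto.fld
  apply Main.not_graph hι (C := B⁻¹ * A) (σ := RingEquiv.refl F) (τ := RingEquiv.refl F)
  rw [hf, mul_one, map_one, map_mul Auto.cj, map_inv, mul_assoc, map_mul, h, ← map_mul, inv_mul_cancel,
    map_one]

/-- an automorphism `lift (cj A)` commuting with `lift (cj M * itr)` -/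
theorem comm_itr [Nontrivial ι] {A M : GL ι F}
    (hc : Auto.lift (Auto.cj A) * Auto.lift (Auto.cj M * Auto.itr) =
      Auto.lift (Auto.cj M * Auto.itr) * Auto.lift (Auto.cj A)) :
    ∃ c : F, c ≠ 0 ∧ (A : Matrix ι ι F) * M * (A : Matrix ι ι F)ᵀ = c • (M : Matrix ι ι F) := by
  have h1 : Auto.lift (Auto.cj (A * M)) = Auto.lift (Auto.cj (M * tinv A)) := by
    have h2 : Auto.lift (Auto.cj (A * M)) * Auto.lift Auto.itr =
        Auto.lift (Auto.cj (M * tinv A)) * Auto.lift Auto.itr := by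
      rw [← map_mul, ← map_mul, map_mul Auto.cj, map_mul Auto.cj, mul_assoc, mul_assoc, ← itr_cj,
        ← mul_assoc (Auto.cj M), map_mul, map_mul Auto.lift (Auto.cj M * Auto.itr)]
      exact hc
    exact mul_right_cancel h2
  obtain ⟨c, hc0, h3⟩ := scalar_of_eq h1
  refine ⟨c, hc0, ?_⟩
  rw [← Units.val_mul, h3, Units.val_mul, Matrix.smul_mul, mul_assoc, tinv_mul, mul_one]

end General

theorem lift_tg (A : SL4) : Auto.lift (Auto.cj (tg A)) = MulAut.conj (pr A) := lift_tg' A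

theorem fld_eq_one (σ : F3 ≃+* F3) : σ = RingEquiv.refl F3 := by
  apply RingEquiv.ext
  intro x
  have h := RingHom.congr_fun (Subsingleton.elim (σ : F3 →+* F3) (RingHom.id F3)) x
  exact h

theorem fld_one : (Auto.fld (RingEquiv.refl F3) : MulAut SL4) = 1 := map_one Auto.fld

/-- the automorphisms of `PSL(4, 3)` -/
theorem forms (γ : MulAut L) : (∃ A : GL4, γ = Auto.lift (Auto.cj A)) ∨
    ∃ A : GL4, γ = Auto.lift (Auto.cj A * Auto.itr) := by
  rcases Main.surj_three 3 (by norm_num) γ with ⟨A, σ, h⟩ | ⟨A, σ, h⟩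
  · left
    refine ⟨A, ?_⟩
    rw [h, fld_eq_one σ, fld_one, mul_one]
  · right
    refine ⟨A, ?_⟩
    rw [h, fld_eq_one σ, fld_one, mul_one]

/-! ### Nice alternating matrices -/

structure Nice (M : GL4) : Prop where
  tr : (M : M4)ᵀ = (2 : F3) • (M : M4)
  sq : (M : M4) * M = (2 : F3) • (1 : M4)
  pf : ∀ A : M4, ∀ c : F3, c ≠ 0 → A * M * Aᵀ = c • (M : M4) → A.det = 1
  inv : ∃ A B N : SL4, B.1 * M * A.1ᵀ = M ∧ A = B * N ∧ (N * N = 1 ∨ N * N = m1) ∧ N ≠ 1 ∧ N ≠ m1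

/-- the reflection -/
def rf (M : GL4) : MulAut L := Auto.lift (Auto.cj M * Auto.itr)

theorem rf_pr (M : GL4) (A : SL4) : rf M (pr A) = pr (Auto.cj M (Auto.itr A)) := rfl

/-- `ρ(pr A) = pr B` if `B M Aᵀ = M` -/
theorem rf_eq {M : GL4} {A B : SL4} (h : B.1 * M * A.1ᵀ = M) : rf M (pr A) = pr B := by
  rw [rf_pr, cj_itr_eq h]

/-- `ρ(pr A) = pr B` if `B M Aᵀ = -M` -/
theorem rf_eq' {M : GL4} {A B : SL4} (h : B.1 * M * A.1ᵀ = (2 : F3) • (M : M4)) : rf M (pr A) = pr B := by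
  have h1 : (m1 * B).1 * M * A.1ᵀ = M := by
    rw [m1_val, Matrix.smul_mul, Matrix.smul_mul, h, smul_smul]
    have h2 : (2 : F3) * 2 = 1 := by decide
    rw [h2, one_smul]
  rw [rf_eq h1, map_mul, pr_m1, one_mul]

namespace Nice

variable {M : GL4}

theorem val_inv (h : Nice M) : ((M⁻¹ : GL4) : M4) = (2 : F3) • (M : M4) := by
  have h1 : (M : M4) * ((2 : F3) • (M : M4)) = 1 := by
    rw [Matrix.mul_smul, h.sq, smul_smul]
    have h2 : (2 : F3) * 2 = 1 := by decide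
    rw [h2, one_smul]
  have h2 : ((M⁻¹ : GL4) : M4) * (M : M4) = 1 := by rw [← Units.val_mul, inv_mul_cancel, Units.val_one]
  calc ((M⁻¹ : GL4) : M4) = ((M⁻¹ : GL4) : M4) * ((M : M4) * ((2 : F3) • (M : M4))) := by rw [h1, mul_one]
    _ = (2 : F3) • (M : M4) := by rw [← mul_assoc, h2, one_mul]

theorem tinv_eq (h : Nice M) : tinv M = M := by
  apply Units.ext
  show ((M⁻¹ : GL4) : M4)ᵀ = M
  rw [h.val_inv, transpose_smul, h.tr, smul_smul]
  have h2 : (2 : F3) * 2 = 1 := by decide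
  rw [h2, one_smul]

theorem sq' (h : Nice M) : (Auto.cj M * Auto.itr) * (Auto.cj M * Auto.itr) = (1 : MulAut SL4) := by
  have h1 : Auto.cj (M * M) = (1 : MulAut SL4) := by
    apply Main.cj_eq_one_of_scalar (r := (2 : F3))
    rw [Units.val_mul, h.sq, scalar_apply, ← smul_one_eq_diagonal]
  calc (Auto.cj M * Auto.itr) * (Auto.cj M * Auto.itr) = Auto.cj M * (Auto.itr * Auto.cj M) * Auto.itr := by
        simp only [mul_assoc]
    _ = (Auto.cj M * Auto.cj M) * (Auto.itr * Auto.itr) := by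
        rw [itr_cj, h.tinv_eq]; simp only [mul_assoc]
    _ = 1 := by rw [← map_mul, h1, Auto.itr_mul_itr, mul_one]

theorem rf_sq (h : Nice M) : rf M * rf M = 1 := by
  rw [rf, ← map_mul, h.sq', map_one]

theorem rf_rf (h : Nice M) (x : L) : rf M (rf M x) = x := by
  rw [← MulAut.mul_apply, h.rf_sq, MulAut.one_apply]

/-- (R5), inner-diagonal part -/
theorem inner (h : Nice M) {A : GL4} (hc : Auto.lift (Auto.cj A) * rf M = rf M * Auto.lift (Auto.cj A)) :
    ∃ B : SL4, Auto.lift (Auto.cj A) = MulAut.conj (pr B) := by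
  obtain ⟨c, hc0, h4⟩ := comm_itr hc
  have h6 := h.pf _ c hc0 h4
  refine ⟨toSL (A : M4) h6, ?_⟩
  rw [← lift_tg, tg_toSL]

theorem isRefl (h : Nice M) : LFour.IsRefl L (rf M) := by
  refine ⟨h.rf_rf, ?_, ?_, ?_⟩
  · intro k hk
    obtain ⟨A, rfl⟩ := pr_surj k
    have h1 : rf M = Auto.lift (Auto.cj (tg A)) := by
      rw [lift_tg]
      apply MulEquiv.ext
      intro x
      rw [hk x, MulAut.conj_apply]
    exact lift_not (by simp) h1
  · obtain ⟨A, B, N, h1, h2, h3, h4, h5⟩ := h.inv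
    have h6 : (rf M (pr A))⁻¹ * pr A = pr N := by
      rw [rf_eq h1, h2, map_mul, inv_mul_cancel_left]
    have h7 : pr N * pr N = 1 := by
      rw [← map_mul, pr_eq_one_iff]
      exact h3
    refine ⟨pr A, ?_, ?_, ?_⟩
    · rw [h6, h7]
    · rw [h6, Ne, pr_eq_one_iff]
      rintro (h8 | h8)
      · exact h4 h8
      · exact h5 h8
    · rw [map_mul, map_inv, h.rf_rf]
      have h8 : ((rf M (pr A))⁻¹ * pr A)⁻¹ = (pr A)⁻¹ * rf M (pr A) := by group
      rw [← h8, h6]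
      exact inv_eq_of_mul_eq_one_left h7
  · intro γ hγ
    have hγ' : γ * rf M = rf M * γ := by
      apply MulEquiv.ext
      intro x
      rw [MulAut.mul_apply, MulAut.mul_apply, hγ]
    rcases forms γ with ⟨A, rfl⟩ | ⟨A, rfl⟩
    · left
      obtain ⟨B, hB⟩ := h.inner hγ'
      refine ⟨pr B, ?_⟩
      intro x
      rw [hB, MulAut.conj_apply]
    · right
      have h1 : Auto.lift (Auto.cj A * Auto.itr) * rf M = Auto.lift (Auto.cj (A * M)) := by
        rw [rf, ← map_mul, mul_assoc, ← mul_assoc Auto.itr, itr_cj, h.tinv_eq, mul_assoc, Auto.itr_mul_itr,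
          mul_one, map_mul Auto.cj]
      have h2 : Auto.lift (Auto.cj (A * M)) * rf M = rf M * Auto.lift (Auto.cj (A * M)) := by
        rw [← h1, mul_assoc, h.rf_sq, mul_one, hγ', ← mul_assoc, h.rf_sq, one_mul]
      obtain ⟨B, hB⟩ := h.inner h2
      refine ⟨pr B, ?_⟩
      intro x
      rw [← MulAut.mul_apply, h1, hB, MulAut.conj_apply]

end Nice

end Cfsg.Agent.OddHalf.D4.Small.LFourK
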