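import Mathlib
import Cfsg.Agent.OddHalf.D4.Small.Row
import Cfsg.Agent.OddHalf.D4.Start
import Cfsg.Agent.S1173

/-!
# ODD, D4, small Lie odd: the rows in the form of `D4.Cut`
-/

set_option autoImplicit false

namespace Cfsg.Agent.OddHalf.D4.Small

open Subgroup Cfsg

universe u

/-- **The row of a family of groups with `Row`.** -/
theorem row1 {P : (K : Type u) → [Group K] → Prop} (h : ∀ (K : Type u) [Group K], P K → Row K) :
    Cut.Row1 P := by
  intro G _ C K S hr hz hP
  have := C.fin
  have := C.simple
  obtain ⟨a, b, ha, hb, ha2, hb2, hab, hne⟩ := EvenPair.exists_two_of_not_pRankLE hr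
  refine false_of_row ?_ S.std (Start.isSimple_of_center S.simple hz) hz hr (h _ hP)
  exact fun T U hTU => Cfsg.Agent.S1173.result (Start.oddCore_eq_bot ha2) T U hTU

end Cfsg.Agent.OddHalf.D4.Small
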