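import Cfsg.Agent.OddHalf.D4.Small.Core
import Cfsg.Agent.OddHalf.D6.QThree.G23Aut

/-!
# ODD, D4, small Lie odd: the facts on `G₂(3)`, from the coordinates `Case9c` of `C(z)` (helper618)

`S = R ⟨y⟩`, `A = ⟨z, i k, j l⟩`.
-/

set_option autoImplicit false

namespace Cfsg.Agent.OddHalf.D4.Small.KG23

open Cfsg.Agent.Co2Type.Quad Cfsg.Agent.LargeExtra.Model Cfsg.Agent.LargeExtra.Pres
open Cfsg.Agent.LargeExtra.W2 Cfsg.Agent.LargeExtra.W2.PlusHom
open Cfsg.Agent.GTwoThree.Cent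
open Cfsg.Agent.OddHalf.D6.QThree.G23Abs Cfsg.Agent.OddHalf.D6.QThree.G23Aut

/-- the code commutes with `i k` and `j l` -/
def cA (m : M) : Prop := m * (mi * mk) = mi * mk * m ∧ m * (mj * ml) = mj * ml * m

instance (m : M) : Decidable (cA m) := by unfold cA; infer_instance

/-- the elements of `⟨z, i k, j l⟩` -/
def LA : List M := [1, mi * mk, mj * ml, mi * mk * (mj * ml), zz, zz * (mi * mk), zz * (mj * ml),
  zz * (mi * mk * (mj * ml))]

set_option maxRecDepth 100000 in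
theorem mem_LA : ∀ m : M, cA m → m ∈ LA := by decide +kernel

theorem of_LA : ∀ m ∈ LA, cA m := by decide +kernel

theorem comm_LA : ∀ m ∈ LA, ∀ n ∈ LA, m * n = n * m := by decide +kernel

set_option maxRecDepth 100000 in
theorem dec_S : ∀ m' : M, ∀ e : Fin 2, ∀ m ∈ LA, cA (m' * act 0 0 e m * m'⁻¹) := by decide +kernel

set_option maxRecDepth 100000 in
theorem dec_CA : ∀ u : K, mul false u (kq (mi * mk)) = mul false (kq (mi * mk)) u →
    mul false u (kq (mj * ml)) = mul false (kq (mj * ml)) u → u.2 = (0, 0, 0) ∧ cA u.1 := by decide +kernel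

theorem dec_mul2 : ∀ u v : Fin 3 × Fin 3 × Fin 2, u.1 = 0 → u.2.1 = 0 → v.1 = 0 → v.2.1 = 0 →
    (mul2 u v).1 = 0 ∧ (mul2 u v).2.1 = 0 := by decide +kernel

theorem dec_inv2 : ∀ u v : Fin 3 × Fin 3 × Fin 2, u.1 = 0 → u.2.1 = 0 → mul2 u v = (0, 0, 0) →
    v.1 = 0 ∧ v.2.1 = 0 := by decide +kernel

theorem dec_sq2 : ∀ u : Fin 3 × Fin 3 × Fin 2, u.1 = 0 → u.2.1 = 0 → mul2 u u = (0, 0, 0) := by decide +kernel

theorem dec_core : ∀ u : Fin 3 × Fin 3 × Fin 2, u.1 = 0 → u.2.1 = 0 →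
    (mul2 (mul2 (1, 0, 0) u) (mul2 (1, 0, 0) (1, 0, 0))).1 = 0 → u = (0, 0, 0) := by decide +kernel

theorem dec_mem : ∀ m : M, ∃ a ∈ LI, ∃ b ∈ LK, m = a * b := by decide +kernel

theorem dec_c1 : ∀ m ∈ LI, c1 m := by decide +kernel
theorem dec_c2 : ∀ m ∈ LK, c2 m := by decide +kernel
theorem dec_com : ∀ m ∈ LI, ∀ n ∈ LK, m * n = n * m := by decide +kernel
theorem dec_s1 : ∀ m ∈ LI, m ≠ 1 → m ≠ zz → s1 m ≠ m ∧ s1 m ≠ m * zz := by decide +kernel

variable {G : Type*} [Group G] {Q : Subgroup G} {z i j k l x₁ x₂ y : G}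

section

variable (h : Case9c Q z i j k l x₁ x₂ y) (hy : y * y = 1)

/-- the Sylow 2-subgroup `Q ⟨y⟩` -/
def S : Subgroup G where
  carrier := {x | ∃ u : K, toG h u = x ∧ u.2.1 = 0 ∧ u.2.2.1 = 0}
  one_mem' := ⟨k1, toG_k1 h, rfl, rfl⟩
  mul_mem' := by
    rintro _ _ ⟨u, rfl, hu1, hu2⟩ ⟨w, rfl, hw1, hw2⟩
    exact ⟨mul false u w, mulG h hy u w, dec_mul2 u.2 w.2 hu1 hu2 hw1 hw2⟩
  inv_mem' := by
    rintro _ ⟨u, rfl, hu1, hu2⟩
    obtain ⟨w, hw⟩ := exists_code h (c := (toG h u)⁻¹) (by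
      have h1 : Commute (toG h u) z := toG_comm h u
      exact h1.inv_left.eq)
    refine ⟨w, hw, dec_inv2 u.2 w.2 hu1 hu2 ?_⟩
    have h2 : mul false u w = k1 := by
      rw [← toG_inj h, mulG h hy, hw, mul_inv_cancel, toG_k1]
    exact congrArg Prod.snd h2

theorem mem_S {x : G} : x ∈ S h hy ↔ ∃ u : K, toG h u = x ∧ u.2.1 = 0 ∧ u.2.2.1 = 0 := Iff.rfl

theorem S_comm {x : G} (hx : x ∈ S h hy) : x * z = z * x := by
  obtain ⟨u, rfl, -, -⟩ := (mem_S h hy).1 hx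
  exact toG_comm h u

theorem Q_le_S : Q ≤ S h hy := by
  intro x hx
  obtain ⟨m, rfl⟩ := exists_hom h.toPlus hx
  exact ⟨kq m, toG_kq h m, rfl, rfl⟩

theorem y_mem_S : y ∈ S h hy := ⟨ky, toG_ky h, rfl, rfl⟩

theorem S_sq {x : G} (hx : x ∈ S h hy) : x * x ∈ Q := by
  obtain ⟨u, rfl, h1, h2⟩ := (mem_S h hy).1 hx
  rw [← mulG h hy, mem_Q]
  exact dec_sq2 u.2 h1 h2

theorem isPGroup_S : IsPGroup 2 ↥(S h hy) := by
  rintro ⟨x, hx⟩
  refine ⟨3, Subtype.ext ?_⟩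
  show x ^ 8 = 1
  have h1 : x ^ 8 = x * x * (x * x) * (x * x * (x * x)) := by
    simp only [pow_succ, pow_zero, one_mul, mul_assoc]
  rw [h1]
  rcases h.large.sq _ (S_sq h hy hx) with h2 | h2 <;> rw [h2]
  · rw [one_mul]
  · exact h.large.z_sq

theorem card_S [Finite G] : 2 ^ 6 ≤ Nat.card ↥(S h hy) := by
  let f : M × Fin 2 → ↥(S h hy) := fun p => ⟨toG h (p.1, 0, 0, p.2), (p.1, 0, 0, p.2), rfl, rfl, rfl⟩
  have hf : Function.Injective f := by
    rintro ⟨m, e⟩ ⟨m', e'⟩ hh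
    have h1 := congrArg Subtype.val hh
    have h2 : toG h (m, 0, 0, e) = toG h (m', 0, 0, e') := h1
    rw [toG_inj] at h2
    have h3 : m = m' := congrArg Prod.fst h2
    have h4 : e = e' := congrArg (fun u : K => u.2.2.2) h2
    rw [h3, h4]
  have h1 := Nat.card_le_card_of_injective f hf
  rw [Nat.card_prod, card_XG, Nat.card_eq_fintype_card, Fintype.card_fin] at h1
  exact h1

theorem odd_index [Finite G] {m : ℕ} (hc : Nat.card G = 2 ^ 6 * m) (hm : Odd m) : Odd (S h hy).index := by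
  obtain ⟨a, ha⟩ := IsPGroup.iff_card.mp (isPGroup_S h hy)
  have h1 := (S h hy).card_mul_index
  have h2 := card_S h hy
  rw [ha] at h1 h2
  rw [hc] at h1
  have h3 : 6 ≤ a := (Nat.pow_le_pow_iff_right (by norm_num)).mp h2
  obtain ⟨b, rfl⟩ := Nat.exists_eq_add_of_le h3
  rw [pow_add, mul_assoc] at h1
  have h4 : 2 ^ b * (S h hy).index = m := Nat.eq_of_mul_eq_mul_left (by positivity) h1
  exact hm.of_dvd_nat (Dvd.intro_left _ h4)

/-! ### the sheet -/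

include h hy in
theorem cR (hodd : Odd (Subgroup.centralizer ({z} : Set G)).index) {g : G} (hg : g * z = z * g)
    (hgR : ∀ r ∈ Q, g * r = r * g) : g = 1 ∨ g = z := (base h hy hodd).cR g hg hgR

theorem core [Finite G] (hodd : Odd (Subgroup.centralizer ({z} : Set G)).index)
    {m : ℕ} (hc : Nat.card G = 2 ^ 6 * m) (hm : Odd m) : Core G (S h hy) Q z where
  two := isPGroup_S h hy
  odd := odd_index h hy hc hm
  z2 := h.large.z_sq
  z1 := h.large.z_ne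
  zR := h.large.z_mem
  RS := Q_le_S h hy
  zc := fun s hs => S_comm h hy hs
  uniq := by
    intro x hx _ hx1 hc'
    exact (cR h hy hodd (S_comm h hy hx) (fun r hr => (hc' r (Q_le_S h hy hr)).symm)).resolve_left hx1
  Rn := fun p hp r hr => h.large.conj_mem p hp r hr
  core := by
    intro x hx hh
    obtain ⟨u, rfl, h1, h2⟩ := (mem_S h hy).1 hx
    obtain ⟨w, hw, hw1, -⟩ := (mem_S h hy).1 (hh x₁ (x1_z h))
    rw [mem_Q]
    apply dec_core u.2 h1 h2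
    have h3 : w = mul false (mul false kx u) (mul false kx kx) := by
      rw [← toG_inj h, mulG h hy, mulG h hy, mulG h hy, toG_kx, ← x1_inv h]
      exact hw
    rw [h3] at hw1
    exact hw1

/-- `⟨i, j⟩` -/
def Q1 : Subgroup G := (Subgroup.centralizer ({mk, ml} : Set M)).map (hom h.toPlus)
/-- `⟨k, l⟩` -/
def Q2 : Subgroup G := (Subgroup.centralizer ({mi, mj} : Set M)).map (hom h.toPlus)
/-- `⟨z, i k, j l⟩` -/
def A : Subgroup G := (Subgroup.centralizer ({mi * mk, mj * ml} : Set M)).map (hom h.toPlus)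

omit [Group G] h hy in
theorem mem_cent_two {a b m : M} : m ∈ Subgroup.centralizer ({a, b} : Set M) ↔ m * a = a * m ∧ m * b = b * m := by
  rw [Subgroup.mem_centralizer_iff]
  constructor
  · intro h
    exact ⟨(h a (Or.inl rfl)).symm, (h b (Or.inr rfl)).symm⟩
  · rintro ⟨h1, h2⟩ x (rfl | hx)
    · exact h1.symm
    · have hx' : x = b := hx
      rw [hx']; exact h2.symm

omit hy in
theorem mem_Q1 {x : G} : x ∈ Q1 h ↔ ∃ m, m ∈ LI ∧ hom h.toPlus m = x := by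
  constructor
  · rintro ⟨m, hm, rfl⟩
    exact ⟨m, mem_LI m (mem_cent_two.1 hm), rfl⟩
  · rintro ⟨m, hm, rfl⟩
    exact ⟨m, mem_cent_two.2 (dec_c1 m hm), rfl⟩

omit hy in
theorem mem_Q2 {x : G} : x ∈ Q2 h ↔ ∃ m, m ∈ LK ∧ hom h.toPlus m = x := by
  constructor
  · rintro ⟨m, hm, rfl⟩
    exact ⟨m, mem_LK m (mem_cent_two.1 hm), rfl⟩
  · rintro ⟨m, hm, rfl⟩
    exact ⟨m, mem_cent_two.2 (dec_c2 m hm), rfl⟩

omit hy in
theorem mem_A {x : G} : x ∈ A h ↔ ∃ m, m ∈ LA ∧ hom h.toPlus m = x := by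
  constructor
  · rintro ⟨m, hm, rfl⟩
    exact ⟨m, mem_LA m (mem_cent_two.1 hm), rfl⟩
  · rintro ⟨m, hm, rfl⟩
    exact ⟨m, mem_cent_two.2 (of_LA m hm), rfl⟩

omit hy in
theorem isQ1 : IsQ z (Q1 h) := by
  refine IsQ.mk' (i := i) (j := j) h.large.z_sq h.large.z_ne ((mem_Q1 h).2 ⟨mi, by decide, hom_i _⟩)
    ((mem_Q1 h).2 ⟨mj, by decide, hom_j _⟩) h.ii h.jj h.ji ?_
  intro q hq
  obtain ⟨m, hm, rfl⟩ := (mem_Q1 h).1 hq
  have hm' : m = 1 ∨ m = mi ∨ m = mj ∨ m = mi * mj ∨ m = zz ∨ m = mi * zz ∨ m = mj * zz ∨ m = mi * mj * zz := by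
    simpa [LI] using hm
  rcases hm' with rfl | rfl | rfl | rfl | rfl | rfl | rfl | rfl <;>
    simp only [map_mul, map_one, hom_i, hom_j, hom_zz, true_or, or_true]

omit hy in
theorem isQ2 : IsQ z (Q2 h) := by
  refine IsQ.mk' (i := k) (j := l) h.large.z_sq h.large.z_ne ((mem_Q2 h).2 ⟨mk, by decide, hom_k _⟩)
    ((mem_Q2 h).2 ⟨ml, by decide, hom_l _⟩) h.kk h.ll h.lk ?_
  intro q hq
  obtain ⟨m, hm, rfl⟩ := (mem_Q2 h).1 hq
  have hm' : m = 1 ∨ m = mk ∨ m = ml ∨ m = mk * ml ∨ m = zz ∨ m = mk * zz ∨ m = ml * zz ∨ m = mk * ml * zz := by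
    simpa [LK] using hm
  rcases hm' with rfl | rfl | rfl | rfl | rfl | rfl | rfl | rfl <;>
    simp only [map_mul, map_one, hom_k, hom_l, hom_zz, true_or, or_true]

omit hy in
theorem isQQ : IsQQ z (Q1 h) (Q2 h) Q where
  q1 := isQ1 h
  q2 := isQ2 h
  le1 := by
    intro x hx
    obtain ⟨m, -, rfl⟩ := (mem_Q1 h).1 hx
    exact hom_mem _ _
  le2 := by
    intro x hx
    obtain ⟨m, -, rfl⟩ := (mem_Q2 h).1 hx
    exact hom_mem _ _
  com := by
    intro x hx w hw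
    obtain ⟨m, hm, rfl⟩ := (mem_Q1 h).1 hx
    obtain ⟨n, hn, rfl⟩ := (mem_Q2 h).1 hw
    rw [← map_mul, ← map_mul, dec_com m hm n hn]
  inf := by
    intro x hx hw
    obtain ⟨m, hm, rfl⟩ := (mem_Q1 h).1 hx
    obtain ⟨n, hn, e⟩ := (mem_Q2 h).1 hw
    rw [hom_eq_iff] at e
    subst e
    rcases dZ _ (dec_c1 _ hm) (dec_c2 _ hn) with rfl | rfl
    · left; rw [map_one]
    · right; rw [hom_zz]
  mem := by
    intro r hr
    obtain ⟨m, rfl⟩ := exists_hom h.toPlus hr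
    obtain ⟨a, ha, b, hb, e⟩ := dec_mem m
    exact ⟨_, (mem_Q1 h).2 ⟨a, ha, rfl⟩, _, (mem_Q2 h).2 ⟨b, hb, rfl⟩, by rw [e, map_mul]⟩

theorem sheet [Finite G] (hodd : Odd (Subgroup.centralizer ({z} : Set G)).index)
    {m : ℕ} (hc : Nat.card G = 2 ^ 6 * m) (hm : Odd m) : Sheet G (S h hy) Q z := by
  refine Sheet.of_QQ (core h hy hodd hc hm).sheet0 (isQQ h) (fun p hp hr => cR h hy hodd hp hr) (d := x₁) (x1_z h)
    ?_ ?_ ?_
  · have := h.x₁3
    rwa [pow_succ, pow_two] at this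
  · intro w hw
    obtain ⟨n, hn, rfl⟩ := (mem_Q2 h).1 hw
    rw [x1_hom h, dX n (dec_c2 n hn)]
  · intro x hx hx1 hxz
    obtain ⟨n, hn, rfl⟩ := (mem_Q1 h).1 hx
    have h1 : n ≠ 1 := by
      rintro rfl
      exact hx1 (map_one _)
    have h2 : n ≠ zz := by
      rintro rfl
      exact hxz (hom_zz _)
    rw [x1_hom h, mul_inv_cancel_right, Ne, hom_eq_iff, Ne]
    refine ⟨(dec_s1 n hn h1 h2).1, ?_⟩
    intro e
    apply (dec_s1 n hn h1 h2).2
    rw [← hom_eq_iff h.toPlus, e, map_mul, hom_zz]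

/-! ### the second local subgroup -/

theorem A_le_S : A h ≤ S h hy := by
  intro x hx
  obtain ⟨m, -, rfl⟩ := (mem_A h).1 hx
  exact Q_le_S h hy (hom_mem _ _)

include hy in
theorem cent_A (x : G) : (∀ a ∈ A h, x * a = a * x) ↔ x ∈ A h := by
  constructor
  · intro hx
    have h1 : x * z = z * x := hx z ((mem_A h).2 ⟨zz, by decide, hom_zz _⟩)
    obtain ⟨u, rfl⟩ := exists_code h h1
    have h2 := hx _ ((mem_A h).2 ⟨mi * mk, by decide, rfl⟩)
    have h3 := hx _ ((mem_A h).2 ⟨mj * ml, by decide, rfl⟩)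
    rw [← toG_kq h, comm_iff_code h hy] at h2 h3
    obtain ⟨h4, h5⟩ := dec_CA u h2 h3
    refine (mem_A h).2 ⟨u.1, mem_LA _ h5, ?_⟩
    rw [← toG_kq h, toG_inj]
    obtain ⟨m, w⟩ := u
    have hw : w = (0, 0, 0) := h4
    rw [hw]; rfl
  · intro hx a ha
    obtain ⟨m, hm, rfl⟩ := (mem_A h).1 hx
    obtain ⟨n, hn, rfl⟩ := (mem_A h).1 ha
    rw [← map_mul, ← map_mul, comm_LA m hm n hn]

theorem S_A {s : G} (hs : s ∈ S h hy) {a : G} (ha : a ∈ A h) : s * a * s⁻¹ ∈ A h := by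
  obtain ⟨⟨m', a', b', e⟩, rfl, h1, h2⟩ := (mem_S h hy).1 hs
  have h1' : a' = 0 := h1
  have h2' : b' = 0 := h2
  subst h1' h2'
  obtain ⟨m, hm, rfl⟩ := (mem_A h).1 ha
  refine (mem_A h).2 ⟨m' * act 0 0 e m * m'⁻¹, mem_LA _ (dec_S m' e m hm), ?_⟩
  rw [eq_mul_inv_iff_mul_eq, ← toG_kq h, ← toG_kq h, ← mulG h hy, ← mulG h hy, toG_inj]
  simp [mul, kq, act, it, tw, sg]

theorem S_cent (hodd : Odd (Subgroup.centralizer ({z} : Set G)).index) {a : G} (ha : a ∈ A h)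
    (hs : ∀ s ∈ S h hy, s * a = a * s) : ∀ p, p * z = z * p → a * p = p * a := by
  intro p hp
  rcases cR h hy hodd (S_comm h hy (A_le_S h hy ha)) (fun r hr => (hs r (Q_le_S h hy hr)).symm) with rfl | rfl
  · rw [one_mul, mul_one]
  · exact hp.symm

include h hy in
/-- **The row** from `Case9c`, an element `g` of `N(A)` moving `z` and generation. -/
theorem row [Finite G] (hodd : Odd (Subgroup.centralizer ({z} : Set G)).index)
    {m : ℕ} (hc : Nat.card G = 2 ^ 6 * m) (hm : Odd m) {g : G} (hgz : g * z * g⁻¹ = i * k * (j * l))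
    (hg1 : g * (i * k) * g⁻¹ = z * (j * l)) (hg2 : g * (j * l) * g⁻¹ = i * k)
    (hgen : ∀ H : Subgroup G, (∀ p, p * z = z * p → p ∈ H) →
      (∀ p, p * (i * k * (j * l)) = i * k * (j * l) * p → p ∈ H) → H = ⊤) : Row G := by
  have m1 : i * k ∈ A h := (mem_A h).2 ⟨mi * mk, by decide, by rw [map_mul, hom_i, hom_k]⟩
  have m2 : j * l ∈ A h := (mem_A h).2 ⟨mj * ml, by decide, by rw [map_mul, hom_j, hom_l]⟩
  have m3 : z ∈ A h := (mem_A h).2 ⟨zz, by decide, hom_zz _⟩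
  refine (core h hy hodd hc hm).row (sheet h hy hodd hc hm) ?_ (A_le_S h hy) (cent_A h hy)
    (fun s hs a ha => S_A h hy hs ha) (fun a ha hs => S_cent h hy hodd ha hs) (g := g) ?_ hgz
    (A_le_S h hy ((A h).mul_mem m1 m2)) hgen
  · intro x hx hr
    rcases cR h hy hodd hx hr with rfl | rfl
    · exact ⟨Q.one_mem, fun p _ => by rw [one_mul, mul_one]⟩
    · exact ⟨h.large.z_mem, fun p hp => hp.symm⟩
  · -- the preimage of `A` under the conjugation contains the generators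
    have hpre : ∀ a ∈ (A h).comap (MulAut.conj g).toMonoidHom, g * a * g⁻¹ ∈ A h := fun a ha => ha
    have p1 : i * k ∈ (A h).comap (MulAut.conj g).toMonoidHom := by
      show g * (i * k) * g⁻¹ ∈ A h
      rw [hg1]; exact (A h).mul_mem m3 m2
    have p2 : j * l ∈ (A h).comap (MulAut.conj g).toMonoidHom := by
      show g * (j * l) * g⁻¹ ∈ A h
      rw [hg2]; exact m1
    have p3 : z ∈ (A h).comap (MulAut.conj g).toMonoidHom := by
      show g * z * g⁻¹ ∈ A h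
      rw [hgz]; exact (A h).mul_mem m1 m2
    intro a ha
    apply hpre
    obtain ⟨n, hn, rfl⟩ := (mem_A h).1 ha
    have hn' : n = 1 ∨ n = mi * mk ∨ n = mj * ml ∨ n = mi * mk * (mj * ml) ∨ n = zz ∨ n = zz * (mi * mk) ∨
        n = zz * (mj * ml) ∨ n = zz * (mi * mk * (mj * ml)) := by
      simpa [LA] using hn
    rcases hn' with rfl | rfl | rfl | rfl | rfl | rfl | rfl | rfl <;>
      simp only [map_mul, map_one, hom_i, hom_j, hom_k, hom_l, hom_zz]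
    · exact one_mem _
    · exact p1
    · exact p2
    · exact mul_mem p1 p2
    · exact p3
    · exact mul_mem p3 p1
    · exact mul_mem p3 p2
    · exact mul_mem p3 (mul_mem p1 p2)

end

end Cfsg.Agent.OddHalf.D4.Small.KG23
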