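import Cfsg.Agent.OddHalf.D4.Final.Odd
import Cfsg.Agent.OddHalf.D4.Small.LFourK
import Cfsg.Agent.OddHalf.NI3.Bad.Use

/-!
# ODD half, D4: the row of the six small groups `L₃(3)`, `U₃(3)`, `L₄(3)`, `U₄(3)`, `PSp₄(3)`, `G₂(3)`

`row6`: the hypothesis of `NINode.d4_row`.
-/

set_option autoImplicit false

namespace Cfsg.Agent.OddHalf.D4.Small.Six

open Subgroup Cfsg Cfsg.Agent.OddHalf.Iface Cfsg.Agent.OddHalf.LieOddFam Cfsg.Agent.OddHalf.D4
  Cfsg.Agent.OddHalf.D4.Cut Cfsg.Agent.OddHalf.D4.Final.Odd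

universe u

/-- **the row of the six small groups over the field with three elements** -/
theorem row6 (h1173 : Start.P1173.{u}) : Row1.{u} (fun K _ => NI3.Bad.Small6 K) := by
  intro G _ C K S hr hz hP
  rcases hP with h | h | h | h | h | h
  · exact row_of_small h1173 (P := fun K _ => ∃ (F : Type) (_ : Field F) (_ : Fintype F), Fintype.card F = 3 ∧
      Nonempty (K ≃* Matrix.ProjectiveSpecialLinearGroup (Fin 3) F))
      (fun K _ ⟨F, _, _, hF, ⟨e⟩⟩ => Small.row_l33 hF e) G C K S hr hz h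
  · exact row_of_small h1173 (P := fun K _ => ∃ (F : Type) (_ : Field F) (_ : Fintype F), Fintype.card F = 9 ∧
      Nonempty (K ≃* PSU 3 F 3))
      (fun K _ ⟨F, _, _, hF, ⟨e⟩⟩ => Small.row_u33 hF e) G C K S hr hz h
  · exact row_of_sheetL h1173 (P := fun K _ => ∃ (F : Type) (_ : Field F) (_ : Fintype F), Fintype.card F = 3 ∧
      Nonempty (K ≃* Matrix.ProjectiveSpecialLinearGroup (Fin 4) F))
      (fun K _ ⟨F, _, _, hF, ⟨e⟩⟩ => Small.LFourK.hasSheetL hF e) G C K S hr hz h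
  · exact row_of_small h1173 (P := fun K _ => ∃ (F : Type) (_ : Field F) (_ : Fintype F), Fintype.card F = 9 ∧
      Nonempty (K ≃* PSU 4 F 3))
      (fun K _ ⟨F, _, _, hF, ⟨e⟩⟩ => Small.UFour.row hF e) G C K S hr hz h
  · exact row_of_small h1173 (P := fun K _ => ∃ (F : Type) (_ : Field F) (_ : Fintype F), Fintype.card F = 3 ∧
      Nonempty (K ≃* PSp 2 F))
      (fun K _ ⟨F, _, _, hF, ⟨e⟩⟩ => Small.row_psp43 hF e) G C K S hr hz h
  · exact row_of_small h1173 (P := fun K _ => FG2 K 3)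
      (fun K _ ⟨F, _, _, hF, ⟨e⟩⟩ => Small.row_g23 F hF e) G C K S hr hz h

end Cfsg.Agent.OddHalf.D4.Small.Six
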