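import Cfsg.Agent.OddHalf.D4.Small.Types
import Cfsg.Agent.OddHalf.D6.QThree.U43Facts

/-!
# ODD, D4, small Lie odd, `U₄(3)`: the local facts (helper890)

For a finite group with the configuration `Tw` (helper893):
* `isQQ`: `Q = ⟨i, j⟩ * ⟨k, l⟩`;
* `syl`: `⟨i, j, k, l, y, s⟩` of order `2 ^ 7`;
* `abel`: `A = ⟨z, s, i k, j l⟩`, `C(A) = A`, normalised by `syl` and by `d`.
-/

set_option autoImplicit false

namespace Cfsg.Agent.OddHalf.D4.Small.UFour

open Subgroup Cfsg.Agent.Co2Type.Quad Cfsg.Agent.LargeExtra.W2 Cfsg.Agent.LargeExtra.W2.CM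
open Cfsg.Agent.LargeExtra.W2.U43 Cfsg.Agent.LargeExtra.W2.U43.ExistsD Cfsg.Agent.LargeExtra.W2.U43.InvClass
open Cfsg.Agent.OddHalf.D6.QThree.U43Facts

variable {G : Type*} [Group G] {Q : Subgroup G} {z i j k l x₁ x₂ y s d : G}

/-! ### `Q₁`, `Q₂` -/

theorem qmul_eq (p q : Qt) : p.mul q = ⟨xor (xor p.s q.s) (xor (xor (xor (p.a && q.a) (p.b && q.b)) (p.b && q.a))
      (xor (xor (p.c && q.c) (p.d && q.d)) (p.d && q.c))),
    xor p.a q.a, xor p.b q.b, xor p.c q.c, xor p.d q.d⟩ := rfl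

/-- a finite multiplicatively closed set of elements is a subgroup -/
def ofMul [Finite G] (S : Set G) (h1 : (1 : G) ∈ S) (hm : ∀ a ∈ S, ∀ b ∈ S, a * b ∈ S) : Subgroup G where
  carrier := S
  one_mem' := h1
  mul_mem' := fun ha hb => hm _ ha _ hb
  inv_mem' := by
    intro a ha
    have h2 : ∀ n : ℕ, a ^ n ∈ S := by
      intro n
      induction n with
      | zero => rw [pow_zero]; exact h1
      | succ n ih => rw [pow_succ]; exact hm _ ih _ ha
    have h3 : a⁻¹ = a ^ (orderOf a - 1) := by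
      rw [inv_eq_iff_mul_eq_one, ← pow_succ', Nat.sub_add_cancel (orderOf_pos a), pow_orderOf_eq_one]
    rw [h3]
    exact h2 _

theorem mem_ofMul [Finite G] {S : Set G} {h1 : (1 : G) ∈ S} {hm : ∀ a ∈ S, ∀ b ∈ S, a * b ∈ S} {x : G} :
    x ∈ ofMul S h1 hm ↔ x ∈ S := Iff.rfl

variable [Finite G]

/-- `⟨i, j⟩` -/
def Q1 (R : Rules true false true z i j k l x₁ x₂ y s) : Subgroup G :=
  ofMul {x | ∃ σ a b : Bool, x = Qt.ev z i j k l ⟨σ, a, b, false, false⟩}
    ⟨false, false, false, by simp [Qt.ev, pw]⟩ (by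
      rintro _ ⟨σ, a, b, rfl⟩ _ ⟨σ', a', b', rfl⟩
      rw [evQ_mul R]
      exact ⟨_, _, _, rfl⟩)

/-- `⟨k, l⟩` -/
def Q2 (R : Rules true false true z i j k l x₁ x₂ y s) : Subgroup G :=
  ofMul {x | ∃ σ a b : Bool, x = Qt.ev z i j k l ⟨σ, false, false, a, b⟩}
    ⟨false, false, false, by simp [Qt.ev, pw]⟩ (by
      rintro _ ⟨σ, a, b, rfl⟩ _ ⟨σ', a', b', rfl⟩
      rw [evQ_mul R]
      exact ⟨_, _, _, rfl⟩)

theorem isQ1 (R : Rules true false true z i j k l x₁ x₂ y s) (z1 : z ≠ 1) : IsQ z (Q1 R) := by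
  refine IsQ.mk' (i := i) (j := j) R.zz z1 ⟨false, true, false, by simp [Qt.ev, pw]⟩
    ⟨false, false, true, by simp [Qt.ev, pw]⟩ R.ii R.jj (by coll R) ?_
  rintro _ ⟨σ, a, b, rfl⟩
  have hz1 : z * i = i * z := R.zi.symm
  have hz2 : z * j = j * z := R.zj.symm
  have hz3 : z * (i * j) = i * j * z := by rw [← mul_assoc, hz1, mul_assoc, hz2, mul_assoc]
  rcases σ with _ | _ <;> rcases a with _ | _ <;> rcases b with _ | _ <;>
    simp [Qt.ev, pw, hz1, hz2, hz3]

theorem isQ2 (R : Rules true false true z i j k l x₁ x₂ y s) (z1 : z ≠ 1) : IsQ z (Q2 R) := by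
  refine IsQ.mk' (i := k) (j := l) R.zz z1 ⟨false, true, false, by simp [Qt.ev, pw]⟩
    ⟨false, false, true, by simp [Qt.ev, pw]⟩ R.kk R.ll (by coll R) ?_
  rintro _ ⟨σ, a, b, rfl⟩
  have hz1 : z * k = k * z := R.zk.symm
  have hz2 : z * l = l * z := R.zl.symm
  have hz3 : z * (k * l) = k * l * z := by rw [← mul_assoc, hz1, mul_assoc, hz2, mul_assoc]
  rcases σ with _ | _ <;> rcases a with _ | _ <;> rcases b with _ | _ <;>
    simp [Qt.ev, pw, hz1, hz2, hz3]

theorem ev_mem (h : Tw Q z i j k l x₁ x₂ y s) (w : Qt) : w.ev z i j k l ∈ Q := by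
  have hz : z ∈ Q := h.large.z_mem
  have hi : i ∈ Q := by rw [h.gen]; exact subset_closure (by simp)
  have hj : j ∈ Q := by rw [h.gen]; exact subset_closure (by simp)
  have hk : k ∈ Q := by rw [h.gen]; exact subset_closure (by simp)
  have hl : l ∈ Q := by rw [h.gen]; exact subset_closure (by simp)
  have key : ∀ (b : Bool) (g : G), g ∈ Q → pw b g ∈ Q := by
    intro b g hg
    cases b
    · exact one_mem _
    · exact hg
  exact mul_mem (key _ _ hz) (mul_mem (key _ _ hi) (mul_mem (key _ _ hj) (mul_mem (key _ _ hk) (key _ _ hl))))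

/-- `Q = Q₁ * Q₂` -/
theorem isQQ (h : Tw Q z i j k l x₁ x₂ y s) : IsQQ z (Q1 h.rules) (Q2 h.rules) Q where
  q1 := isQ1 h.rules h.large.z_ne
  q2 := isQ2 h.rules h.large.z_ne
  le1 := by
    rintro _ ⟨σ, a, b, rfl⟩
    exact ev_mem h _
  le2 := by
    rintro _ ⟨σ, a, b, rfl⟩
    exact ev_mem h _
  com := by
    rintro _ ⟨σ, a, b, rfl⟩ _ ⟨σ', a', b', rfl⟩
    rw [evQ_mul h.rules, evQ_mul h.rules]
    congr 1
    cases σ <;> cases σ' <;> cases a <;> cases b <;> cases a' <;> cases b' <;> rfl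
  inf := by
    rintro _ ⟨σ, a, b, rfl⟩ ⟨σ', a', b', h1⟩
    have h2 := evQ_inj h h1
    injection h2 with h3 h4 h5 h6 h7
    subst h4 h5
    cases σ
    · left; simp [Qt.ev, pw]
    · right; simp [Qt.ev, pw]
  mem := by
    intro r hr
    obtain ⟨w, rfl⟩ := exists_qt h hr
    refine ⟨_, ⟨w.s, w.a, w.b, rfl⟩, _, ⟨false, w.c, w.d, rfl⟩, ?_⟩
    rw [evQ_mul h.rules]
    congr 1
    obtain ⟨σ, a, b, c, d⟩ := w
    cases σ <;> cases a <;> cases b <;> cases c <;> cases d <;> rfl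

/-- the element `x₁` of order three -/
theorem x₁_facts (h : Tw Q z i j k l x₁ x₂ y s) :
    x₁ * z = z * x₁ ∧ x₁ * x₁ * x₁ = 1 ∧ (∀ r ∈ Q2 h.rules, x₁ * r = r * x₁) ∧
      ∀ x ∈ Q1 h.rules, x ≠ 1 → x ≠ z → x₁ * x * x₁⁻¹ ≠ x ∧ x₁ * x * x₁⁻¹ ≠ x * z := by
  have R := h.rules
  refine ⟨R.zx, by rw [mul_assoc]; exact R.xxx, ?_, ?_⟩
  · rintro _ ⟨σ, a, b, rfl⟩
    exact ax1 R _
  · rintro _ ⟨σ, a, b, rfl⟩ h1 h2
    have e : x₁ * Qt.ev z i j k l ⟨σ, a, b, false, false⟩ * x₁⁻¹ =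
        (Qt.x1 ⟨σ, a, b, false, false⟩).ev z i j k l := by
      rw [ax1 R, mul_inv_cancel_right]
    have ez : z = Qt.ev z i j k l ⟨true, false, false, false, false⟩ := by simp [Qt.ev, pw]
    constructor
    · intro h3
      rw [e] at h3
      have h4 := evQ_inj h h3
      injection h4 with h5 h6 h7 h8 h9
      have h6' : b = a := h6
      have h7' : xor a b = b := h7
      subst h6'
      cases b
      · cases σ
        · exact h1 (by simp [Qt.ev, pw])
        · exact h2 (by simp [Qt.ev, pw])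
      · exact absurd h7' (by decide)
    · intro h3
      rw [e] at h3
      nth_rewrite 3 [ez] at h3
      rw [evQ_mul R] at h3
      have h4 := evQ_inj h h3
      injection h4 with h5 h6 h7 h8 h9
      have h6' : b = xor a false := h6
      have h7' : xor a b = xor b false := h7
      subst h6'
      cases a
      · cases σ
        · exact h1 (by simp [Qt.ev, pw])
        · exact h2 (by simp [Qt.ev, pw])
      · exact absurd h7' (by decide)

/-! ### The Sylow 2-subgroup -/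

/-- `⟨i, j, k, l, y, s⟩` -/
def syl (R : Rules true false true z i j k l x₁ x₂ y s) : Subgroup G :=
  ofMul {x | ∃ t : T, t.m = C3.o ∧ t.n = C3.o ∧ x = t.ev z i j k l x₁ x₂ y s}
    ⟨T.one, rfl, rfl, ev_one.symm⟩ (by
      rintro _ ⟨t, h1, h2, rfl⟩ _ ⟨u, h3, h4, rfl⟩
      refine ⟨_, ?_, ?_, ev_mul R t u⟩
      · show t.m.add (ng t.e (bif t.f then u.n else u.m)) = C3.o
        rw [h1, h3, h4]
        cases t.e <;> cases t.f <;> rfl
      · show t.n.add (ng t.e (bif t.f then u.m else u.n)) = C3.o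
        rw [h2, h3, h4]
        cases t.e <;> cases t.f <;> rfl)

/-- `t ^ 16` -/
def p16 (t : T) : T :=
  let t2 := mu t t
  let t4 := mu t2 t2
  let t8 := mu t4 t4
  mu t8 t8

theorem chkP : allT (fun t => !(C3.eqb t.m C3.o && C3.eqb t.n C3.o) || T.beq (p16 t) T.one) = true := by
  decide +kernel

theorem syl_isPGroup (R : Rules true false true z i j k l x₁ x₂ y s) : IsPGroup 2 (syl R) := by
  rintro ⟨x, t, h1, h2, rfl⟩
  refine ⟨4, Subtype.ext ?_⟩
  show (t.ev z i j k l x₁ x₂ y s) ^ 2 ^ 4 = 1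
  have h3 := allT_spec chkP t
  rw [h1, h2, Bool.or_eq_true] at h3
  rcases h3 with h3 | h3
  · exact Bool.noConfusion h3
  · have h4 : p16 t = T.one := T.eq_of_beq h3
    have emul : ∀ t u : T, t.ev z i j k l x₁ x₂ y s * u.ev z i j k l x₁ x₂ y s =
        (mu t u).ev z i j k l x₁ x₂ y s := fun t u => ev_mul R t u
    have h5 : (t.ev z i j k l x₁ x₂ y s) ^ 2 ^ 4 = (p16 t).ev z i j k l x₁ x₂ y s := by
      have h6 : ∀ X : G, X ^ 2 ^ 4 = ((X * X) * (X * X) * ((X * X) * (X * X))) *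
          ((X * X) * (X * X) * ((X * X) * (X * X))) := fun X => by
        have e1 : X * X = X ^ 2 := (pow_two X).symm
        rw [e1, ← pow_add, ← pow_add, ← pow_add]; norm_num
      simp only [p16]
      rw [← emul, ← emul, ← emul, ← emul]
      exact h6 _
    rw [h5, h4, ev_one]

theorem syl_card (h : Tw Q z i j k l x₁ x₂ y s) : 2 ^ 7 ≤ Nat.card (syl h.rules) := by
  let f : (Bool × Bool × Bool × Bool × Bool) × Bool × Bool → syl h.rules := fun u =>
    ⟨T.ev z i j k l x₁ x₂ y s ⟨⟨u.1.1, u.1.2.1, u.1.2.2.1, u.1.2.2.2.1, u.1.2.2.2.2⟩, C3.o, C3.o, u.2.1, u.2.2⟩,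
      ⟨_, rfl, rfl, rfl⟩⟩
  have hf : Function.Injective f := by
    intro u v huv
    have h1 := ev_inj h.toCase9aa h.rules (congrArg Subtype.val huv)
    injection h1 with h2 h3 h4 h5 h6
    injection h2 with g1 g2 g3 g4 g5
    obtain ⟨⟨u1, u2, u3, u4, u5⟩, u6, u7⟩ := u
    obtain ⟨⟨v1, v2, v3, v4, v5⟩, v6, v7⟩ := v
    dsimp only at g1 g2 g3 g4 g5 h5 h6
    rw [g1, g2, g3, g4, g5, h5, h6]
  have h1 := Nat.card_le_card_of_injective f hf
  have h2 : Nat.card ((Bool × Bool × Bool × Bool × Bool) × Bool × Bool) = 2 ^ 7 := by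
    simp [Nat.card_prod, Nat.card_eq_fintype_card]
  rwa [h2] at h1

theorem syl_comm (R : Rules true false true z i j k l x₁ x₂ y s) {x : G} (hx : x ∈ syl R) : x * z = z * x := by
  obtain ⟨t, -, -, rfl⟩ := hx
  exact ev_comm R t

theorem le_syl (h : Tw Q z i j k l x₁ x₂ y s) : Q ≤ syl h.rules := by
  intro x hx
  obtain ⟨w, rfl⟩ := exists_qt h hx
  exact ⟨qt w, rfl, rfl, (ev_qt w).symm⟩

/-! ### The elementary abelian subgroup `A` -/

/-- the code of `z ^ σ (i k) ^ a (j l) ^ b s ^ f` -/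
def at' (σ a b f : Bool) : T := ⟨⟨σ, a, b, a, b⟩, C3.o, C3.o, false, f⟩

theorem at_mul (σ a b f σ' a' b' f' : Bool) : mu (at' σ a b f) (at' σ' a' b' f') =
    at' (xor σ σ') (xor a a') (xor b b') (xor f f') := by
  cases σ <;> cases a <;> cases b <;> cases f <;> cases σ' <;> cases a' <;> cases b' <;> cases f' <;> rfl

/-- `⟨z, s, i k, j l⟩` -/
def abel (R : Rules true false true z i j k l x₁ x₂ y s) : Subgroup G :=
  ofMul {x | ∃ σ a b f : Bool, x = (at' σ a b f).ev z i j k l x₁ x₂ y s}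
    ⟨false, false, false, false, ev_one.symm⟩ (by
      rintro _ ⟨σ, a, b, f, rfl⟩ _ ⟨σ', a', b', f', rfl⟩
      exact ⟨_, _, _, _, (ev_mul R _ _).trans (congrArg (T.ev z i j k l x₁ x₂ y s) (at_mul _ _ _ _ _ _ _ _))⟩)

theorem abel_le (R : Rules true false true z i j k l x₁ x₂ y s) : abel R ≤ syl R := by
  rintro _ ⟨σ, a, b, f, rfl⟩
  exact ⟨_, rfl, rfl, rfl⟩

theorem abel_comm (R : Rules true false true z i j k l x₁ x₂ y s) {a b : G} (ha : a ∈ abel R) (hb : b ∈ abel R) :
    a * b = b * a := by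
  obtain ⟨σ, a, b, f, rfl⟩ := ha
  obtain ⟨σ', a', b', f', rfl⟩ := hb
  rw [ev_mul R, ev_mul R]
  have h1 := at_mul σ a b f σ' a' b' f'
  have h2 := at_mul σ' a' b' f' σ a b f
  unfold mu at h1 h2
  rw [h1, h2, Bool.xor_comm σ', Bool.xor_comm a', Bool.xor_comm b', Bool.xor_comm f']

theorem abel_sq (R : Rules true false true z i j k l x₁ x₂ y s) {a : G} (ha : a ∈ abel R) : a * a = 1 := by
  obtain ⟨σ, a, b, f, rfl⟩ := ha
  rw [ev_mul R]
  have h1 := at_mul σ a b f σ a b f
  unfold mu at h1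
  rw [h1, Bool.xor_self, Bool.xor_self, Bool.xor_self, Bool.xor_self]
  exact ev_one

theorem z_mem (R : Rules true false true z i j k l x₁ x₂ y s) : z ∈ abel R :=
  ⟨true, false, false, false, ev_z.symm⟩

theorem s_mem (R : Rules true false true z i j k l x₁ x₂ y s) : s ∈ abel R :=
  ⟨false, false, false, true, ev_s.symm⟩

theorem ik_mem (R : Rules true false true z i j k l x₁ x₂ y s) : i * k ∈ abel R :=
  ⟨false, true, false, false, by simp [T.ev, Qt.ev, at', pw, pw3]⟩

theorem jl_mem (R : Rules true false true z i j k l x₁ x₂ y s) : j * l ∈ abel R :=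
  ⟨false, false, true, false, by simp [T.ev, Qt.ev, at', pw, pw3]⟩

theorem chkC : allT (fun t => !(T.beq (mu t ts) (mu ts t) && (T.beq (mu t tik) (mu tik t) &&
    T.beq (mu t tjl) (mu tjl t))) || T.beq t (at' t.w.s t.w.a t.w.b t.f)) = true := by
  decide +kernel

/-- `C(A) = A` -/
theorem abel_self (h : Tw Q z i j k l x₁ x₂ y s) {g : G} (hg : ∀ a ∈ abel h.rules, g * a = a * g) :
    g ∈ abel h.rules := by
  have R := h.rules
  obtain ⟨t, rfl⟩ := exists_ev h.toCase9aa R (hg z (z_mem R))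
  have emul : ∀ t u : T, t.ev z i j k l x₁ x₂ y s * u.ev z i j k l x₁ x₂ y s =
      (mu t u).ev z i j k l x₁ x₂ y s := fun t u => ev_mul R t u
  have key : ∀ u : T, u.ev z i j k l x₁ x₂ y s ∈ abel R → T.beq (mu t u) (mu u t) = true := by
    intro u hu
    have h1 := hg _ hu
    rw [emul, emul] at h1
    rw [T.beq_iff]
    exact ev_inj h.toCase9aa R h1
  have k1 := key ts (by rw [ev_s]; exact s_mem R)
  have k2 := key tik (by
    rw [tik, ← emul, ev_i, ev_k]; exact ik_mem R)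
  have k3 := key tjl (by
    rw [tjl, ← emul, ev_j, ev_l]; exact jl_mem R)
  have h3 := allT_spec chkC t
  rw [k1, k2, k3, Bool.or_eq_true] at h3
  rcases h3 with h3 | h3
  · exact Bool.noConfusion h3
  · exact ⟨_, _, _, _, congrArg (T.ev z i j k l x₁ x₂ y s) (T.eq_of_beq h3)⟩

theorem abel_gen (R : Rules true false true z i j k l x₁ x₂ y s) {H : Subgroup G} (hz : z ∈ H) (hs : s ∈ H)
    (hik : i * k ∈ H) (hjl : j * l ∈ H) : abel R ≤ H := by
  rintro _ ⟨σ, a, b, f, rfl⟩
  have e : (at' σ a b f).ev z i j k l x₁ x₂ y s = pw σ z * (pw a (i * k) * (pw b (j * l) * pw f s)) := by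
    have hkj := R.kj
    have h1 : k * (j * l) = j * (k * l) := by rw [← mul_assoc, hkj, mul_assoc]
    cases σ <;> cases a <;> cases b <;> cases f <;> simp [T.ev, Qt.ev, at', pw, pw3, mul_assoc] <;>
      rw [← mul_assoc k j, hkj, mul_assoc]
  rw [e]
  have key : ∀ (b : Bool) (g : G), g ∈ H → pw b g ∈ H := by
    intro b g hg
    cases b
    · exact one_mem _
    · exact hg
  exact mul_mem (key _ _ hz) (mul_mem (key _ _ hik) (mul_mem (key _ _ hjl) (key _ _ hs)))

/-- conjugation into `A` from the generators -/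
theorem abel_conj (R : Rules true false true z i j k l x₁ x₂ y s) {g : G} (hz : g * z * g⁻¹ ∈ abel R)
    (hs : g * s * g⁻¹ ∈ abel R) (hik : g * (i * k) * g⁻¹ ∈ abel R) (hjl : g * (j * l) * g⁻¹ ∈ abel R) :
    ∀ a ∈ abel R, g * a * g⁻¹ ∈ abel R := by
  have h1 : abel R ≤ (abel R).comap (MulAut.conj g).toMonoidHom := abel_gen R hz hs hik hjl
  intro a ha
  exact h1 ha

theorem chkN : allT (fun t => !(C3.eqb t.m C3.o && C3.eqb t.n C3.o) ||
    ([tz, ts, tik, tjl].all fun a => anyL [at' false false false false, at' true false false false,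
      at' false true false false, at' true true false false, at' false false true false, at' true false true false,
      at' false true true false, at' true true true false, at' false false false true, at' true false false true,
      at' false true false true, at' true true false true, at' false false true true, at' true false true true,
      at' false true true true, at' true true true true] fun b => T.beq (mu t a) (mu b t))) = true := by
  decide +kernel

/-- the Sylow 2-subgroup normalises `A` -/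
theorem syl_norm (R : Rules true false true z i j k l x₁ x₂ y s) {g : G} (hg : g ∈ syl R) :
    ∀ a ∈ abel R, g * a * g⁻¹ ∈ abel R := by
  obtain ⟨t, h1, h2, rfl⟩ := hg
  have h3 := allT_spec chkN t
  rw [h1, h2, Bool.or_eq_true] at h3
  have emul : ∀ t u : T, t.ev z i j k l x₁ x₂ y s * u.ev z i j k l x₁ x₂ y s =
      (mu t u).ev z i j k l x₁ x₂ y s := fun t u => ev_mul R t u
  rcases h3 with h3 | h3
  · exact Bool.noConfusion h3
  · rw [List.all_eq_true] at h3
    have key : ∀ a ∈ [tz, ts, tik, tjl], t.ev z i j k l x₁ x₂ y s * a.ev z i j k l x₁ x₂ y s *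
        (t.ev z i j k l x₁ x₂ y s)⁻¹ ∈ abel R := by
      intro a ha
      obtain ⟨b, hb, h4⟩ := anyL_mem (h3 a ha)
      have h5 := T.eq_of_beq h4
      have h6 : ∃ σ a b' f, b = at' σ a b' f := by
        simp only [List.mem_cons, List.not_mem_nil, or_false] at hb
        rcases hb with rfl | rfl | rfl | rfl | rfl | rfl | rfl | rfl | rfl | rfl | rfl | rfl | rfl | rfl | rfl | rfl <;>
          exact ⟨_, _, _, _, rfl⟩
      obtain ⟨σ, a', b', f, rfl⟩ := h6
      refine ⟨σ, a', b', f, ?_⟩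
      rw [mul_inv_eq_iff_eq_mul, emul, emul, h5]
    have k1 := key tz (by simp)
    have k2 := key ts (by simp)
    have k3 := key tik (by simp)
    have k4 := key tjl (by simp)
    rw [ev_z] at k1
    rw [ev_s] at k2
    rw [tik, ← emul, ev_i, ev_k] at k3
    rw [tjl, ← emul, ev_j, ev_l] at k4
    exact abel_conj R k1 k2 k3 k4

/-- `d` normalises `A` -/
theorem d_norm (R : Rules true false true z i j k l x₁ x₂ y s) (hd : Del z i j k l x₁ x₂ y s d) :
    ∀ a ∈ abel R, d * a * d⁻¹ ∈ abel R := by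
  apply abel_conj R
  · rw [hd.dz]; exact s_mem R
  · rw [hd.ds]; exact mul_mem (s_mem R) (z_mem R)
  · rw [hd.dik, mul_inv_cancel_right]; exact ik_mem R
  · rw [hd.djl, mul_inv_cancel_right]; exact jl_mem R

end Cfsg.Agent.OddHalf.D4.Small.UFour
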